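import Cfsg.Agent.H98.Ore.Defs
set_option linter.all false

-- part: H98/Ore/FrameA
section
/-!
# Frames with their orthogonal complement; maps between frames
-/

set_option autoImplicit false
set_option linter.unusedSectionVars false

namespace Cfsg.Agent.H98.Ore

open Module Polynomial Cfsg.Agent.H951 Matrix

variable {F V : Type*} [Field F] [Fintype F] [AddCommGroup V] [Module F V] [FiniteDimensional F V]
  {q : ℕ} {σ : F →+* F} {B : V → V → F}

lemma HS.symm (hB : HS q σ B) (u v : V) : B v u = σ (B u v) := by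
  rw [hB.frm.herm u v, one_mul]

lemma HS.ss (hB : HS q σ B) (a : F) : σ (σ a) = a := hB.frm.sigma_sq a

lemma HS.nd' (hB : HS q σ B) (u : V) (h : ∀ v, B v u = 0) : u = 0 :=
  hB.nd u fun v => by rw [hB.symm v u, h v, map_zero]

lemma HS.add_left (hB : HS q σ B) (u v w : V) : B (u + v) w = B u w + B v w := hB.frm.add_left u v w
lemma HS.add_right (hB : HS q σ B) (u v w : V) : B w (u + v) = B w u + B w v := hB.frm.add_right u v w
lemma HS.smul_left (hB : HS q σ B) (a : F) (u v : V) : B (a • u) v = a * B u v := hB.frm.smul_left a u v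
lemma HS.smul_right (hB : HS q σ B) (a : F) (u v : V) : B u (a • v) = σ a * B u v := hB.frm.smul_right a u v
lemma HS.sub_left (hB : HS q σ B) (u v w : V) : B (u - v) w = B u w - B v w := hB.frm.sub_left u v w
lemma HS.sub_right (hB : HS q σ B) (u v w : V) : B w (u - v) = B w u - B w v := hB.frm.sub_right u v w
lemma HS.zero_left (hB : HS q σ B) (v : V) : B 0 v = 0 := hB.frm.zero_left v
lemma HS.zero_right (hB : HS q σ B) (v : V) : B v 0 = 0 := hB.frm.zero_right v

lemma HS.sig_inj (_hB : HS q σ B) : Function.Injective σ := σ.injective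

/-- A frame `w, w'` with an orthonormal family `l` spanning the orthogonal complement. -/
structure FF (B : V → V → F) {ι μ : Type} [Fintype ι] [DecidableEq ι] [Fintype μ] [DecidableEq μ]
    (w w' : ι → V) (l : μ → V) : Prop where
  fr : Fr B w w'
  ll : ∀ i j, B (l i) (l j) = if i = j then 1 else 0
  lw : ∀ i j, B (l i) (w j) = 0
  lw' : ∀ i j, B (l i) (w' j) = 0
  full : ∀ u, (∀ i, B u (w i) = 0) → (∀ i, B u (w' i) = 0) → (∀ i, B u (l i) = 0) → u = 0

section

variable {ι μ : Type} [Fintype ι] [DecidableEq ι] [Fintype μ] [DecidableEq μ] {w w' : ι → V} {l : μ → V}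

lemma Fr.dual' (hB : HS q σ B) (h : Fr B w w') (i j : ι) : B (w' i) (w j) = if i = j then 1 else 0 := by
  rw [hB.symm (w j) (w' i), h.dual]
  split_ifs with h1 h2 h2
  · exact map_one σ
  · exact absurd h1.symm h2
  · exact absurd h2.symm h1
  · exact map_zero σ

lemma Fr.swap (hB : HS q σ B) (h : Fr B w w') : Fr B w' w :=
  ⟨h.ww', h.dual' hB, h.ww⟩

lemma FF.wl (hB : HS q σ B) (h : FF B w w' l) (i : ι) (j : μ) : B (w i) (l j) = 0 := by
  rw [hB.symm (l j) (w i), h.lw, map_zero]

lemma FF.w'l (hB : HS q σ B) (h : FF B w w' l) (i : ι) (j : μ) : B (w' i) (l j) = 0 := by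
  rw [hB.symm (l j) (w' i), h.lw', map_zero]

lemma FF.swap (hB : HS q σ B) (h : FF B w w' l) : FF B w' w l :=
  ⟨h.fr.swap hB, h.ll, h.lw', h.lw, fun u h1 h2 h3 => h.full u h2 h1 h3⟩

/-- The map with prescribed values on a frame. -/
noncomputable def fmap (B : V → V → F) (hB : HS q σ B) (w w' : ι → V) (l : μ → V) (v v' : ι → V) (k : μ → V) :
    End F V where
  toFun u := ∑ i, B u (w' i) • v i + ∑ i, B u (w i) • v' i + ∑ i, B u (l i) • k i
  map_add' a b := by
    simp only [hB.add_left, add_smul, Finset.sum_add_distrib]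
    abel
  map_smul' c a := by
    simp only [hB.smul_left, mul_smul, RingHom.id_apply, smul_add, Finset.smul_sum]

lemma fmap_apply (hB : HS q σ B) (v v' : ι → V) (k : μ → V) (u : V) :
    fmap B hB w w' l v v' k u = ∑ i, B u (w' i) • v i + ∑ i, B u (w i) • v' i + ∑ i, B u (l i) • k i := rfl

lemma sum_left' (hB : HS q σ B) {κ : Type*} (s : Finset κ) (a : κ → F) (x : κ → V) (y : V) :
    B (∑ i ∈ s, a i • x i) y = ∑ i ∈ s, a i * B (x i) y := by
  rw [hB.frm.sum_left]
  simp only [hB.smul_left]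

lemma sum_right' (hB : HS q σ B) {κ : Type*} (s : Finset κ) (a : κ → F) (x : κ → V) (y : V) :
    B y (∑ i ∈ s, a i • x i) = ∑ i ∈ s, σ (a i) * B y (x i) := by
  rw [hB.frm.sum_right]
  simp only [hB.smul_right]

/-- Expansion along a full frame. -/
lemma FF.expand (hB : HS q σ B) (h : FF B w w' l) (u : V) :
    u = ∑ i, B u (w' i) • w i + ∑ i, B u (w i) • w' i + ∑ i, B u (l i) • l i := by
  have key := h.full (u - (∑ i, B u (w' i) • w i + ∑ i, B u (w i) • w' i + ∑ i, B u (l i) • l i)) ?_ ?_ ?_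
  · exact sub_eq_zero.1 key
  · intro j
    rw [hB.sub_left, hB.add_left, hB.add_left, sum_left' hB, sum_left' hB, sum_left' hB]
    simp [h.fr.ww, h.fr.dual' hB, h.lw]
  · intro j
    rw [hB.sub_left, hB.add_left, hB.add_left, sum_left' hB, sum_left' hB, sum_left' hB]
    simp [h.fr.ww', h.fr.dual, h.lw']
  · intro j
    rw [hB.sub_left, hB.add_left, hB.add_left, sum_left' hB, sum_left' hB, sum_left' hB]
    simp [h.ll, h.wl hB, h.w'l hB]

variable {v v' : ι → V} {k : μ → V}

lemma fmap_w (hB : HS q σ B) (h : FF B w w' l) (j : ι) : fmap B hB w w' l v v' k (w j) = v j := by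
  rw [fmap_apply]
  simp [h.fr.ww, h.fr.dual, h.wl hB]

lemma fmap_w' (hB : HS q σ B) (h : FF B w w' l) (j : ι) : fmap B hB w w' l v v' k (w' j) = v' j := by
  rw [fmap_apply]
  simp [h.fr.ww', h.fr.dual' hB, h.w'l hB]

lemma fmap_l (hB : HS q σ B) (h : FF B w w' l) (j : μ) : fmap B hB w w' l v v' k (l j) = k j := by
  rw [fmap_apply]
  simp [h.lw', h.lw, h.ll]

lemma fmap_isom (hB : HS q σ B) (h : FF B w w' l) (h2 : FF B v v' k) : Isom B (fmap B hB w w' l v v' k) := by
  intro a b
  have e1 : ∀ i, B (v i) (fmap B hB w w' l v v' k b) = B (w i) b := by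
    intro i
    rw [fmap_apply, hB.add_right, hB.add_right, sum_right' hB, sum_right' hB, sum_right' hB]
    simp [h2.fr.ww, h2.fr.dual, h2.wl hB, ← hB.symm]
  have e2 : ∀ i, B (v' i) (fmap B hB w w' l v v' k b) = B (w' i) b := by
    intro i
    rw [fmap_apply, hB.add_right, hB.add_right, sum_right' hB, sum_right' hB, sum_right' hB]
    simp [h2.fr.ww', h2.fr.dual' hB, h2.w'l hB, ← hB.symm]
  have e3 : ∀ i, B (k i) (fmap B hB w w' l v v' k b) = B (l i) b := by
    intro i
    rw [fmap_apply, hB.add_right, hB.add_right, sum_right' hB, sum_right' hB, sum_right' hB]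
    simp [h2.lw, h2.lw', h2.ll, ← hB.symm]
  conv_lhs => rw [fmap_apply]
  conv_rhs => rw [h.expand hB a]
  simp only [hB.add_left, sum_left' hB, e1, e2, e3]

end

end Cfsg.Agent.H98.Ore
end

-- part: H98/Ore/FrameB
section
/-!
# Completing a frame, determinants
-/

set_option autoImplicit false
set_option linter.unusedSectionVars false

namespace Cfsg.Agent.H98.Ore

open Module Polynomial Cfsg.Agent.H951 Matrix

variable {F V : Type*} [Field F] [Fintype F] [AddCommGroup V] [Module F V] [FiniteDimensional F V]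
  {q : ℕ} {σ : F →+* F} {B : V → V → F}
  {ι μ : Type} [Fintype ι] [DecidableEq ι] [Fintype μ] [DecidableEq μ] {w w' : ι → V} {l : μ → V}

lemma Isom.inj' (hB : HS q σ B) {x : End F V} (hx : Isom B x) : Function.Injective x := by
  rw [← LinearMap.ker_eq_bot, LinearMap.ker_eq_bot']
  intro u hu
  apply hB.nd
  intro v
  rw [← hx, hu, hB.zero_left]

/-- The basis attached to a full frame. -/
noncomputable def FF.basis (hB : HS q σ B) (h : FF B w w' l) : Basis (ι ⊕ (μ ⊕ ι)) F V :=
  Basis.ofEquivFun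
    { toFun := fun u => Sum.elim (fun i => B u (w' i)) (Sum.elim (fun i => B u (l i)) (fun i => B u (w i)))
      invFun := fun a => ∑ i, a (Sum.inl i) • w i + ∑ i, a (Sum.inr (Sum.inr i)) • w' i +
        ∑ i, a (Sum.inr (Sum.inl i)) • l i
      map_add' := by
        intro u v
        funext i
        rcases i with i | i | i <;> simp [hB.add_left]
      map_smul' := by
        intro c u
        funext i
        rcases i with i | i | i <;> simp [hB.smul_left]
      left_inv := by
        intro u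
        simp only [Sum.elim_inl, Sum.elim_inr]
        exact (h.expand hB u).symm
      right_inv := by
        intro a
        funext j
        rcases j with j | j | j
        · simp only [Sum.elim_inl]
          rw [hB.add_left, hB.add_left, sum_left' hB, sum_left' hB, sum_left' hB]
          simp [h.fr.ww', h.fr.dual, h.lw']
        · simp only [Sum.elim_inl, Sum.elim_inr]
          rw [hB.add_left, hB.add_left, sum_left' hB, sum_left' hB, sum_left' hB]
          simp [h.ll, h.wl hB, h.w'l hB]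
        · simp only [Sum.elim_inr]
          rw [hB.add_left, hB.add_left, sum_left' hB, sum_left' hB, sum_left' hB]
          simp [h.fr.ww, h.fr.dual' hB, h.lw] }

lemma FF.basis_repr (hB : HS q σ B) (h : FF B w w' l) (u : V) :
    ((h.basis hB).repr u : ι ⊕ (μ ⊕ ι) → F) =
      Sum.elim (fun i => B u (w' i)) (Sum.elim (fun i => B u (l i)) (fun i => B u (w i))) := by
  funext i
  rw [FF.basis, Basis.ofEquivFun_repr_apply]
  rfl

lemma FF.basis_inl (hB : HS q σ B) (h : FF B w w' l) (i : ι) : h.basis hB (Sum.inl i) = w i := by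
  apply (h.basis hB).repr.injective
  ext j
  rw [Basis.repr_self, congrFun (h.basis_repr hB (w i)) j]
  rcases j with j | j | j
  · simp [h.fr.dual, Finsupp.single_apply]
  · simp [h.wl hB]
  · simp [h.fr.ww]

lemma FF.basis_mid (hB : HS q σ B) (h : FF B w w' l) (i : μ) : h.basis hB (Sum.inr (Sum.inl i)) = l i := by
  apply (h.basis hB).repr.injective
  ext j
  rw [Basis.repr_self, congrFun (h.basis_repr hB (l i)) j]
  rcases j with j | j | j
  · simp [h.lw']
  · simp [h.ll, Finsupp.single_apply]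
  · simp [h.lw]

lemma FF.basis_inr (hB : HS q σ B) (h : FF B w w' l) (i : ι) : h.basis hB (Sum.inr (Sum.inr i)) = w' i := by
  apply (h.basis hB).repr.injective
  ext j
  rw [Basis.repr_self, congrFun (h.basis_repr hB (w' i)) j]
  rcases j with j | j | j
  · simp [h.fr.ww']
  · simp [h.w'l hB]
  · simp [h.fr.dual' hB, Finsupp.single_apply]

lemma FF.finrank (hB : HS q σ B) (h : FF B w w' l) :
    finrank F V = 2 * Fintype.card ι + Fintype.card μ := by
  rw [Module.finrank_eq_card_basis (h.basis hB)]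
  simp
  ring

/-- The determinant of an isometry stabilising the span of `w`. -/
lemma FF.det_eq (hB : HS q σ B) (h : FF B w w' l) {x : End F V} (hx : Isom B x) {Z : Matrix ι ι F}
    (hZ : Z.det ≠ 0) (hxw : ∀ j, x (w j) = ∑ i, Z i j • w i) :
    LinearMap.det x * σ Z.det = Z.det * (Matrix.of fun i j => B (x (l j)) (l i)).det := by
  have hZu : IsUnit Z.det := isUnit_iff_ne_zero.2 hZ
  -- `w i` is in the span of `x (w j)`
  have hw : ∀ i, w i = ∑ k, Z⁻¹ k i • x (w k) := by
    intro i
    simp only [hxw, Finset.smul_sum, smul_smul]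
    rw [Finset.sum_comm]
    simp only [← Finset.sum_smul]
    have : ∀ j, (∑ k, Z⁻¹ k i * Z j k) = if j = i then 1 else 0 := by
      intro j
      have h1 : (Z * Z⁻¹) j i = (1 : Matrix ι ι F) j i := by rw [Matrix.mul_nonsing_inv Z hZu]
      rw [Matrix.mul_apply, Matrix.one_apply] at h1
      rw [← h1]
      exact Finset.sum_congr rfl fun k _ => mul_comm _ _
    simp [this]
  have hxl : ∀ j i, B (x (l j)) (w i) = 0 := by
    intro j i
    rw [hw i, sum_right' hB]
    apply Finset.sum_eq_zero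
    intro k _
    rw [hx, h.lw, mul_zero]
  have hxw' : ∀ j i, B (x (w' j)) (w i) = σ (Z⁻¹ j i) := by
    intro j i
    rw [hw i, sum_right' hB]
    simp [hx _ _, h.fr.dual' hB]
  have hM : LinearMap.toMatrix (h.basis hB) (h.basis hB) x = Matrix.fromBlocks Z
      (Matrix.of fun i j => B (x (Sum.elim l w' j)) (w' i)) 0
      (Matrix.fromBlocks (Matrix.of fun i j => B (x (l j)) (l i)) (Matrix.of fun i j => B (x (w' j)) (l i)) 0
        (Matrix.of fun i j => σ (Z⁻¹ j i))) := by
    ext i j
    rw [LinearMap.toMatrix_apply, congrFun (h.basis_repr hB _) i]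
    rcases j with j | j | j
    · rw [h.basis_inl hB, hxw j]
      rcases i with i | i | i
      · simp [sum_left' hB, h.fr.dual]
      · simp [sum_left' hB, h.wl hB]
      · simp [sum_left' hB, h.fr.ww]
    · rw [h.basis_mid hB]
      rcases i with i | i | i
      · simp
      · simp
      · simp [hxl]
    · rw [h.basis_inr hB]
      rcases i with i | i | i
      · simp
      · simp
      · simp [hxw']
  have hdet := LinearMap.det_toMatrix (h.basis hB) x
  rw [hM, Matrix.det_fromBlocks_zero₂₁, Matrix.det_fromBlocks_zero₂₁] at hdet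
  have h3 : (Matrix.of fun i j => σ (Z⁻¹ j i)).det = σ (Z⁻¹).det := by
    have : (Matrix.of fun i j => σ (Z⁻¹ j i)) = (σ.mapMatrix Z⁻¹)ᵀ := by
      ext i j; rfl
    rw [this, Matrix.det_transpose, RingHom.map_det]
  rw [h3] at hdet
  rw [← hdet, Matrix.det_nonsing_inv]
  have h4 : σ (Ring.inverse Z.det) * σ Z.det = 1 := by
    rw [← map_mul, Ring.inverse_mul_cancel _ hZu, map_one]
  linear_combination (Z.det * (Matrix.of fun i j => B (x (l j)) (l i)).det) * h4

/-- The determinant of an isometry has norm one. -/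
lemma Isom.det_norm (hB : HS q σ B) {x : End F V} (hx : Isom B x) :
    LinearMap.det x * σ (LinearMap.det x) = 1 := by
  classical
  let b := Module.finBasis F V
  let G : Matrix (Fin (Module.finrank F V)) (Fin (Module.finrank F V)) F := Matrix.of fun i j => B (b i) (b j)
  let M := LinearMap.toMatrix b b x
  have hxb : ∀ j, x (b j) = ∑ i, M i j • b i := by
    intro j
    have := b.sum_repr (x (b j))
    rw [← this]
    refine Finset.sum_congr rfl fun i _ => ?_
    change _ = (LinearMap.toMatrix b b x) i j • b i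
    rw [LinearMap.toMatrix_apply]
  have hG : G = Mᵀ * G * σ.mapMatrix M := by
    ext i j
    have h1 : G i j = B (x (b i)) (x (b j)) := (hx _ _).symm
    rw [h1, hxb i, hxb j, sum_left' hB]
    simp only [sum_right' hB]
    rw [Matrix.mul_apply]
    simp only [Matrix.mul_apply, Finset.sum_mul, Finset.mul_sum]
    rw [Finset.sum_comm]
    refine Finset.sum_congr rfl fun k _ => Finset.sum_congr rfl fun m _ => ?_
    simp only [Matrix.transpose_apply, RingHom.mapMatrix_apply, Matrix.map_apply, G, Matrix.of_apply]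
    ring
  have hG0 : G.det ≠ 0 := by
    intro h0
    obtain ⟨v, hv, hv0⟩ := Matrix.exists_vecMul_eq_zero_iff.2 h0
    apply hv
    have hs : ∑ i, v i • b i = 0 := by
      apply hB.nd
      intro y
      rw [← b.sum_repr y, sum_right' hB]
      apply Finset.sum_eq_zero
      intro j _
      rw [sum_left' hB]
      have := congrFun hv0 j
      rw [Matrix.vecMul, dotProduct] at this
      simp only [G, Matrix.of_apply, Pi.zero_apply] at this
      rw [this, mul_zero]
    have hli := Fintype.linearIndependent_iff.1 b.linearIndependent v hs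
    funext i
    exact hli i
  have h2 := congrArg Matrix.det hG
  rw [Matrix.det_mul, Matrix.det_mul, Matrix.det_transpose, ← RingHom.map_det] at h2
  have h3 : M.det = LinearMap.det x := LinearMap.det_toMatrix b x
  rw [h3] at h2
  have h4 : G.det * (LinearMap.det x * σ (LinearMap.det x)) = G.det * 1 := by
    rw [mul_one]; conv_rhs => rw [h2]
    ring
  exact mul_left_cancel₀ hG0 h4

end Cfsg.Agent.H98.Ore
end

-- part: H98/Ore/FrameC
section
/-!
# Completing a frame to a full frame; isometries between frames; `cor_det`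
-/

set_option autoImplicit false
set_option linter.unusedSectionVars false

namespace Cfsg.Agent.H98.Ore

open Module Polynomial Cfsg.Agent.H951 Matrix

variable {F V : Type*} [Field F] [Fintype F] [AddCommGroup V] [Module F V] [FiniteDimensional F V]
  {q : ℕ} {σ : F →+* F} {B : V → V → F}
  {ι : Type} [Fintype ι] [DecidableEq ι] {w w' : ι → V}

/-- evaluation on a frame -/
noncomputable def evf (B : V → V → F) (hB : HS q σ B) (w w' : ι → V) : V →ₗ[F] (ι → F) × (ι → F) where
  toFun u := (fun i => B u (w' i), fun i => B u (w i))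
  map_add' a b := by
    ext i <;> simp [hB.add_left]
  map_smul' c a := by
    ext i <;> simp [hB.smul_left]

lemma evf_surj (hB : HS q σ B) (h : Fr B w w') : Function.Surjective (evf B hB w w') := by
  rintro ⟨a, b⟩
  refine ⟨∑ i, a i • w i + ∑ i, b i • w' i, ?_⟩
  ext j
  · simp [evf, hB.add_left, sum_left' hB, h.dual, h.ww']
  · simp [evf, hB.add_left, sum_left' hB, h.dual' hB, h.ww]

lemma finrank_ker_evf (hB : HS q σ B) (h : Fr B w w') :
    finrank F (LinearMap.ker (evf B hB w w')) + 2 * Fintype.card ι = finrank F V := by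
  have h1 := LinearMap.finrank_range_add_finrank_ker (evf B hB w w')
  rw [LinearMap.range_eq_top.2 (evf_surj hB h), finrank_top, Module.finrank_prod,
    Module.finrank_fintype_fun_eq_card] at h1
  omega

lemma mem_ker_evf (hB : HS q σ B) (u : V) : u ∈ LinearMap.ker (evf B hB w w') ↔
    (∀ i, B u (w i) = 0) ∧ (∀ i, B u (w' i) = 0) := by
  rw [LinearMap.mem_ker]
  constructor
  · intro h
    exact ⟨fun i => congrFun (congrArg Prod.snd h) i, fun i => congrFun (congrArg Prod.fst h) i⟩
  · rintro ⟨h1, h2⟩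
    ext i
    · exact h2 i
    · exact h1 i

lemma exists_FF_even (hB : HS q σ B) (h : Fr B w w') (hn : finrank F V = 2 * Fintype.card ι) :
    FF B w w' (fun i : Fin 0 => i.elim0) where
  fr := h
  ll i := i.elim0
  lw i := i.elim0
  lw' i := i.elim0
  full u h1 h2 _ := by
    have h3 := finrank_ker_evf hB h
    have h4 : LinearMap.ker (evf B hB w w') = ⊥ := by
      rw [← Submodule.finrank_eq_zero (R := F)]
      omega
    have h5 := (mem_ker_evf (w := w) (w' := w') hB u).2 ⟨h1, h2⟩
    rw [h4] at h5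
    exact (Submodule.mem_bot F).1 h5

lemma exists_FF_odd (hB : HS q σ B) (h : Fr B w w') (hn : finrank F V = 2 * Fintype.card ι + 1) :
    ∃ l : Fin 1 → V, FF B w w' l := by
  have h3 := finrank_ker_evf hB h
  obtain ⟨⟨l₀, hl₀⟩, hl0, hspan⟩ := finrank_eq_one_iff'.1 (show finrank F (LinearMap.ker (evf B hB w w')) = 1 by omega)
  have hl0' : l₀ ≠ 0 := fun h0 => hl0 (Subtype.ext h0)
  have hspan' : ∀ u, (∀ i, B u (w i) = 0) → (∀ i, B u (w' i) = 0) → ∃ c : F, c • l₀ = u := by
    intro u h1 h2
    obtain ⟨c, hc⟩ := hspan ⟨u, (mem_ker_evf hB u).2 ⟨h1, h2⟩⟩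
    exact ⟨c, congrArg Subtype.val hc⟩
  obtain ⟨hlw, hlw'⟩ := (mem_ker_evf hB l₀).1 hl₀
  have hll : B l₀ l₀ ≠ 0 := by
    intro h0
    apply hl0'
    apply hB.nd
    intro y
    -- y minus its projection is a multiple of l₀
    obtain ⟨c, hc⟩ := hspan' (y - (∑ i, B y (w' i) • w i + ∑ i, B y (w i) • w' i)) (by
      intro j
      rw [hB.sub_left, hB.add_left, sum_left' hB, sum_left' hB]
      simp [h.ww, h.dual' hB]) (by
      intro j
      rw [hB.sub_left, hB.add_left, sum_left' hB, sum_left' hB]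
      simp [h.ww', h.dual])
    have : y = c • l₀ + (∑ i, B y (w' i) • w i + ∑ i, B y (w i) • w' i) := by rw [hc]; abel
    rw [this, hB.add_right, hB.add_right, hB.smul_right, sum_right' hB, sum_right' hB, h0]
    simp [hlw, hlw']
  have hfix : (B l₀ l₀)⁻¹ ^ q = (B l₀ l₀)⁻¹ := by
    rw [inv_pow, ← hB.sig, ← hB.symm]
  obtain ⟨a, ha0, ha⟩ := LieClassical.HermBasic.exists_norm_eq_ne hB.card hfix (inv_ne_zero hll)
  refine ⟨fun _ => a • l₀, h, ?_, ?_, ?_, ?_⟩
  · intro i j
    rw [Subsingleton.elim i j, if_pos rfl, hB.smul_left, hB.smul_right, hB.sig, ← mul_assoc, ha,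
      inv_mul_cancel₀ hll]
  · intro i j; rw [hB.smul_left, hlw, mul_zero]
  · intro i j; rw [hB.smul_left, hlw', mul_zero]
  · intro u h1 h2 h4
    obtain ⟨c, rfl⟩ := hspan' u h1 h2
    have h5 := h4 0
    rw [hB.smul_left, hB.smul_right] at h5
    have h6 : σ a ≠ 0 := (map_ne_zero σ).2 ha0
    rcases mul_eq_zero.1 h5 with h7 | h7
    · rw [h7, zero_smul]
    · exact absurd h7 (mul_ne_zero h6 hll)

/-- For a frame of maximal size there is a full frame with `e ≤ 1` extra vectors, `e = dim V - 2 |ι|`. -/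
lemma exists_FF (hB : HS q σ B) {e : ℕ} (he : e ≤ 1) (hn : finrank F V = 2 * Fintype.card ι + e) (h : Fr B w w') :
    ∃ l : Fin e → V, FF B w w' l := by
  interval_cases e
  · exact ⟨_, exists_FF_even hB h hn⟩
  · exact exists_FF_odd hB h hn

/-- Isometries between frames. -/
lemma exists_isom (hB : HS q σ B) {e : ℕ} (he : e ≤ 1) (hn : finrank F V = 2 * Fintype.card ι + e) (h : Fr B w w')
    {v v' : ι → V} (h2 : Fr B v v') :
    ∃ x : End F V, Isom B x ∧ (∀ i, x (w i) = v i) ∧ (∀ i, x (w' i) = v' i) ∧ (e = 1 → LinearMap.det x = 1) := by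
  obtain ⟨l, hl⟩ := exists_FF hB he hn h
  obtain ⟨k, hk⟩ := exists_FF hB he hn h2
  have hx := fmap_isom hB hl hk
  set x := fmap B hB w w' l v v' k with hxd
  by_cases he1 : e = 1
  · subst he1
    -- correct the determinant
    set d := LinearMap.det x with hd
    have hdn : d * σ d = 1 := Isom.det_norm hB hx
    have hd0 : d ≠ 0 := left_ne_zero_of_mul_eq_one hdn
    have hk' : FF B w w' (fun i => d⁻¹ • l i) := by
      have hσ : d⁻¹ * σ d⁻¹ = 1 := by
        rw [map_inv₀, ← mul_inv, hdn, inv_one]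
      refine ⟨hl.fr, fun i j => ?_, fun i j => ?_, fun i j => ?_, fun u h1 h2 h3 => hl.full u h1 h2 fun i => ?_⟩
      · rw [hB.smul_left, hB.smul_right, ← mul_assoc, hσ, one_mul, hl.ll]
      · rw [hB.smul_left, hl.lw, mul_zero]
      · rw [hB.smul_left, hl.lw', mul_zero]
      · have := h3 i
        rw [hB.smul_right] at this
        exact (mul_eq_zero.1 this).resolve_left ((map_ne_zero σ).2 (inv_ne_zero hd0))
    have hy := fmap_isom hB hl hk'
    set y := fmap B hB w w' l w w' (fun i => d⁻¹ • l i) with hyd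
    have hdy : LinearMap.det y = d⁻¹ := by
      have h5 := hl.det_eq hB hy (Z := 1) (by simp) (fun j => by
        rw [hyd, fmap_w hB hl]; simp [Matrix.one_apply])
      rw [Matrix.det_one, map_one, mul_one, one_mul, Matrix.det_fin_one] at h5
      rw [h5, Matrix.of_apply, hyd, fmap_l hB hl, hB.smul_left, hl.ll, if_pos rfl, mul_one]
    refine ⟨x * y, fun a b => ?_, fun i => ?_, fun i => ?_, fun _ => ?_⟩
    · rw [Module.End.mul_apply, Module.End.mul_apply, hx, hy]
    · rw [Module.End.mul_apply, hyd, fmap_w hB hl, hxd, fmap_w hB hl]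
    · rw [Module.End.mul_apply, hyd, fmap_w' hB hl, hxd, fmap_w' hB hl]
    · rw [Module.End.mul_eq_comp, LinearMap.det_comp, hdy, ← hd, mul_inv_cancel₀ hd0]
  · exact ⟨x, hx, fun i => fmap_w hB hl i, fun i => fmap_w' hB hl i, fun h => absurd h he1⟩

/-- Determinant of an isometry which acts on the span of `w` by `Z` : even dimension. -/
lemma det_even (hB : HS q σ B) (hn : finrank F V = 2 * Fintype.card ι) (h : Fr B w w') {x : End F V}
    (hx : Isom B x) {Z : Matrix ι ι F} (hZ : Z.det ≠ 0) (hxw : ∀ j, x (w j) = ∑ i, Z i j • w i) :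
    LinearMap.det x * σ Z.det = Z.det := by
  have := (exists_FF_even hB h hn).det_eq hB hx hZ hxw
  rwa [Matrix.det_fin_zero, mul_one] at this

/-- the frame `(w X, w' X^{-*})` -/
lemma Fr.trans (hB : HS q σ B) (h : Fr B w w') {X Y : Matrix ι ι F} (hXY : ∀ i j, ∑ k, X k i * σ (Y k j) = if i = j then 1 else 0) :
    Fr B (fun j => ∑ i, X i j • w i) (fun j => ∑ i, Y i j • w' i) where
  ww i j := by
    rw [sum_left' hB]
    simp only [sum_right' hB]
    simp [h.ww]
  dual i j := by
    rw [sum_left' hB]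
    simp only [sum_right' hB, h.dual]
    simp only [mul_ite, mul_one, mul_zero, Finset.sum_ite_eq, Finset.mem_univ, if_true]
    exact hXY i j
  ww' i j := by
    rw [sum_left' hB]
    simp only [sum_right' hB]
    simp [h.ww']

/-- `X^{-*}` -/
noncomputable def ist (σ : F →+* F) (X : Matrix ι ι F) : Matrix ι ι F := Matrix.of fun i j => σ (X⁻¹ j i)

lemma ist_apply (X : Matrix ι ι F) (i j : ι) : ist σ X i j = σ (X⁻¹ j i) := rfl

lemma ist_dual (hB : HS q σ B) {X : Matrix ι ι F} (hX : X.det ≠ 0) (i j : ι) :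
    ∑ k, X k i * σ (ist σ X k j) = if i = j then 1 else 0 := by
  simp only [ist_apply, hB.ss]
  have h1 : (X⁻¹ * X) j i = (1 : Matrix ι ι F) j i := by
    rw [Matrix.nonsing_inv_mul X (isUnit_iff_ne_zero.2 hX)]
  rw [Matrix.mul_apply, Matrix.one_apply] at h1
  simp only [eq_comm (a := i) (b := j)]
  rw [← h1]
  exact Finset.sum_congr rfl fun k _ => mul_comm _ _

lemma ist_mul (X Y : Matrix ι ι F) : ist σ (X * Y) = ist σ X * ist σ Y := by
  ext i j
  rw [ist_apply, Matrix.mul_inv_rev, Matrix.mul_apply, Matrix.mul_apply, map_sum]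
  refine Finset.sum_congr rfl fun k _ => ?_
  rw [map_mul, ist_apply, ist_apply, mul_comm]

theorem cor_det (hB : HS q σ B) {g : End F V} (hg : Isom B g) (hι : finrank F V = 2 * Fintype.card ι)
    {P : Matrix ι ι F} (hP : Cor B g P) (h0 : P.det ≠ 0) : P.det = LinearMap.det g * σ P.det := by
  obtain ⟨w, w', hw, hPw⟩ := hP
  -- the isometry `z` fixing `w` with `g z` acting on `w'` by `P^{-*}`
  have hgb : Function.Bijective g := ⟨Isom.inj' hB hg, LinearMap.surjective_of_injective (Isom.inj' hB hg)⟩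
  choose gi hgi using hgb.2
  have hfr : Fr B w (fun j => gi (∑ i, ist σ P i j • w' i)) := by
    refine ⟨hw.ww, fun i j => ?_, fun i j => ?_⟩
    · rw [← hg, hgi, sum_right' hB]
      simp only [hPw]
      rw [← ist_dual hB h0 i j]
      exact Finset.sum_congr rfl fun k _ => mul_comm _ _
    · rw [← hg, hgi, hgi, sum_left' hB]
      simp only [sum_right' hB]
      simp [hw.ww']
  obtain ⟨z, hz, hzw, hzw', -⟩ := exists_isom hB (e := 0) (by norm_num) (by rw [hι, add_zero]) hw hfr
  have hdz : LinearMap.det z = 1 := by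
    have := det_even hB hι hw hz (Z := 1) (by simp) (fun j => by rw [hzw]; simp [Matrix.one_apply])
    rwa [Matrix.det_one, map_one, mul_one] at this
  have hgz : Isom B (g * z) := fun a b => by rw [Module.End.mul_apply, Module.End.mul_apply, hg, hz]
  have hdI : (ist σ P).det = σ (P.det)⁻¹ := by
    have : ist σ P = (σ.mapMatrix P⁻¹)ᵀ := by ext i j; rfl
    rw [this, Matrix.det_transpose, ← RingHom.map_det, Matrix.det_nonsing_inv, Ring.inverse_eq_inv']
  have h1 := det_even hB hι (hw.swap hB) hgz (Z := ist σ P) (by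
    rw [hdI]; exact (map_ne_zero σ).2 (inv_ne_zero h0)) (fun j => by
    rw [Module.End.mul_apply, hzw', hgi])
  rw [Module.End.mul_eq_comp, LinearMap.det_comp, hdz, mul_one, hdI, hB.ss, map_inv₀] at h1
  have h2 : σ P.det ≠ 0 := (map_ne_zero σ).2 h0
  field_simp at h1
  linear_combination -h1

end Cfsg.Agent.H98.Ore
end

-- part: H98/Ore/Crit
section
/-!
# The criterion
-/

set_option autoImplicit false
set_option linter.unusedSectionVars false

namespace Cfsg.Agent.H98.Ore

open Module Polynomial Cfsg.Agent.H951 Matrix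

/-- A finite subgroup `U` normalised by `x` and meeting the centralizer of `x` trivially: every element of `U x` is
conjugate to `x` under `U`. -/
lemma fin_conj {G : Type*} [Group G] (U : Subgroup G) [Finite U] (x : G) (hx : ∀ u ∈ U, x * u * x⁻¹ ∈ U)
    (hc : ∀ u ∈ U, u * x = x * u → u = 1) {y : G} (hy : y * x⁻¹ ∈ U) : ∃ u ∈ U, y = u * x * u⁻¹ := by
  let f : U → U := fun u => ⟨u * (x * (u : G)⁻¹ * x⁻¹), U.mul_mem u.2 (hx _ (U.inv_mem u.2))⟩
  have hf : Function.Injective f := by
    intro u v huv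
    have h1 : (u : G) * (x * (u : G)⁻¹ * x⁻¹) = v * (x * (v : G)⁻¹ * x⁻¹) := congrArg Subtype.val huv
    have h2 : (v : G)⁻¹ * u * x = x * ((v : G)⁻¹ * u) := by
      have h3 : (u : G) * x * (u : G)⁻¹ = v * x * (v : G)⁻¹ := by
        have := congrArg (· * x) h1
        simpa [mul_assoc] using this
      calc (v : G)⁻¹ * u * x = (v : G)⁻¹ * (u * x * (u : G)⁻¹) * u := by group
        _ = (v : G)⁻¹ * (v * x * (v : G)⁻¹) * u := by rw [h3]
        _ = x * ((v : G)⁻¹ * u) := by group
    have h4 := hc _ (U.mul_mem (U.inv_mem v.2) u.2) h2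
    exact Subtype.ext (inv_mul_eq_one.1 h4).symm
  obtain ⟨u, hu⟩ := Finite.surjective_of_injective hf ⟨y * x⁻¹, hy⟩
  have h1 : (u : G) * (x * (u : G)⁻¹ * x⁻¹) = y * x⁻¹ := congrArg Subtype.val hu
  refine ⟨u, u.2, ?_⟩
  have := congrArg (· * x) h1
  simp only [mul_assoc, inv_mul_cancel, mul_one] at this
  rw [← this, mul_assoc]

variable {F V : Type*} [Field F] [Fintype F] [AddCommGroup V] [Module F V] [FiniteDimensional F V]
  {q : ℕ} {σ : F →+* F} {B : V → V → F}
  {ι : Type} [Fintype ι] [DecidableEq ι] {w w' : ι → V}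

/-- Adjoint of a polynomial in an isometry. -/
lemma B_aeval (hB : HS q σ B) {x y : End F V} (hx : Isom B x) (hxy : x * y = 1) (p : F[X]) (u v : V) :
    B (aeval x p u) v = B u (aeval y (p.map σ) v) := by
  have hxy' : ∀ v, x (y v) = v := fun v => by rw [← Module.End.mul_apply, hxy, Module.End.one_apply]
  have h1 : ∀ u v, B (x u) v = B u (y v) := fun u v => by rw [← hx u (y v), hxy']
  induction p using Polynomial.induction_on' generalizing u v with
  | add p r hp hr =>
    rw [map_add, LinearMap.add_apply, hB.add_left, hp, hr, Polynomial.map_add, map_add, LinearMap.add_apply,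
      hB.add_right]
  | monomial n a =>
    rw [Polynomial.map_monomial, aeval_monomial, aeval_monomial]
    have h2 : ∀ n u v, B ((x ^ n) u) v = B u ((y ^ n) v) := by
      intro n
      induction n with
      | zero => intro u v; simp
      | succ n ih =>
        intro u v
        rw [pow_succ, Module.End.mul_apply, ih, h1, pow_succ', Module.End.mul_apply]
    rw [Module.End.mul_apply, Module.End.mul_apply, Module.algebraMap_end_apply, Module.algebraMap_end_apply,
      hB.smul_left, hB.smul_right, hB.ss, h2]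

/-- `y^m (f x) = f.reverse y` -/
lemma aeval_reverse' {x y : End F V} (hyx : y * x = 1) (f : F[X]) :
    aeval y f.reverse = y ^ f.natDegree * aeval x f := by
  have hpow : ∀ a b, y ^ (a + b) * x ^ b = y ^ a := by
    intro a b
    induction b with
    | zero => simp
    | succ b ih =>
      have h1 : y ^ (a + (b + 1)) = y ^ (a + b) * y := by rw [← add_assoc, pow_succ]
      rw [h1, pow_succ', mul_assoc, ← mul_assoc y x, hyx, one_mul, ih]
  rw [aeval_eq_sum_range' (lt_of_le_of_lt f.reverse_natDegree_le (Nat.lt_succ_self _)),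
    aeval_eq_sum_range, Finset.mul_sum, ← Finset.sum_range_reflect]
  refine Finset.sum_congr rfl fun i hi => ?_
  have hi' : i ≤ f.natDegree := Nat.lt_succ_iff.1 (Finset.mem_range.1 hi)
  rw [coeff_reverse, revAt_le (by omega), mul_smul_comm]
  have e1 : f.natDegree.succ - 1 - i = f.natDegree - i := by omega
  have e2 : f.natDegree - (f.natDegree + 1 - 1 - i) = i := by omega
  have h2 := hpow (f.natDegree - i) i
  rw [Nat.sub_add_cancel hi'] at h2
  rw [h2]
  congr 2

/-- Action of `x` on the span of `w`. -/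
lemma aeval_frame {x : End F V} {Z : Matrix ι ι F} (hxw : ∀ j, x (w j) = ∑ i, Z i j • w i) (p : F[X]) (j : ι) :
    aeval x p (w j) = ∑ i, (aeval Z p) i j • w i := by
  induction p using Polynomial.induction_on' generalizing j with
  | add p r hp hr => rw [map_add, LinearMap.add_apply, hp, hr, map_add, ← Finset.sum_add_distrib]
                     simp only [Matrix.add_apply, add_smul]
  | monomial n a =>
    rw [aeval_monomial, aeval_monomial]
    have h2 : ∀ n j, (x ^ n) (w j) = ∑ i, (Z ^ n) i j • w i := by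
      intro n
      induction n with
      | zero => intro j; simp [Matrix.one_apply]
      | succ n ih =>
        intro j
        rw [pow_succ, Module.End.mul_apply, hxw, map_sum]
        simp only [map_smul, ih, Finset.smul_sum, smul_smul]
        rw [Finset.sum_comm]
        simp only [← Finset.sum_smul]
        refine Finset.sum_congr rfl fun i _ => ?_
        rw [pow_succ, Matrix.mul_apply]
        congr 1
        exact Finset.sum_congr rfl fun k _ => mul_comm _ _
    rw [Module.End.mul_apply, Module.algebraMap_end_apply, h2, Finset.smul_sum]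
    refine Finset.sum_congr rfl fun i _ => ?_
    rw [Matrix.algebraMap_eq_diagonal, Matrix.diagonal_mul, smul_smul]
    rfl

lemma aeval_eig {x : End F V} {v : V} {c : F} (h : x v = c • v) (p : F[X]) : aeval x p v = p.eval c • v := by
  induction p using Polynomial.induction_on' with
  | add p r hp hr => rw [map_add, LinearMap.add_apply, hp, hr, eval_add, add_smul]
  | monomial n a =>
    have h1 : ∀ n, (x ^ n) v = c ^ n • v := by
      intro n
      induction n with
      | zero => simp
      | succ n ih => rw [pow_succ', Module.End.mul_apply, ih, map_smul, h, smul_smul, pow_succ]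
    rw [aeval_monomial, Module.End.mul_apply, Module.algebraMap_end_apply, h1, eval_monomial, smul_smul]

lemma map_rev_map (hσ : ∀ a, σ (σ a) = a) (f : F[X]) : ((f.map σ).reverse.map σ) = f.reverse := by
  ext n
  rw [coeff_map, coeff_reverse, coeff_map, hσ, coeff_reverse, natDegree_map]

/-- An isometry of determinant one fixing `w`, commuting with `x`, is the identity. -/
lemma cent_trivial (hB : HS q σ B) {e : ℕ} (he : e ≤ 1) (hn : finrank F V = 2 * Fintype.card ι + e) (h : Fr B w w')
    {x y u : End F V} (hx : Isom B x) (hu : Isom B u) (hxy : x * y = 1)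
    (hyx : y * x = 1) {Z : Matrix ι ι F} (hZ : Z.det ≠ 0)
    (hxw : ∀ j, x (w j) = ∑ i, Z i j • w i) (hu1 : LinearMap.det u = 1) (huw : ∀ j, u (w j) = w j)
    {f : F[X]} (hf : ∀ j, aeval x f (w j) = 0) (hcop : IsCoprime f (f.map σ).reverse)
    (hc : e = 1 → f.eval (LinearMap.det x * σ Z.det * Z.det⁻¹) ≠ 0) (hcomm : u * x = x * u) : u = 1 := by
  obtain ⟨l, hl⟩ := exists_FF hB he hn h
  have huw' : ∀ v, (∀ i, B v (w i) = 0) → ∀ i, B (u v) (w i) = 0 := by
    intro v hv i
    rw [← huw i, hu, hv]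
  -- u - 1 maps everything to W^perp
  have hN1 : ∀ v i, B (u v - v) (w i) = 0 := by
    intro v i
    rw [hB.sub_left]
    nth_rewrite 1 [← huw i]
    rw [hu, sub_self]
  -- vectors of W^perp
  have hWp : ∀ v, (∀ i, B v (w i) = 0) → v = ∑ i, B v (w' i) • w i + ∑ i, B v (l i) • l i := by
    intro v hv
    conv_lhs => rw [hl.expand hB v]
    simp [hv]
  have hfW : ∀ a : ι → F, aeval x f (∑ i, a i • w i) = 0 := by
    intro a
    rw [map_sum]
    simp [hf]
  have huW : ∀ a : ι → F, u (∑ i, a i • w i) = ∑ i, a i • w i := by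
    intro a
    rw [map_sum]
    simp [huw]
  -- commutation with polynomials
  have hcp : ∀ p : F[X], u * aeval x p = aeval x p * u := by
    intro p
    have := (Commute.all (1 : F[X]) p)
    induction p using Polynomial.induction_on' with
    | add p r hp hr => rw [map_add, mul_add, add_mul, hp (Commute.all _ _), hr (Commute.all _ _)]
    | monomial n a =>
      rw [aeval_monomial]
      have h1 : Commute u x := hcomm
      have h2 : Commute u (x ^ n) := h1.pow_right n
      have h3 : Commute u (algebraMap F (End F V) a) := (Algebra.commutes a u).symm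
      exact (h3.mul_right h2).eq
  -- step 1 : u fixes W^perp
  have hfixl : ∀ i, u (l i) = l i := by
    intro i
    have he1 : e = 1 := by have := i.2; omega
    subst he1
    obtain rfl : i = 0 := Subsingleton.elim _ _
    set c := B (x (l 0)) (l 0) with hcdef
    -- determinant of u
    have hd1 := hl.det_eq hB hu (Z := 1) (by simp) (fun j => by rw [huw]; simp [Matrix.one_apply])
    rw [Matrix.det_one, map_one, mul_one, one_mul, Matrix.det_fin_one, Matrix.of_apply, hu1] at hd1
    have hd2 := hl.det_eq hB hx hZ hxw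
    rw [Matrix.det_fin_one, Matrix.of_apply, ← hcdef] at hd2
    have hcval : LinearMap.det x * σ Z.det * Z.det⁻¹ = c := by
      rw [hd2]; field_simp
    have hcf := hc rfl
    rw [hcval] at hcf
    -- ν l = u l - l is in W
    have hulW : ∃ a : ι → F, u (l 0) - l 0 = ∑ i, a i • w i := by
      have h2 := hWp _ (hN1 (l 0))
      refine ⟨fun i => B (u (l 0) - l 0) (w' i), ?_⟩
      have h3 : B (u (l 0) - l 0) (l 0) = 0 := by
        rw [hB.sub_left, ← hd1, hl.ll, if_pos rfl, sub_self]
      simp only [Fin.sum_univ_one, h3, zero_smul, add_zero] at h2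
      exact h2
    -- (x - c) l is in W
    have hxlW : ∃ a : ι → F, x (l 0) - c • l 0 = ∑ i, a i • w i := by
      have h1 : ∀ i, B (x (l 0) - c • l 0) (w i) = 0 := by
        intro i
        have h5 : w i = ∑ k, Z⁻¹ k i • x (w k) := by
          simp only [hxw, Finset.smul_sum, smul_smul]
          rw [Finset.sum_comm]
          simp only [← Finset.sum_smul]
          have : ∀ j, (∑ k, Z⁻¹ k i * Z j k) = if j = i then 1 else 0 := by
            intro j
            have h1 : (Z * Z⁻¹) j i = (1 : Matrix ι ι F) j i := by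
              rw [Matrix.mul_nonsing_inv Z (isUnit_iff_ne_zero.2 hZ)]
            rw [Matrix.mul_apply, Matrix.one_apply] at h1
            rw [← h1]
            exact Finset.sum_congr rfl fun k _ => mul_comm _ _
          simp [this]
        rw [hB.sub_left, hB.smul_left, hl.lw, mul_zero, sub_zero, h5, sum_right' hB]
        apply Finset.sum_eq_zero
        intro k _
        rw [hx, hl.lw, mul_zero]
      have h2 := hWp _ h1
      refine ⟨fun i => B (x (l 0) - c • l 0) (w' i), ?_⟩
      have h3 : B (x (l 0) - c • l 0) (l 0) = 0 := by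
        rw [hB.sub_left, hB.smul_left, hl.ll, if_pos rfl, mul_one, ← hcdef, sub_self]
      simp only [Fin.sum_univ_one, h3, zero_smul, add_zero] at h2
      exact h2
    -- x ν l = c ν l
    obtain ⟨a, ha⟩ := hulW
    obtain ⟨b, hb⟩ := hxlW
    have h6 : x (u (l 0) - l 0) = c • (u (l 0) - l 0) := by
      have h7 : u (x (l 0)) = x (u (l 0)) := by
        rw [← Module.End.mul_apply, hcomm, Module.End.mul_apply]
      have h8 : x (l 0) = c • l 0 + ∑ i, b i • w i := by rw [← hb]; abel
      rw [map_sub, ← h7, h8, map_add, huW, map_smul, smul_sub]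
      abel
    have h9 : ∀ p : F[X], aeval x p (u (l 0) - l 0) = p.eval c • (u (l 0) - l 0) := by
      intro p
      exact aeval_eig h6 p
    have h10 := h9 f
    rw [ha, hfW, eq_comm, smul_eq_zero] at h10
    rcases h10 with h10 | h10
    · exact absurd h10 hcf
    · rw [h10] at ha
      exact sub_eq_zero.1 ha
  have hfixWp : ∀ v, (∀ i, B v (w i) = 0) → u v = v := by
    intro v hv
    rw [hWp v hv, map_add, huW, map_sum]
    simp [hfixl]
  -- step 2 : (u-1) V ≤ W
  have hNW : ∀ v, ∃ a : ι → F, u v - v = ∑ i, a i • w i := by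
    intro v
    have h1 : ∀ y, (∀ i, B y (w i) = 0) → B (u v - v) y = 0 := by
      intro y hy
      rw [hB.sub_left]
      nth_rewrite 1 [← hfixWp y hy]
      rw [hu, sub_self]
    have h2 := hWp _ (hN1 v)
    refine ⟨fun i => B (u v - v) (w' i), ?_⟩
    have h3 : ∀ i, B (u v - v) (l i) = 0 := fun i => h1 (l i) fun j => hl.lw i j
    simp only [h3, zero_smul, Finset.sum_const_zero, add_zero] at h2
    exact h2
  -- step 3
  obtain ⟨a, b, hab⟩ := hcop
  ext v
  rw [Module.End.one_apply]
  apply sub_eq_zero.1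
  set t := u v - v with ht
  have h3 : aeval x f t = 0 := by
    obtain ⟨a, ha⟩ := hNW v
    rw [ht, ha, hfW]
  have h4 : aeval x (f.map σ).reverse t = 0 := by
    have h5 : u (aeval x (f.map σ).reverse v) = aeval x (f.map σ).reverse v := by
      apply hfixWp
      intro i
      rw [B_aeval hB hx hxy]
      have h6 : ((f.map σ).reverse.map σ) = f.reverse := map_rev_map hB.ss f
      rw [h6, aeval_reverse' hyx, Module.End.mul_apply, hf, map_zero, hB.zero_right]
    have h7 : u (aeval x (f.map σ).reverse v) = aeval x (f.map σ).reverse (u v) := by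
      rw [← Module.End.mul_apply, hcp, Module.End.mul_apply]
    rw [ht, map_sub, ← h7, h5, sub_self]
  have h8 : aeval x (a * f + b * (f.map σ).reverse) t = 0 := by
    rw [map_add, map_mul, map_mul, LinearMap.add_apply, Module.End.mul_apply, Module.End.mul_apply, h3, h4,
      map_zero, map_zero, add_zero]
  rw [hab, map_one, Module.End.one_apply] at h8
  exact h8

end Cfsg.Agent.H98.Ore
end

-- part: H98/Ore/CritB
section
/-!
# The criterion : main statement
-/

set_option autoImplicit false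
set_option linter.unusedSectionVars false

namespace Cfsg.Agent.H98.Ore

open Module Polynomial Cfsg.Agent.H951 Matrix

variable {F V : Type*} [Field F] [Fintype F] [AddCommGroup V] [Module F V] [FiniteDimensional F V]
  {q : ℕ} {σ : F →+* F} {B : V → V → F}
  {ι : Type} [Fintype ι] [DecidableEq ι] {w w' : ι → V}

/-- the group of isometries of determinant one fixing the vectors `w j` -/
def fixG (B : V → V → F) (w : ι → V) : Subgroup (V ≃ₗ[F] V) where
  carrier := {g | (∀ u v, B (g u) (g v) = B u v) ∧ LinearMap.det (g : V →ₗ[F] V) = 1 ∧ ∀ j, g (w j) = w j}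
  mul_mem' := by
    rintro a b ⟨h1, h2, h3⟩ ⟨h4, h5, h6⟩
    refine ⟨fun u v => ?_, ?_, fun j => ?_⟩
    · rw [LinearEquiv.mul_apply, LinearEquiv.mul_apply, h1, h4]
    · have : ((a * b : V ≃ₗ[F] V) : V →ₗ[F] V) = (a : V →ₗ[F] V) ∘ₗ (b : V →ₗ[F] V) := rfl
      rw [this, LinearMap.det_comp, h2, h5, one_mul]
    · rw [LinearEquiv.mul_apply, h6, h3]
  one_mem' := by
    refine ⟨fun u v => rfl, ?_, fun j => rfl⟩
    have : ((1 : V ≃ₗ[F] V) : V →ₗ[F] V) = LinearMap.id := rfl
    rw [this, LinearMap.det_id]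
  inv_mem' := by
    rintro a ⟨h1, h2, h3⟩
    have h4 : ∀ v, a (a⁻¹ v) = v := fun v => by rw [← LinearEquiv.mul_apply, mul_inv_cancel]; rfl
    have h5 : ∀ v, a⁻¹ (a v) = v := fun v => by rw [← LinearEquiv.mul_apply, inv_mul_cancel]; rfl
    refine ⟨fun u v => ?_, ?_, fun j => ?_⟩
    · rw [← h1, h4, h4]
    · have h6 : (a : V →ₗ[F] V) ∘ₗ ((a⁻¹ : V ≃ₗ[F] V) : V →ₗ[F] V) = LinearMap.id := by
        ext v; exact h4 v
      have h7 := congrArg LinearMap.det h6
      rwa [LinearMap.det_comp, h2, one_mul, LinearMap.det_id] at h7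
    · nth_rewrite 1 [← h3 j]
      exact h5 _

lemma mem_fixG {g : V ≃ₗ[F] V} : g ∈ fixG B w ↔
    (∀ u v, B (g u) (g v) = B u v) ∧ LinearMap.det (g : V →ₗ[F] V) = 1 ∧ ∀ j, g (w j) = w j := Iff.rfl

/-- the group of isometries of determinant one -/
abbrev SGr (B : V → V → F) : Subgroup (V ≃ₗ[F] V) := fixG B (fun i : Empty => i.elim)

lemma mem_SGr {g : V ≃ₗ[F] V} : g ∈ SGr B ↔
    (∀ u v, B (g u) (g v) = B u v) ∧ LinearMap.det (g : V →ₗ[F] V) = 1 :=
  ⟨fun h => ⟨h.1, h.2.1⟩, fun h => ⟨h.1, h.2, fun j => j.elim⟩⟩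

/-- Two isometries of determinant one acting in the same way on `w` are conjugate. -/
lemma conj_same (hB : HS q σ B) {e : ℕ} (he : e ≤ 1) (hn : finrank F V = 2 * Fintype.card ι + e) (h : Fr B w w')
    {x y : V ≃ₗ[F] V} (hx : x ∈ SGr B) (hy : y ∈ SGr B) {Z : Matrix ι ι F} (hZ : Z.det ≠ 0)
    (hxw : ∀ j, x (w j) = ∑ i, Z i j • w i) (hyw : ∀ j, y (w j) = ∑ i, Z i j • w i)
    {f : F[X]} (hf : ∀ j, aeval (x : End F V) f (w j) = 0) (hcop : IsCoprime f (f.map σ).reverse)
    (hc : e = 1 → f.eval (σ Z.det * Z.det⁻¹) ≠ 0) : ∃ u ∈ SGr B, y = u * x * u⁻¹ := by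
  have hVf : Finite V := Module.finite_of_finite F
  have hfin : Finite (fixG B w) := by
    have : Function.Injective (fun u : fixG B w => ((u : V ≃ₗ[F] V) : V → V)) := by
      intro a b hab
      apply Subtype.ext
      exact LinearEquiv.ext fun v => congrFun hab v
    exact Finite.of_injective _ this
  -- `x` and `x⁻¹` preserve the span of `w`
  have h5 : ∀ i, w i = ∑ k, Z⁻¹ k i • x (w k) := by
    intro i
    simp only [hxw, Finset.smul_sum, smul_smul]
    rw [Finset.sum_comm]
    simp only [← Finset.sum_smul]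
    have : ∀ j, (∑ k, Z⁻¹ k i * Z j k) = if j = i then 1 else 0 := by
      intro j
      have h1 : (Z * Z⁻¹) j i = (1 : Matrix ι ι F) j i := by
        rw [Matrix.mul_nonsing_inv Z (isUnit_iff_ne_zero.2 hZ)]
      rw [Matrix.mul_apply, Matrix.one_apply] at h1
      rw [← h1]
      exact Finset.sum_congr rfl fun k _ => mul_comm _ _
    simp [this]
  have hinv : ∀ i, x⁻¹ (w i) = ∑ k, Z⁻¹ k i • w k := by
    intro i
    have h6 : w i = x (∑ k, Z⁻¹ k i • w k) := by
      rw [map_sum]
      simp only [map_smul]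
      exact h5 i
    conv_lhs => rw [h6]
    rw [← LinearEquiv.mul_apply, inv_mul_cancel]
    rfl
  have huW : ∀ u ∈ fixG B w, ∀ a : ι → F, u (∑ i, a i • w i) = ∑ i, a i • w i := by
    intro u hu a
    rw [map_sum]
    simp [(mem_fixG.1 hu).2.2]
  have hle : fixG B w ≤ SGr B := fun u hu => mem_SGr.2 ⟨(mem_fixG.1 hu).1, (mem_fixG.1 hu).2.1⟩
  have hnorm : ∀ u ∈ fixG B w, x * u * x⁻¹ ∈ fixG B w := by
    intro u hu
    have h6 : x * u * x⁻¹ ∈ SGr B := (SGr B).mul_mem ((SGr B).mul_mem hx (hle hu)) ((SGr B).inv_mem hx)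
    refine mem_fixG.2 ⟨(mem_SGr.1 h6).1, (mem_SGr.1 h6).2, fun j => ?_⟩
    rw [LinearEquiv.mul_apply, LinearEquiv.mul_apply, hinv, huW u hu, ← hinv, ← LinearEquiv.mul_apply,
      mul_inv_cancel]
    rfl
  have hcent : ∀ u ∈ fixG B w, u * x = x * u → u = 1 := by
    intro u hu hux
    have hmul : ∀ a b : V ≃ₗ[F] V, ((a * b : V ≃ₗ[F] V) : V →ₗ[F] V) = (a : End F V) * (b : End F V) :=
      fun a b => rfl
    have h7 : (u : End F V) = 1 := by
      refine cent_trivial hB he hn h (x := (x : End F V)) (y := ((x⁻¹ : V ≃ₗ[F] V) : End F V)) (u := (u : End F V))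
        (mem_SGr.1 hx).1 (mem_fixG.1 hu).1 ?_ ?_ hZ hxw (mem_fixG.1 hu).2.1 (mem_fixG.1 hu).2.2 hf hcop ?_ ?_
      · rw [← hmul, mul_inv_cancel]; rfl
      · rw [← hmul, inv_mul_cancel]; rfl
      · intro he1
        rw [show LinearMap.det (x : End F V) = 1 from (mem_SGr.1 hx).2, one_mul]
        exact hc he1
      · rw [← hmul, ← hmul, hux]
    exact LinearEquiv.ext fun v => congrArg (fun f : End F V => f v) h7
  have hyx : y * x⁻¹ ∈ fixG B w := by
    have h6 : y * x⁻¹ ∈ SGr B := (SGr B).mul_mem hy ((SGr B).inv_mem hx)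
    refine mem_fixG.2 ⟨(mem_SGr.1 h6).1, (mem_SGr.1 h6).2, fun j => ?_⟩
    rw [LinearEquiv.mul_apply, hinv, map_sum]
    simp only [map_smul, hyw]
    have h8 := h5 j
    simp only [hxw] at h8
    exact h8.symm
  obtain ⟨u, hu, hu2⟩ := fin_conj (fixG B w) x hnorm hcent hyx
  exact ⟨u, hle hu, hu2⟩

lemma reverse_reverse' {f : F[X]} (h0 : f.coeff 0 ≠ 0) : f.reverse.reverse = f := by
  have h1 : f.natTrailingDegree = 0 := by
    rw [natTrailingDegree_eq_zero]
    exact Or.inr h0
  have h2 : f.reverse.natDegree = f.natDegree := by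
    rw [reverse_natDegree, h1, Nat.sub_zero]
  ext n
  rw [coeff_reverse, coeff_reverse, h2, revAt_invol]

lemma det_ist (Z : Matrix ι ι F) : (ist σ Z).det = σ (Z.det)⁻¹ := by
  have : ist σ Z = (σ.mapMatrix Z⁻¹)ᵀ := by ext i j; rfl
  rw [this, Matrix.det_transpose, ← RingHom.map_det, Matrix.det_nonsing_inv, Ring.inverse_eq_inv']

theorem criterion (hB : HS q σ B) {g : End F V} (hg : Isom B g) (hdet : LinearMap.det g = 1)
    (hι : finrank F V = 2 * Fintype.card ι ∨ finrank F V = 2 * Fintype.card ι + 1) {P Z h : Matrix ι ι F}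
    (hP : Cor B g P) (hPZ : P * Z * h = h * Z) (hh : h.det = 1) (hZ0 : Z.det ≠ 0)
    (hZ : finrank F V = 2 * Fintype.card ι → σ Z.det = Z.det) (h1 : IsCoprime Z.charpoly (Z.charpoly.map σ).reverse)
    (h2 : Z.charpoly.eval (σ Z.det * Z.det⁻¹) ≠ 0) : IsComm B g := by
  obtain ⟨w, w', hw, hPw⟩ := hP
  obtain ⟨e, he, hn⟩ : ∃ e, e ≤ 1 ∧ finrank F V = 2 * Fintype.card ι + e := by
    rcases hι with h3 | h3
    · exact ⟨0, by norm_num, by omega⟩
    · exact ⟨1, le_rfl, h3⟩
  have hPZ0 : (P * Z).det ≠ 0 := by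
    have h3 := congrArg Matrix.det hPZ
    rw [Matrix.det_mul, Matrix.det_mul h, hh, mul_one, one_mul] at h3
    rw [h3]; exact hZ0
  have hh0 : h.det ≠ 0 := by rw [hh]; exact one_ne_zero
  -- g as an equivalence
  set G : V ≃ₗ[F] V := LinearEquiv.ofInjectiveEndo g (Isom.inj' hB hg) with hG
  have hGg : ∀ v, G v = g v := fun v => rfl
  have hGg' : (G : V →ₗ[F] V) = g := by ext v; rfl
  have hGmem : G ∈ SGr B := mem_SGr.2 ⟨fun u v => by rw [hGg, hGg, hg], by rw [hGg', hdet]⟩
  -- the frame for z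
  have hfr : Fr B (fun j => ∑ i, Z i j • w i) (fun j => G⁻¹ (∑ i, ist σ (P * Z) i j • w' i)) := by
    have hGG : ∀ v, g (G⁻¹ v) = v := fun v => by
      rw [← hGg, ← LinearEquiv.mul_apply, mul_inv_cancel]; rfl
    refine ⟨fun i j => ?_, fun i j => ?_, fun i j => ?_⟩
    · rw [sum_left' hB]
      simp only [sum_right' hB]
      simp [hw.ww]
    · rw [← hg, hGG, map_sum]
      simp only [map_smul]
      rw [sum_left' hB]
      simp only [sum_right' hB, hPw]
      rw [← ist_dual hB hPZ0 i j]
      simp only [Matrix.mul_apply, Finset.sum_mul, Finset.mul_sum]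
      rw [Finset.sum_comm]
      refine Finset.sum_congr rfl fun k _ => Finset.sum_congr rfl fun m _ => ?_
      ring
    · rw [← hg, hGG, hGG, sum_left' hB]
      simp only [sum_right' hB]
      simp [hw.ww']
  -- the three isometries
  obtain ⟨z₀, hz, hzw, hzw', hzd⟩ := exists_isom hB he hn hw hfr
  obtain ⟨x₀, hx, hxw, hxw', hxd⟩ := exists_isom hB he hn hw (hw.trans hB (ist_dual hB hZ0))
  obtain ⟨k₀, hk, hkw, hkw', hkd⟩ := exists_isom hB he hn hw (hw.trans hB (ist_dual hB hh0))
  have hzd1 : LinearMap.det z₀ = 1 := by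
    rcases Nat.le_one_iff_eq_zero_or_eq_one.1 he with h0 | h0
    · have h3 := det_even hB (by rw [hn, h0, add_zero]) hw hz hZ0 hzw
      rw [hZ (by rw [hn, h0, add_zero])] at h3
      exact mul_right_cancel₀ hZ0 (by rw [h3, one_mul])
    · exact hzd h0
  have hxd1 : LinearMap.det x₀ = 1 := by
    rcases Nat.le_one_iff_eq_zero_or_eq_one.1 he with h0 | h0
    · have h3 := det_even hB (by rw [hn, h0, add_zero]) hw hx hZ0 hxw
      rw [hZ (by rw [hn, h0, add_zero])] at h3
      exact mul_right_cancel₀ hZ0 (by rw [h3, one_mul])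
    · exact hxd h0
  have hkd1 : LinearMap.det k₀ = 1 := by
    rcases Nat.le_one_iff_eq_zero_or_eq_one.1 he with h0 | h0
    · have h3 := det_even hB (by rw [hn, h0, add_zero]) hw hk hh0 hkw
      rwa [hh, map_one, mul_one] at h3
    · exact hkd h0
  set z : V ≃ₗ[F] V := LinearEquiv.ofInjectiveEndo z₀ (Isom.inj' hB hz) with hzdef
  set x : V ≃ₗ[F] V := LinearEquiv.ofInjectiveEndo x₀ (Isom.inj' hB hx) with hxdef
  set k : V ≃ₗ[F] V := LinearEquiv.ofInjectiveEndo k₀ (Isom.inj' hB hk) with hkdef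
  have hz0 : (z : V →ₗ[F] V) = z₀ := by ext v; rfl
  have hx0 : (x : V →ₗ[F] V) = x₀ := by ext v; rfl
  have hk0 : (k : V →ₗ[F] V) = k₀ := by ext v; rfl
  have hzm : z ∈ SGr B := mem_SGr.2 ⟨hz, by rw [hz0, hzd1]⟩
  have hxm : x ∈ SGr B := mem_SGr.2 ⟨hx, by rw [hx0, hxd1]⟩
  have hkm : k ∈ SGr B := mem_SGr.2 ⟨hk, by rw [hk0, hkd1]⟩
  have hxw1 : ∀ j, x (w j) = ∑ i, Z i j • w i := hxw
  have hzw1 : ∀ j, z (w j) = ∑ i, Z i j • w i := hzw
  have hxw1' : ∀ j, x (w' j) = ∑ i, ist σ Z i j • w' i := hxw'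
  have hzw1' : ∀ j, z (w' j) = G⁻¹ (∑ i, ist σ (P * Z) i j • w' i) := hzw'
  have hkw1' : ∀ j, k (w' j) = ∑ i, ist σ h i j • w' i := hkw'
  have hfw : ∀ j, aeval (x : End F V) Z.charpoly (w j) = 0 := by
    intro j
    rw [aeval_frame (x := (x : End F V)) hxw1, Matrix.aeval_self_charpoly]
    simp
  obtain ⟨u₁, hu₁, hzu⟩ := conj_same hB he hn hw hxm hzm hZ0 hxw1 hzw1 hfw h1 (fun _ => h2)
  -- the second conjugation
  set y : V ≃ₗ[F] V := k⁻¹ * (G * z) * k with hydef
  have hym : y ∈ SGr B :=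
    (SGr B).mul_mem ((SGr B).mul_mem ((SGr B).inv_mem hkm) ((SGr B).mul_mem hGmem hzm)) hkm
  have hcomp : ∀ (X Y : Matrix ι ι F) (a : V ≃ₗ[F] V), (∀ j, a (w' j) = ∑ i, X i j • w' i) →
      ∀ j, a (∑ i, Y i j • w' i) = ∑ i, (X * Y) i j • w' i := by
    intro X Y a ha j
    rw [map_sum]
    simp only [map_smul, ha, Finset.smul_sum, smul_smul]
    rw [Finset.sum_comm]
    simp only [← Finset.sum_smul]
    refine Finset.sum_congr rfl fun i _ => ?_
    rw [Matrix.mul_apply]
    congr 1
    exact Finset.sum_congr rfl fun k _ => mul_comm _ _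
  have hGz : ∀ j, (G * z) (w' j) = ∑ i, ist σ (P * Z) i j • w' i := by
    intro j
    rw [LinearEquiv.mul_apply, hzw1', ← LinearEquiv.mul_apply, mul_inv_cancel]
    rfl
  have hyw' : ∀ j, y (w' j) = ∑ i, ist σ Z i j • w' i := by
    intro j
    have h3 : k (∑ i, ist σ Z i j • w' i) = (G * z) (k (w' j)) := by
      rw [hcomp _ _ k hkw1', hkw1', hcomp _ _ (G * z) hGz, ← ist_mul, ← ist_mul, hPZ]
    rw [hydef, LinearEquiv.mul_apply, LinearEquiv.mul_apply, ← h3, ← LinearEquiv.mul_apply, inv_mul_cancel]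
    rfl
  have hcoeff : Z.charpoly.coeff 0 ≠ 0 := by
    intro h0
    apply hZ0
    rw [Matrix.det_eq_sign_charpoly_coeff, h0, mul_zero]
  have hxinv : (x : End F V) * ((x⁻¹ : V ≃ₗ[F] V) : End F V) = 1 := by
    ext v
    change x (x⁻¹ v) = v
    rw [← LinearEquiv.mul_apply, mul_inv_cancel]; rfl
  have hxinv' : ((x⁻¹ : V ≃ₗ[F] V) : End F V) * (x : End F V) = 1 := by
    ext v
    change x⁻¹ (x v) = v
    rw [← LinearEquiv.mul_apply, inv_mul_cancel]; rfl
  have hfw' : ∀ j, aeval (x : End F V) (Z.charpoly.map σ).reverse (w' j) = 0 := by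
    intro j
    have h3 := aeval_frame (x := (x : End F V)) (w := w') hxw1' (Z.charpoly.map σ).reverse j
    rw [h3]
    apply Finset.sum_eq_zero
    intro i _
    have h4 : B (aeval (x : End F V) (Z.charpoly.map σ).reverse (w' j)) (w i) = 0 := by
      rw [B_aeval hB (x := (x : End F V)) hx hxinv, map_rev_map hB.ss, aeval_reverse' hxinv', Module.End.mul_apply, hfw, map_zero,
        hB.zero_right]
    rw [h3, sum_left' hB] at h4
    simp only [hw.dual' hB, mul_ite, mul_one, mul_zero, Finset.sum_ite_eq', Finset.mem_univ, if_true] at h4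
    rw [h4, zero_smul]
  have hσZ0 : σ Z.det ≠ 0 := (map_ne_zero σ).2 hZ0
  have hist0 : (ist σ Z).det ≠ 0 := by
    rw [det_ist, map_inv₀]
    exact inv_ne_zero hσZ0
  obtain ⟨u₂, hu₂, hyu⟩ := conj_same hB he hn (hw.swap hB) hxm hym hist0 hxw1' hyw' hfw' (by
    rw [map_rev_map hB.ss, reverse_reverse' hcoeff]
    exact h1.symm) (by
    intro _ h3
    apply h2
    rw [det_ist, map_inv₀, inv_inv, map_inv₀, hB.ss] at h3
    set c := σ Z.det * Z.det⁻¹ with hcdef
    have hc0 : c ≠ 0 := mul_ne_zero hσZ0 (inv_ne_zero hZ0)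
    have h4 : (Z.det)⁻¹ * σ Z.det = c := mul_comm _ _
    rw [h4] at h3
    let _ : Invertible c⁻¹ := invertibleOfNonzero (inv_ne_zero hc0)
    have h5 := eval₂_reverse_eq_zero_iff (RingHom.id F) (c⁻¹) (Z.charpoly.map σ)
    have h6 : (⅟(c⁻¹) : F) = c := by rw [invOf_eq_inv, inv_inv]
    rw [h6, ← eval, h3, eq_self_iff_true, true_iff, ← eval, eval_map] at h5
    have h7 : c⁻¹ = σ c := by
      rw [hcdef, map_mul, map_inv₀, hB.ss, mul_inv, inv_inv, mul_comm]
    rw [h7, eval₂_at_apply] at h5
    exact (map_eq_zero σ).1 h5)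
  -- assemble
  set H : V ≃ₗ[F] V := k * u₂ * u₁⁻¹ with hH
  have hHm : H ∈ SGr B := (SGr B).mul_mem ((SGr B).mul_mem hkm hu₂) ((SGr B).inv_mem hu₁)
  have hfin : G * (z * H) = H * z := by
    have h3 : G * z = k * y * k⁻¹ := by rw [hydef]; group
    have h4 : x = u₁⁻¹ * z * u₁ := by rw [hzu]; group
    calc G * (z * H) = (G * z) * H := by group
      _ = k * (u₂ * x * u₂⁻¹) * k⁻¹ * H := by rw [h3, hyu]
      _ = k * (u₂ * (u₁⁻¹ * z * u₁) * u₂⁻¹) * k⁻¹ * H := by rw [← h4]
      _ = H * z := by rw [hH]; group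
  refine ⟨z₀, (H : V →ₗ[F] V), hz, (mem_SGr.1 hHm).1, hzd1, (mem_SGr.1 hHm).2, ?_⟩
  ext v
  have := congrArg (fun a : V ≃ₗ[F] V => a v) hfin
  exact this

end Cfsg.Agent.H98.Ore
end

-- part: H984/Ore/Frame
section
/-!
# S2446, T0: frames and orthonormal bases (helper984)
-/

set_option autoImplicit false

namespace Cfsg.Agent.H984.Ore

open Module Polynomial Cfsg.Agent.H951 Cfsg.Agent.H98.Ore
open Cfsg.Agent.LieClassical.HermBasic

variable {F V : Type*} [Field F] [Fintype F] [AddCommGroup V] [Module F V] [FiniteDimensional F V]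
  {q : ℕ} {σ : F →+* F} {B : V → V → F}

omit [FiniteDimensional F V] in
theorem herm1 (hB : HS q σ B) (u v : V) : B v u = σ (B u v) := by
  rw [hB.frm.herm u v, one_mul]

omit [FiniteDimensional F V] in
theorem self_fix (hB : HS q σ B) (v : V) : B v v ^ q = B v v := by
  rw [← hB.sig, ← herm1 hB]

omit [FiniteDimensional F V] in
theorem exists_aniso (hB : HS q σ B) {U : Submodule F V} (hU : Nd B U) (h0 : U ≠ ⊥) : ∃ v ∈ U, B v v ≠ 0 := by
  by_contra hcon
  push Not at hcon
  obtain ⟨u, hu, hu0⟩ := (Submodule.ne_bot_iff _).1 h0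
  obtain ⟨v, hv, huv⟩ := hU u hu hu0
  obtain ⟨x, hx⟩ := exists_trace_ne hB.card
  have hvu : B v u ≠ 0 := fun h => huv (hB.frm.eq_zero_comm.1 h)
  apply hx
  have h1 := hcon (u + (x * (B v u)⁻¹) • v) (U.add_mem hu (U.smul_mem _ hv))
  rw [hB.frm.add_left, hB.frm.add_right, hB.frm.add_right, hB.frm.smul_left, hB.frm.smul_right, hB.frm.smul_right,
    hB.frm.smul_left, hcon u hu, hcon v hv, mul_zero, mul_zero, zero_add, add_zero, herm1 hB v u, ← map_mul,
    inv_mul_cancel_right₀ hvu] at h1
  rw [← hB.sig, add_comm]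
  exact h1

omit [FiniteDimensional F V] in
theorem exists_unit (hB : HS q σ B) {U : Submodule F V} (hU : Nd B U) (h0 : U ≠ ⊥) : ∃ v ∈ U, B v v = 1 := by
  obtain ⟨v, hv, hvv⟩ := exists_aniso hB hU h0
  obtain ⟨a, ha, h1⟩ := exists_norm_eq_ne hB.card (c := (B v v)⁻¹) (by rw [inv_pow, self_fix hB]) (inv_ne_zero hvv)
  refine ⟨a • v, U.smul_mem _ hv, ?_⟩
  rw [hB.frm.smul_left, hB.frm.smul_right, ← mul_assoc, hB.sig]
  first
    | rw [ha, inv_mul_cancel₀ hvv]
    | rw [h1, inv_mul_cancel₀ hvv]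

omit [FiniteDimensional F V] in
theorem nd_span_singleton (hB : HS q σ B) {v : V} (hv : B v v ≠ 0) : Nd B (Submodule.span F {v}) := by
  intro u hu hu0
  obtain ⟨a, rfl⟩ := Submodule.mem_span_singleton.1 hu
  refine ⟨v, Submodule.mem_span_singleton_self v, ?_⟩
  rw [hB.frm.smul_left]
  refine mul_ne_zero ?_ hv
  rintro rfl
  exact hu0 (zero_smul _ _)

theorem exists_ortho_aux (hB : HS q σ B) (n : ℕ) : ∀ U : Submodule F V, Nd B U → finrank F U = n →
    ∃ b : Fin n → V, (∀ i, b i ∈ U) ∧ ∀ i j, B (b i) (b j) = if i = j then 1 else 0 := by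
  induction n with
  | zero => intro U _ _; exact ⟨Fin.elim0, fun i => i.elim0, fun i => i.elim0⟩
  | succ n ih =>
    intro U hU hn
    have h0 : U ≠ ⊥ := by
      rintro rfl
      rw [finrank_bot] at hn
      omega
    obtain ⟨v, hv, hvv⟩ := exists_unit hB hU h0
    have hv0 : v ≠ 0 := by
      rintro rfl
      rw [hB.frm.zero_left] at hvv
      exact zero_ne_one hvv
    have hnd := nd_span_singleton hB (v := v) (by rw [hvv]; exact one_ne_zero)
    have hle : Submodule.span F {v} ≤ U := by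
      rw [Submodule.span_singleton_le_iff_mem]
      exact hv
    have h1 := hB.frm.finrank_perp_inf hnd hle
    rw [finrank_span_singleton hv0] at h1
    obtain ⟨b, hb, hbb⟩ := ih _ (hB.frm.nd_perp_inf hU hnd hle) (by omega)
    have hp : ∀ i, B (b i) v = 0 := fun i => (hb i).1 v (Submodule.mem_span_singleton_self v)
    have hp' : ∀ i, B v (b i) = 0 := fun i => hB.frm.eq_zero_comm.1 (hp i)
    refine ⟨Fin.cons v b, ?_, ?_⟩
    · intro i
      refine Fin.cases ?_ (fun i => ?_) i
      · exact hv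
      · exact (hb i).2
    · intro i j
      refine Fin.cases ?_ (fun i => ?_) i <;> refine Fin.cases ?_ (fun j => ?_) j
      · rw [Fin.cons_zero, if_pos rfl, hvv]
      · rw [Fin.cons_zero, Fin.cons_succ, hp', if_neg (Fin.succ_ne_zero j).symm]
      · rw [Fin.cons_zero, Fin.cons_succ, hp, if_neg (Fin.succ_ne_zero i)]
      · rw [Fin.cons_succ, Fin.cons_succ, hbb]
        simp only [Fin.succ_inj]

omit [FiniteDimensional F V] in
theorem nd_top (hB : HS q σ B) : Nd B (⊤ : Submodule F V) := by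
  intro u _ hu0
  by_contra hcon
  push Not at hcon
  exact hu0 (hB.nd u fun v => hcon v Submodule.mem_top)

omit [FiniteDimensional F V] in
theorem linIndep_of_ortho (hB : HS q σ B) {ι : Type*} [DecidableEq ι] {b : ι → V}
    (h : ∀ i j, B (b i) (b j) = if i = j then 1 else 0) : LinearIndependent F b := by
  rw [linearIndependent_iff']
  intro s g hg i hi
  have h1 := congrArg (fun x => B x (b i)) hg
  simp only [hB.frm.sum_left, hB.frm.smul_left, hB.frm.zero_left, h] at h1
  rw [Finset.sum_eq_single i (fun j _ hj => by rw [if_neg hj, mul_zero]) (fun h => absurd hi h), if_pos rfl,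
    mul_one] at h1
  exact h1

/-- **T0b** -/
theorem exists_orthonormal (hB : HS q σ B) :
    ∃ b : Basis (Fin (finrank F V)) F V, ∀ i j, B (b i) (b j) = if i = j then 1 else 0 := by
  obtain ⟨b, -, hb⟩ := exists_ortho_aux hB (finrank F V) ⊤ (nd_top hB) (finrank_top F V)
  have hli := linIndep_of_ortho hB hb
  refine ⟨Basis.mk hli (hli.span_eq_top_of_card_eq_finrank' (by rw [Fintype.card_fin])).ge, fun i j => ?_⟩
  rw [Basis.mk_apply, Basis.mk_apply]
  exact hb i j

omit [FiniteDimensional F V] in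
/-- a hyperbolic plane -/
theorem plane (hB : HS q σ B) {w w' : V} (h : B w w = 0) (h' : B w' w' = 0) (h1 : B w w' = 1) :
    Nd B (Submodule.span F {w, w'}) ∧ finrank F (Submodule.span F {w, w'}) = 2 := by
  have h1' : B w' w = 1 := by rw [herm1 hB w w', h1, map_one]
  have hli : LinearIndependent F ![w, w'] := by
    rw [LinearIndependent.pair_iff]
    intro s t hst
    constructor
    · have := congrArg (fun x => B x w') hst
      simp only [hB.frm.add_left, hB.frm.smul_left, hB.frm.zero_left, h', h1, mul_one, mul_zero, add_zero] at this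
      exact this
    · have := congrArg (fun x => B x w) hst
      simp only [hB.frm.add_left, hB.frm.smul_left, hB.frm.zero_left, h, h1', mul_one, mul_zero, zero_add] at this
      exact this
  constructor
  · intro u hu hu0
    obtain ⟨a, b, rfl⟩ := Submodule.mem_span_pair.1 hu
    by_cases ha : a = 0
    · refine ⟨w, Submodule.subset_span (Set.mem_insert _ _), ?_⟩
      rw [hB.frm.add_left, hB.frm.smul_left, hB.frm.smul_left, h, h1', mul_zero, mul_one, zero_add]
      rintro rfl
      exact hu0 (by rw [ha, zero_smul, zero_smul, add_zero])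
    · refine ⟨w', Submodule.subset_span (Set.mem_insert_of_mem _ rfl), ?_⟩
      rw [hB.frm.add_left, hB.frm.smul_left, hB.frm.smul_left, h', h1, mul_zero, mul_one, add_zero]
      exact ha
  · have h2 := finrank_span_eq_card hli
    rw [Matrix.range_cons, Matrix.range_cons, Matrix.range_empty, Set.union_empty, Fintype.card_fin,
      Set.singleton_union] at h2
    exact h2

/-- an isotropic vector in a nondegenerate subspace of dimension at least two -/
theorem exists_isotropic (hB : HS q σ B) {U : Submodule F V} (hU : Nd B U) (h2 : 2 ≤ finrank F U) :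
    ∃ w ∈ U, w ≠ 0 ∧ B w w = 0 := by
  obtain ⟨n, hn⟩ : ∃ n, finrank F U = n + 2 := ⟨finrank F U - 2, by omega⟩
  obtain ⟨b, hbU, hb⟩ := exists_ortho_aux hB _ U hU hn
  have hm1 : ((-1 : F)) ^ q = -1 := by rw [← hB.sig, map_neg, map_one]
  obtain ⟨a, ha⟩ := exists_norm_eq hB.card hm1
  refine ⟨b 0 + a • b 1, U.add_mem (hbU _) (U.smul_mem _ (hbU _)), ?_, ?_⟩
  · intro h
    have h3 := congrArg (fun x => B x (b 0)) h
    simp only [hB.frm.add_left, hB.frm.smul_left, hB.frm.zero_left, hb] at h3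
    simp at h3
  · have h01 : (0 : Fin (n + 2)) ≠ 1 := by simp
    rw [hB.frm.add_left, hB.frm.add_right, hB.frm.add_right, hB.frm.smul_left, hB.frm.smul_right, hB.frm.smul_right,
      hB.frm.smul_left, hb, hb, hb, hb, if_pos rfl, if_pos rfl, if_neg h01, if_neg h01.symm, hB.sig]
    linear_combination ha

omit [FiniteDimensional F V] in
/-- a hyperbolic partner -/
theorem exists_partner (hB : HS q σ B) {U : Submodule F V} (hU : Nd B U) {w : V} (hw : w ∈ U) (hw0 : w ≠ 0)
    (hww : B w w = 0) : ∃ w' ∈ U, B w' w' = 0 ∧ B w w' = 1 := by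
  obtain ⟨v, hv, hwv⟩ := hU w hw hw0
  obtain ⟨u, hu, hwu⟩ : ∃ u ∈ U, B w u = 1 := by
    refine ⟨σ (B w v)⁻¹ • v, U.smul_mem _ hv, ?_⟩
    rw [hB.frm.smul_right, hB.frm.sigma_sq, inv_mul_cancel₀ hwv]
  have huw : B u w = 1 := by rw [herm1 hB w u, hwu, map_one]
  obtain ⟨t, ht⟩ := exists_trace_eq hB.card (c := -B u u) (by rw [← hB.sig, map_neg, hB.sig, self_fix hB])
  refine ⟨u + t • w, U.add_mem hu (U.smul_mem _ hw), ?_, ?_⟩
  · rw [hB.frm.add_left, hB.frm.add_right, hB.frm.add_right, hB.frm.smul_left, hB.frm.smul_right, hB.frm.smul_right,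
      hB.frm.smul_left, hwu, huw, hww, hB.sig]
    linear_combination ht
  · rw [hB.frm.add_right, hB.frm.smul_right, hwu, hww, mul_zero, add_zero]

theorem exists_frame_aux (hB : HS q σ B) (m : ℕ) : ∀ U : Submodule F V, Nd B U →
    (finrank F U = 2 * m ∨ finrank F U = 2 * m + 1) →
    ∃ w w' : Fin m → V, (∀ i, w i ∈ U) ∧ (∀ i, w' i ∈ U) ∧ Fr B w w' := by
  induction m with
  | zero => intro U _ _; exact ⟨Fin.elim0, Fin.elim0, fun i => i.elim0, fun i => i.elim0, fun i => i.elim0,
      fun i => i.elim0, fun i => i.elim0⟩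
  | succ m ih =>
    intro U hU hn
    obtain ⟨x, hx, hx0, hxx⟩ := exists_isotropic hB hU (by omega)
    obtain ⟨y, hy, hyy, hxy⟩ := exists_partner hB hU hx hx0 hxx
    obtain ⟨hnd, hfr⟩ := plane hB hxx hyy hxy
    have hyx : B y x = 1 := by rw [herm1 hB x y, hxy, map_one]
    have hle : Submodule.span F {x, y} ≤ U := by
      rw [Submodule.span_le]
      rintro z (rfl | rfl)
      · exact hx
      · exact hy
    have h1 := hB.frm.finrank_perp_inf hnd hle
    obtain ⟨w, w', hw, hw', hf⟩ := ih _ (hB.frm.nd_perp_inf hU hnd hle) (by omega)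
    have hx' : x ∈ Submodule.span F {x, y} := Submodule.subset_span (Set.mem_insert _ _)
    have hy' : y ∈ Submodule.span F {x, y} := Submodule.subset_span (Set.mem_insert_of_mem _ rfl)
    have e1 : ∀ i, B (w i) x = 0 := fun i => (hw i).1 x hx'
    have e2 : ∀ i, B (w i) y = 0 := fun i => (hw i).1 y hy'
    have e3 : ∀ i, B (w' i) x = 0 := fun i => (hw' i).1 x hx'
    have e4 : ∀ i, B (w' i) y = 0 := fun i => (hw' i).1 y hy'
    have f1 : ∀ i, B x (w i) = 0 := fun i => hB.frm.eq_zero_comm.1 (e1 i)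
    have f4 : ∀ i, B y (w' i) = 0 := fun i => hB.frm.eq_zero_comm.1 (e4 i)
    have f3 : ∀ i, B x (w' i) = 0 := fun i => hB.frm.eq_zero_comm.1 (e3 i)
    refine ⟨Fin.cons x w, Fin.cons y w', ?_, ?_, ?_, ?_, ?_⟩
    · intro i
      refine Fin.cases ?_ (fun i => ?_) i
      · exact hx
      · exact (hw i).2
    · intro i
      refine Fin.cases ?_ (fun i => ?_) i
      · exact hy
      · exact (hw' i).2
    · intro i j
      refine Fin.cases ?_ (fun i => ?_) i <;> refine Fin.cases ?_ (fun j => ?_) j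
      · exact hxx
      · exact f1 j
      · exact e1 i
      · exact hf.ww i j
    · intro i j
      refine Fin.cases ?_ (fun i => ?_) i <;> refine Fin.cases ?_ (fun j => ?_) j
      · rw [Fin.cons_zero, Fin.cons_zero, if_pos rfl, hxy]
      · rw [Fin.cons_zero, Fin.cons_succ, if_neg (Fin.succ_ne_zero j).symm]
        exact f3 j
      · rw [Fin.cons_zero, Fin.cons_succ, if_neg (Fin.succ_ne_zero i)]
        exact e2 i
      · rw [Fin.cons_succ, Fin.cons_succ, hf.dual]
        simp only [Fin.succ_inj]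
    · intro i j
      refine Fin.cases ?_ (fun i => ?_) i <;> refine Fin.cases ?_ (fun j => ?_) j
      · exact hyy
      · exact f4 j
      · exact e4 i
      · exact hf.ww' i j

/-- **T0** -/
theorem exists_frame (hB : HS q σ B) {m : ℕ} (hm : finrank F V = 2 * m ∨ finrank F V = 2 * m + 1) :
    ∃ w w' : Fin m → V, Fr B w w' := by
  obtain ⟨w, w', -, -, h⟩ := exists_frame_aux hB m ⊤ (nd_top hB) (by rwa [finrank_top])
  exact ⟨w, w', h⟩

end Cfsg.Agent.H984.Ore
end

-- part: H951/OreU/Base
section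
/-!
# S2446: elementary facts on nondegenerate hermitian forms over finite fields (`HS`)
-/

set_option autoImplicit false

namespace Cfsg.Agent.H951.OreU

open Module Polynomial Cfsg.Agent.H951 Cfsg.Agent.H98.Ore Cfsg.Agent.LieClassical

variable {F V : Type*} [Field F] [Fintype F] [AddCommGroup V] [Module F V]
  {q : ℕ} {σ : F →+* F} {B : V → V → F}

section

variable (hB : HS q σ B)

include hB

lemma symm (u v : V) : B v u = σ (B u v) := by
  rw [hB.frm.herm u v, one_mul]

lemma self_fix (v : V) : σ (B v v) = B v v := (symm hB v v).symm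

lemma sig_sig (a : F) : σ (σ a) = a := hB.frm.sigma_sq a

lemma sig_ne {a : F} (ha : a ≠ 0) : σ a ≠ 0 := by
  intro h
  apply ha
  rw [← sig_sig hB a, h, map_zero]

lemma exists_tr {c : F} (hc : σ c = c) : ∃ x : F, x + σ x = c := by
  rw [hB.sig] at hc
  obtain ⟨x, hx⟩ := HermBasic.exists_trace_eq hB.card hc
  exact ⟨x, by rw [hB.sig]; exact hx⟩

lemma exists_nm {c : F} (hc : σ c = c) (h0 : c ≠ 0) : ∃ x : F, x ≠ 0 ∧ x * σ x = c := by
  rw [hB.sig] at hc
  obtain ⟨x, hx⟩ := HermBasic.exists_norm_eq hB.card hc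
  refine ⟨x, ?_, by rw [hB.sig]; exact hx⟩
  rintro rfl
  rw [zero_mul] at hx
  exact h0 hx.symm

lemma exists_sig_ne : ∃ x : F, σ x ≠ x := by
  obtain ⟨x, hx⟩ := HermBasic.exists_not_fixed hB.card
  exact ⟨x, by rw [hB.sig]; exact hx⟩

lemma exists_tr_zero : ∃ x : F, x ≠ 0 ∧ x + σ x = 0 := by
  obtain ⟨x, h0, hx⟩ := HermBasic.exists_trace_zero_ne hB.card
  exact ⟨x, h0, by rw [hB.sig]; exact hx⟩

lemma exists_ne {u : V} (hu : u ≠ 0) : ∃ v, B u v ≠ 0 := by
  by_contra h
  push Not at h
  exact hu (hB.nd u h)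

lemma exists_eq_one {u : V} (hu : u ≠ 0) : ∃ v, B u v = 1 := by
  obtain ⟨v, hv⟩ := exists_ne hB hu
  refine ⟨(σ (B u v))⁻¹ • v, ?_⟩
  rw [hB.frm.smul_right, map_inv₀, sig_sig hB, inv_mul_cancel₀ hv]

/-- Norm of `v + c • z`, `z` isotropic. -/
lemma self_add_smul {v z : V} (hz : B z z = 0) (c : F) :
    B (v + c • z) (v + c • z) = B v v + (c * B z v + σ (c * B z v)) := by
  rw [hB.frm.add_left, hB.frm.add_right, hB.frm.add_right, hB.frm.smul_left, hB.frm.smul_left, hB.frm.smul_right,
    hB.frm.smul_right, hz, symm hB z v, map_mul]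
  ring

/-- If `z` is isotropic and `B z v ≠ 0` then some `v + c • z` is isotropic. -/
lemma exists_iso {v z : V} (hz : B z z = 0) (hzv : B z v ≠ 0) :
    ∃ c : F, B (v + c • z) (v + c • z) = 0 := by
  obtain ⟨x, hx⟩ := exists_tr hB (c := -B v v) (by rw [map_neg, self_fix hB])
  refine ⟨x * (B z v)⁻¹, ?_⟩
  rw [self_add_smul hB hz, mul_assoc, inv_mul_cancel₀ hzv, mul_one, hx, add_neg_cancel]

/-- Hyperbolic partner. -/
lemma exists_partner {w : V} (hw : w ≠ 0) (h0 : B w w = 0) : ∃ w', B w' w' = 0 ∧ B w w' = 1 := by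
  obtain ⟨v, hv⟩ := exists_eq_one hB hw
  obtain ⟨c, hc⟩ := exists_iso hB h0 (v := v) (by rw [hv]; exact one_ne_zero)
  refine ⟨v + c • w, hc, ?_⟩
  rw [hB.frm.add_right, hB.frm.smul_right, h0, mul_zero, add_zero, hv]

variable [FiniteDimensional F V]

/-- There are isotropic vectors in dimension at least two. -/
lemma exists_isotropic (hn : 2 ≤ finrank F V) : ∃ w : V, w ≠ 0 ∧ B w w = 0 := by
  have hnt : Nontrivial V := Module.nontrivial_of_finrank_pos (R := F) (by omega)
  obtain ⟨u, hu⟩ := _root_.exists_ne (0 : V)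
  by_cases h1 : B u u = 0
  · exact ⟨u, hu, h1⟩
  -- the orthogonal of `u`
  have h2 := hB.frm.finrank_add_perp_ge (Submodule.span F {u})
  rw [finrank_span_singleton hu] at h2
  have h3 : 0 < finrank F (hB.frm.perp (Submodule.span F {u})) := by omega
  have h4 : Nontrivial (hB.frm.perp (Submodule.span F {u})) := Module.nontrivial_of_finrank_pos (R := F) h3
  obtain ⟨v, hv⟩ := _root_.exists_ne (0 : hB.frm.perp (Submodule.span F {u}))
  have hv0 : (v : V) ≠ 0 := fun h => hv (Subtype.ext h)
  have hvu : B v u = 0 := v.2 u (Submodule.mem_span_singleton_self u)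
  have huv : B u v = 0 := hB.frm.eq_zero_comm.1 hvu
  by_cases h5 : B (v : V) v = 0
  · exact ⟨v, hv0, h5⟩
  obtain ⟨a, ha0, ha⟩ := exists_nm hB (c := -B u u * (B (v : V) v)⁻¹)
    (by rw [map_mul, map_neg, self_fix hB, map_inv₀, self_fix hB])
    (mul_ne_zero (neg_ne_zero.2 h1) (inv_ne_zero h5))
  refine ⟨u + a • (v : V), ?_, ?_⟩
  · intro h
    have h6 : B (u + a • (v : V)) u = 0 := by rw [h, hB.frm.zero_left]
    rw [hB.frm.add_left, hB.frm.smul_left, hvu, mul_zero, add_zero] at h6
    exact h1 h6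
  · rw [hB.frm.add_left, hB.frm.add_right, hB.frm.add_right, hB.frm.smul_left, hB.frm.smul_left, hB.frm.smul_right,
      hB.frm.smul_right, huv, hvu, ← mul_assoc a, ha, mul_assoc, inv_mul_cancel₀ h5]
    ring

/-- There is a hyperbolic pair in dimension at least two. -/
lemma exists_hyp (hn : 2 ≤ finrank F V) : ∃ w w' : V, B w w = 0 ∧ B w' w' = 0 ∧ B w w' = 1 := by
  obtain ⟨w, hw, h0⟩ := exists_isotropic hB hn
  obtain ⟨w', h1, h2⟩ := exists_partner hB hw h0
  exact ⟨w, w', h0, h1, h2⟩

end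

/-! ### the orthogonal of a nondegenerate plane spanned by isotropic vectors -/

/-- The orthogonal of two vectors. -/
def pp (hB : HS q σ B) (w x : V) : Submodule F V where
  carrier := {v | B v w = 0 ∧ B v x = 0}
  add_mem' := by
    rintro a b ⟨h1, h2⟩ ⟨h3, h4⟩
    exact ⟨by rw [hB.frm.add_left, h1, h3, add_zero], by rw [hB.frm.add_left, h2, h4, add_zero]⟩
  zero_mem' := ⟨hB.frm.zero_left _, hB.frm.zero_left _⟩
  smul_mem' := by
    rintro c a ⟨h1, h2⟩
    exact ⟨by rw [hB.frm.smul_left, h1, mul_zero], by rw [hB.frm.smul_left, h2, mul_zero]⟩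

lemma mem_pp (hB : HS q σ B) {w x v : V} : v ∈ pp hB w x ↔ B v w = 0 ∧ B v x = 0 := Iff.rfl

section plane

variable (hB : HS q σ B) {w x : V} (hw : B w w = 0) (hx : B x x = 0) (hwx : B x w ≠ 0) {U : Submodule F V}
  (hU : ∀ v, v ∈ U ↔ B v w = 0 ∧ B v x = 0)

include hB hw hx hwx hU

/-- The projection to `U`. -/
lemma proj_mem (v : V) : v - (B v x * (B w x)⁻¹) • w - (B v w * (B x w)⁻¹) • x ∈ U := by
  have hwx' : B w x ≠ 0 := fun h => hwx (hB.frm.eq_zero_comm.1 h)
  rw [hU]
  constructor
  · rw [hB.frm.sub_left, hB.frm.sub_left, hB.frm.smul_left, hB.frm.smul_left, hw]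
    linear_combination -(B v w) * inv_mul_cancel₀ hwx
  · rw [hB.frm.sub_left, hB.frm.sub_left, hB.frm.smul_left, hB.frm.smul_left, hx]
    linear_combination -(B v x) * inv_mul_cancel₀ hwx'

lemma hs_res : HS q σ (res B U) where
  card := hB.card
  sig := hB.sig
  frm := by
    refine ⟨?_, ?_, ?_, hB.frm.sigma_sq, hB.frm.eps_ne⟩
    · intro u v w'
      exact hB.frm.add_left _ _ _
    · intro a u v
      exact hB.frm.smul_left _ _ _
    · intro u v
      exact hB.frm.herm _ _
  nd := by
    intro u hu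
    apply Subtype.ext
    apply hB.nd
    intro v
    have h1 := hu ⟨_, proj_mem hB hw hx hwx hU v⟩
    have h2 : B (u : V) (v - (B v x * (B w x)⁻¹) • w - (B v w * (B x w)⁻¹) • x) = 0 := h1
    rw [hB.frm.sub_right, hB.frm.sub_right, hB.frm.smul_right, hB.frm.smul_right, ((hU _).1 u.2).1,
      ((hU _).1 u.2).2, mul_zero, mul_zero, sub_zero, sub_zero] at h2
    exact h2

lemma finrank_pp [FiniteDimensional F V] : finrank F U + 2 = finrank F V := by
  have hwx' : B w x ≠ 0 := fun h => hwx (hB.frm.eq_zero_comm.1 h)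
  let φ : V →ₗ[F] F × F :=
    { toFun := fun v => (B v w, B v x)
      map_add' := fun a b => by
        rw [hB.frm.add_left, hB.frm.add_left, Prod.mk_add_mk]
      map_smul' := fun c a => by
        rw [hB.frm.smul_left, hB.frm.smul_left, RingHom.id_apply, Prod.smul_mk, smul_eq_mul, smul_eq_mul] }
  have hφ : ∀ v, φ v = (B v w, B v x) := fun v => rfl
  have hker : LinearMap.ker φ = U := by
    ext v
    rw [LinearMap.mem_ker, hφ, hU, Prod.mk_eq_zero]
  have hsurj : LinearMap.range φ = ⊤ := by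
    rw [LinearMap.range_eq_top]
    rintro ⟨a, b⟩
    refine ⟨(a * (B x w)⁻¹) • x + (b * (B w x)⁻¹) • w, ?_⟩
    rw [hφ, Prod.mk.injEq]
    constructor
    · rw [hB.frm.add_left, hB.frm.smul_left, hB.frm.smul_left, hw]
      linear_combination a * inv_mul_cancel₀ hwx
    · rw [hB.frm.add_left, hB.frm.smul_left, hB.frm.smul_left, hx]
      linear_combination b * inv_mul_cancel₀ hwx'
  have h1 := LinearMap.finrank_range_add_finrank_ker φ
  rw [hker, hsurj, finrank_top, Module.finrank_prod, Module.finrank_self] at h1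
  omega

end plane

end Cfsg.Agent.H951.OreU
end

-- part: H951/OreU/T7a
section
/-!
# S2446, T7a: type I vectors and steps
-/

set_option autoImplicit false

namespace Cfsg.Agent.H951.OreU

open Module Polynomial Cfsg.Agent.H951 Cfsg.Agent.H98.Ore Cfsg.Agent.LieClassical

variable {F V : Type*} [Field F] [Fintype F] [AddCommGroup V] [Module F V]
  {q : ℕ} {σ : F →+* F} {B : V → V → F}

/-- If the hermitian-type expression `B (c x) x` vanishes at all `w + a • y`, then `B (c w) y = 0`. -/
lemma polar_zero (hB : HS q σ B) (c : End F V) {w y : V} (h : ∀ a : F, B (c (w + a • y)) (w + a • y) = 0)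
    (hy : B (c y) y = 0) : B (c w) y = 0 := by
  have h0 : B (c w) w = 0 := by
    have := h 0
    rwa [zero_smul, add_zero] at this
  have h1 : ∀ a : F, σ a * B (c w) y + a * B (c y) w = 0 := by
    intro a
    have := h a
    rw [map_add, map_smul, hB.frm.add_left, hB.frm.add_right, hB.frm.add_right, hB.frm.smul_left, hB.frm.smul_left,
      hB.frm.smul_right, hB.frm.smul_right, h0, hy] at this
    linear_combination this
  obtain ⟨a, ha⟩ := exists_sig_ne hB
  have h2 := h1 1
  have h3 := h1 a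
  rw [map_one, one_mul, one_mul] at h2
  have h4 : (σ a - a) * B (c w) y = 0 := by linear_combination h3 - a * h2
  rcases mul_eq_zero.1 h4 with h5 | h5
  · exact absurd (sub_eq_zero.1 h5) ha
  · exact h5

/-- If `B (c w) w = 0` for all isotropic `w`, then all isotropic `w` are eigenvectors. -/
lemma eigen_of_zero (hB : HS q σ B) [FiniteDimensional F V] (c : End F V)
    (h : ∀ w, B w w = 0 → B (c w) w = 0) {w : V} (hw : B w w = 0) (hcw : B (c w) (c w) = 0) :
    ∃ l : F, c w = l • w := by
  by_cases hw0 : w = 0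
  · exact ⟨0, by rw [hw0, map_zero, smul_zero]⟩
  by_contra hno
  push Not at hno
  have hcw' : B (c w) w = 0 := h w hw
  -- some vector orthogonal to `w` is not orthogonal to `c w`
  have h1 : ∃ v, B v w = 0 ∧ B (c w) v ≠ 0 := by
    by_contra h2
    push Not at h2
    obtain ⟨w', h0', h1'⟩ := exists_partner hB hw0 hw
    apply hno (B (c w) w')
    rw [← sub_eq_zero]
    apply hB.nd
    intro v
    have hw'w : B w' w = 1 := by rw [symm hB w w', h1', map_one]
    have h3 := h2 (v - (B v w) • w') (by rw [hB.frm.sub_left, hB.frm.smul_left, hw'w, mul_one, sub_self])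
    rw [hB.frm.sub_right, hB.frm.smul_right] at h3
    rw [hB.frm.sub_left, hB.frm.smul_left, symm hB v w]
    linear_combination h3
  obtain ⟨v, hvw, hcv⟩ := h1
  obtain ⟨a, ha⟩ := exists_iso hB hcw hcv
  have hyw : B (v + a • c w) w = 0 := by rw [hB.frm.add_left, hB.frm.smul_left, hvw, hcw', mul_zero, add_zero]
  have hwy : B w (v + a • c w) = 0 := hB.frm.eq_zero_comm.1 hyw
  have h4 : B (c w) (v + a • c w) = 0 := by
    apply polar_zero hB c _ (h _ ha)
    intro b
    apply h
    rw [hB.frm.add_left, hB.frm.add_right, hB.frm.add_right, hB.frm.smul_left, hB.frm.smul_left, hB.frm.smul_right,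
      hB.frm.smul_right, hw, ha, hyw, hwy]
    ring
  rw [hB.frm.add_right, hB.frm.smul_right, hcw, mul_zero, add_zero] at h4
  exact hcv h4

/-- A map for which all isotropic vectors are eigenvectors is scalar. -/
lemma scalar_of_eigen (hB : HS q σ B) [FiniteDimensional F V] (c : End F V) (hn : 2 ≤ finrank F V)
    (h : ∀ w, B w w = 0 → ∃ l : F, c w = l • w) : ∃ l : F, c = l • (1 : End F V) := by
  obtain ⟨w, w', hw, hw', hww⟩ := exists_hyp hB hn
  have hww' : B w' w = 1 := by rw [symm hB w w', hww, map_one]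
  obtain ⟨l, hl⟩ := h w hw
  obtain ⟨l', hl'⟩ := h w' hw'
  obtain ⟨t, ht0, ht⟩ := exists_tr_zero hB
  -- eigenvector `w + t w'`
  have h1 : B (w + t • w') (w + t • w') = 0 := by
    rw [hB.frm.add_left, hB.frm.add_right, hB.frm.add_right, hB.frm.smul_left, hB.frm.smul_left, hB.frm.smul_right,
      hB.frm.smul_right, hw, hw', hww, hww']
    linear_combination ht
  obtain ⟨m, hm⟩ := h _ h1
  rw [map_add, map_smul, hl, hl'] at hm
  have h2 : l = m := by
    have := congrArg (fun z => B z w') hm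
    simp only [hB.frm.add_left, hB.frm.smul_left, hww, hw'] at this
    linear_combination this
  have h3 : l' = m := by
    have := congrArg (fun z => B z w) hm
    simp only [hB.frm.add_left, hB.frm.smul_left, hww', hw] at this
    have h4 : t * (l' - m) = 0 := by linear_combination this
    rcases mul_eq_zero.1 h4 with h5 | h5
    · exact absurd h5 ht0
    · exact sub_eq_zero.1 h5
  have h4 : l' = l := h3.trans h2.symm
  subst h4
  -- the orthogonal of the plane
  refine ⟨l', ?_⟩
  have hv : ∀ v, B v w = 0 → B v w' = 0 → c v = l' • v := by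
    intro v hvw hvw'
    obtain ⟨s, hs⟩ := exists_tr hB (c := -B v v) (by rw [map_neg, self_fix hB])
    have hwv : B w v = 0 := hB.frm.eq_zero_comm.1 hvw
    have hwv' : B w' v = 0 := hB.frm.eq_zero_comm.1 hvw'
    have hx : ∀ r : F, r + σ r = -B v v → B (w + v + r • w') (w + v + r • w') = 0 := by
      intro r hr
      simp only [hB.frm.add_left, hB.frm.add_right, hB.frm.smul_left, hB.frm.smul_right, hw, hw', hww, hww', hvw,
        hvw', hwv, hwv']
      linear_combination hr
    -- two different eigenvectors `w + v + s w'` and `w + v + (s + t) w'`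
    obtain ⟨m1, hm1⟩ := h _ (hx s hs)
    obtain ⟨m2, hm2⟩ := h _ (hx (s + t) (by rw [map_add]; linear_combination hs + ht))
    rw [map_add, map_add, map_smul, hl, hl'] at hm1 hm2
    -- difference
    have h5 : (t * l') • w' = (m2 - m1) • w + (m2 - m1) • v + (m2 * (s + t) - m1 * s) • w' := by
      linear_combination (norm := module) hm2 - hm1
    have h6 : m2 = m1 := by
      have := congrArg (fun z => B z w') h5
      simp only [hB.frm.add_left, hB.frm.smul_left, hww, hw', hvw'] at this
      linear_combination -this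
    rw [h6] at h5
    have h7 : m1 = l' := by
      have := congrArg (fun z => B z w) h5
      simp only [hB.frm.add_left, hB.frm.smul_left, hww', hw, hvw] at this
      have h8 : t * (l' - m1) = 0 := by linear_combination this
      rcases mul_eq_zero.1 h8 with h9 | h9
      · exact absurd h9 ht0
      · exact (sub_eq_zero.1 h9).symm
    rw [h7] at hm1
    linear_combination (norm := module) hm1
  ext v
  rw [LinearMap.smul_apply, Module.End.one_apply]
  have h5 := hv (v - B v w' • w - B v w • w')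
    (by rw [hB.frm.sub_left, hB.frm.sub_left, hB.frm.smul_left, hB.frm.smul_left, hw, hww']; ring)
    (by rw [hB.frm.sub_left, hB.frm.sub_left, hB.frm.smul_left, hB.frm.smul_left, hw', hww]; ring)
  rw [map_sub, map_sub, map_smul, map_smul, hl, hl'] at h5
  linear_combination (norm := module) h5

theorem exists_typeI [FiniteDimensional F V] (hB : HS q σ B) {g : End F V} (hg : Isom B g)
    (hns : ∀ c : F, g ≠ c • (1 : End F V)) :
    ∃ w, B w w = 0 ∧ B (g w) w ≠ 0 := by
  by_contra hno
  push Not at hno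
  have hn : 2 ≤ finrank F V := by
    by_contra hlt
    have h1 : finrank F V ≤ 1 := by omega
    rw [finrank_le_one_iff] at h1
    obtain ⟨v, hv⟩ := h1
    obtain ⟨c, hc⟩ := hv (g v)
    apply hns c
    ext u
    obtain ⟨a, rfl⟩ := hv u
    rw [map_smul, ← hc, LinearMap.smul_apply, Module.End.one_apply, smul_comm]
  obtain ⟨l, hl⟩ := scalar_of_eigen hB g hn (fun w hw => eigen_of_zero hB g hno hw (by rw [hg, hw]))
  exact hns l hl

theorem exists_step [FiniteDimensional F V] (hB : HS q σ B) {g : End F V} (hg : Isom B g) {w : V}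
    (h0 : B w w = 0) (h1 : B (g w) w ≠ 0) :
    ∃ (U : Submodule F V) (g₁ : End F U) (b : U → F), Step B g w U g₁ b := by
  have hmem : ∀ v ∈ pp hB w (g w), g v - (B (g v) w * (B (g w) w)⁻¹) • g w ∈ pp hB w (g w) := by
    intro v hv
    rw [mem_pp] at hv ⊢
    constructor
    · rw [hB.frm.sub_left, hB.frm.smul_left, mul_assoc, inv_mul_cancel₀ h1, mul_one, sub_self]
    · rw [hB.frm.sub_left, hB.frm.smul_left, hg, hg, hv.1, h0, mul_zero, sub_zero]
  let g₁ : End F (pp hB w (g w)) :=
    { toFun := fun v => ⟨g v - (B (g v) w * (B (g w) w)⁻¹) • g w, hmem v v.2⟩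
      map_add' := fun u v => by
        apply Subtype.ext
        simp only [Submodule.coe_add, map_add, hB.frm.add_left, add_mul, add_smul]
        abel
      map_smul' := fun a v => by
        apply Subtype.ext
        simp only [Submodule.coe_smul, map_smul, hB.frm.smul_left, RingHom.id_apply, smul_sub, smul_smul, mul_assoc] }
  have hg₁ : ∀ v, ((g₁ v : pp hB w (g w)) : V) = g v - (B (g v) w * (B (g w) w)⁻¹) • g w := fun v => rfl
  refine ⟨pp hB w (g w), g₁, fun v => B (g v) w * (B (g w) w)⁻¹, h0, h1, fun v => Iff.rfl, ?_, ?_⟩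
  · intro u v
    change B (g₁ u : V) (g₁ v : V) = B (u : V) v
    have hu := (mem_pp hB).1 u.2
    have hv := (mem_pp hB).1 v.2
    rw [hg₁, hg₁, hB.frm.sub_left, hB.frm.sub_right, hB.frm.sub_right, hB.frm.smul_left, hB.frm.smul_left,
      hB.frm.smul_right, hB.frm.smul_right, hg, hg, hg, hg, h0, hu.1, hB.frm.eq_zero_comm.1 hv.1]
    ring
  · intro v
    rw [hg₁]
    exact (sub_add_cancel _ _).symm

theorem Step.hs [FiniteDimensional F V] (hB : HS q σ B) {g : End F V} (hg : Isom B g) {w : V} {U : Submodule F V}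
    {g₁ : End F U} {b : U → F} (h : Step B g w U g₁ b) :
    HS q σ (res B U) ∧ finrank F U + 2 = finrank F V := by
  have hx : B (g w) (g w) = 0 := by rw [hg, h.iso]
  exact ⟨hs_res hB h.iso hx h.ne h.mem, finrank_pp hB h.iso hx h.ne h.mem⟩

end Cfsg.Agent.H951.OreU
end

-- part: H24/Ore/CorStep
section
/-!
# Frame extensions (tasks T8a, T8b of S2446)
-/

set_option autoImplicit false
set_option linter.unusedSectionVars false
set_option linter.unusedVariables false
set_option linter.unusedSimpArgs false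

namespace Cfsg.Agent.H24.Ore

open Module Polynomial Cfsg.Agent.H951 Matrix Cfsg.Agent.H98.Ore

variable {F V : Type*} [Field F] [Fintype F] [AddCommGroup V] [Module F V] [FiniteDimensional F V] {q : ℕ}
  {σ : F →+* F} {B : V → V → F}

theorem herm' (hB : HS q σ B) (u v : V) : B v u = σ (B u v) := by
  rw [hB.frm.herm u v, one_mul]

theorem zero_comm (hB : HS q σ B) {u v : V} (h : B u v = 0) : B v u = 0 := hB.frm.eq_zero_comm.1 h

/-- the standard partner of a type I vector -/
theorem partner (hB : HS q σ B) {g : End F V} {w : V} (h1 : B (g w) w ≠ 0) : B w ((B (g w) w)⁻¹ • g w) = 1 := by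
  rw [hB.frm.smul_right, herm' hB (g w) w, map_inv₀, inv_mul_cancel₀]
  intro h
  apply h1
  have := congrArg σ h
  rwa [hB.frm.sigma_sq, map_zero] at this

theorem cor_step (hB : HS q σ B) {g : End F V} (hg : Isom B g) {w : V} {U : Submodule F V} {g₁ : End F U}
    {b : U → F} (h : Step B g w U g₁ b) {κ : Type} [Fintype κ] [DecidableEq κ]
    {P₁ : Matrix κ κ F} (hP : Cor (res B U) g₁ P₁) (s : F) (hs : σ s = -s) :
    ∃ R : Matrix Unit κ F, (b = 0 → R = 0) ∧
      Cor B g (Matrix.fromBlocks (Matrix.of fun _ _ => s * B (g w) w) R 0 P₁) := by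
  obtain ⟨w₁, w₁', hF, hPe⟩ := hP
  have hU : ∀ u : U, B u w = 0 ∧ B u (g w) = 0 := fun u => (h.mem u).1 u.2
  have hU' : ∀ u : U, B w u = 0 ∧ B (g w) u = 0 := fun u => ⟨zero_comm hB (hU u).1, zero_comm hB (hU u).2⟩
  have hgg : B (g w) (g w) = 0 := by rw [hg]; exact h.iso
  set γ := B (g w) w with hγ
  have hp := partner hB h.ne
  rw [← hγ] at hp
  have hs' : σ (-s) = s := by rw [map_neg, hs, neg_neg]
  let w0 : V := γ⁻¹ • g w + (-s) • w
  have hww0 : B w w0 = 1 := by
    rw [hB.frm.add_right, hp, hB.frm.smul_right, h.iso, mul_zero, add_zero]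
  have hgw0 : B (g w) w0 = s * γ := by
    rw [hB.frm.add_right, hB.frm.smul_right, hgg, mul_zero, zero_add, hB.frm.smul_right, hs']
  have hU0 : ∀ u : U, B u w0 = 0 := by
    intro u
    rw [hB.frm.add_right, hB.frm.smul_right, hB.frm.smul_right, (hU u).1, (hU u).2, mul_zero, mul_zero, add_zero]
  have hU0' : ∀ u : U, B w0 u = 0 := fun u => zero_comm hB (hU0 u)
  have hw0w0 : B w0 w0 = 0 := by
    change B (γ⁻¹ • g w + (-s) • w) w0 = 0
    rw [hB.frm.add_left, hB.frm.smul_left, hB.frm.smul_left, hgw0, hww0]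
    have hne : γ ≠ 0 := h.ne
    field_simp
    ring
  refine ⟨Matrix.of fun _ j => b (w₁ j) * (s * γ), ?_, Sum.elim (fun _ => w) (fun j => (w₁ j : V)),
    Sum.elim (fun _ => w0) (fun j => (w₁' j : V)), ⟨?_, ?_, ?_⟩, ?_⟩
  · intro hb
    ext i j
    simp [hb]
  · rintro (i | i) (j | j)
    · exact h.iso
    · exact (hU' _).1
    · exact (hU _).1
    · exact hF.ww i j
  · rintro (i | i) (j | j)
    · simp [hww0]
    · rw [if_neg (by simp)]; exact (hU' _).1
    · rw [if_neg (by simp)]; exact hU0 _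
    · have := hF.dual i j
      simp only [Sum.inr.injEq]
      exact this
  · rintro (i | i) (j | j)
    · exact hw0w0
    · exact hU0' _
    · exact hU0 _
    · exact hF.ww' i j
  · rintro (i | i) (j | j)
    · simp only [Sum.elim_inl, Matrix.fromBlocks_apply₁₁, Matrix.of_apply]
      exact hgw0
    · simp only [Sum.elim_inl, Sum.elim_inr, Matrix.fromBlocks_apply₁₂, Matrix.of_apply]
      rw [h.eq, hB.frm.add_left, hU0, zero_add, hB.frm.smul_left, hgw0]
    · simp only [Sum.elim_inl, Sum.elim_inr, Matrix.fromBlocks_apply₂₁, Matrix.zero_apply]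
      exact (hU' _).2
    · simp only [Sum.elim_inr, Matrix.fromBlocks_apply₂₂]
      rw [h.eq, hB.frm.add_left, hB.frm.smul_left, (hU' _).2, mul_zero, add_zero]
      exact hPe i j

theorem cor_pair (hB : HS q σ B) {g : End F V} (hg : Isom B g) {w : V} {U : Submodule F V} {g₁ : End F U}
    {b : U → F} (h : Step B g w U g₁ b) {w₂ : U} {U₂ : Submodule F U} {g₂ : End F U₂} {b₂ : U₂ → F}
    (h₂ : Step (res B U) g₁ w₂ U₂ g₂ b₂) {κ : Type} [Fintype κ] [DecidableEq κ]
    {P₂ : Matrix κ κ F} (hP : Cor (res (res B U) U₂) g₂ P₂) (s₁ s₂ β : F) (hs₁ : σ s₁ = -s₁) (hs₂ : σ s₂ = -s₂) :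
    ∃ R : Matrix (Fin 2) κ F, Cor B g (Matrix.fromBlocks
      (!![s₁, β; -σ β, s₂] * !![B (g w) w, b w₂ * B (g w) w; 0, B (g₁ w₂ : V) w₂]) R 0 P₂) := by
  obtain ⟨v, v', hF, hPe⟩ := hP
  have hU : ∀ u : U, B u w = 0 ∧ B u (g w) = 0 := fun u => (h.mem u).1 u.2
  have hU' : ∀ u : U, B w u = 0 ∧ B (g w) u = 0 := fun u => ⟨zero_comm hB (hU u).1, zero_comm hB (hU u).2⟩
  have hT : ∀ u : U₂, B ((u : U) : V) (w₂ : V) = 0 ∧ B ((u : U) : V) (g₁ w₂ : V) = 0 := fun u => (h₂.mem u).1 u.2
  have hT' : ∀ u : U₂, B (w₂ : V) ((u : U) : V) = 0 ∧ B (g₁ w₂ : V) ((u : U) : V) = 0 :=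
    fun u => ⟨zero_comm hB (hT u).1, zero_comm hB (hT u).2⟩
  have hgg : B (g w) (g w) = 0 := by rw [hg]; exact h.iso
  have hw₂ : B (w₂ : V) (w₂ : V) = 0 := h₂.iso
  have hgg₂ : B (g₁ w₂ : V) (g₁ w₂ : V) = 0 := by
    have := h.isom w₂ w₂
    change B (g₁ w₂ : V) (g₁ w₂ : V) = B (w₂ : V) (w₂ : V) at this
    rw [this]; exact hw₂
  have hne₂ : B (g₁ w₂ : V) (w₂ : V) ≠ 0 := h₂.ne
  set γ := B (g w) w with hγ
  set γ₂ := B (g₁ w₂ : V) (w₂ : V) with hγ₂
  have hne : γ ≠ 0 := h.ne
  have hp := partner hB h.ne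
  rw [← hγ] at hp
  have hp₂ : B (w₂ : V) (γ₂⁻¹ • (g₁ w₂ : V)) = 1 := by
    rw [hB.frm.smul_right, herm' hB (g₁ w₂ : V) (w₂ : V), map_inv₀, inv_mul_cancel₀]
    intro h0
    apply hne₂
    have := congrArg σ h0
    rwa [hB.frm.sigma_sq, map_zero] at this
  have hs' : σ (-s₁) = s₁ := by rw [map_neg, hs₁, neg_neg]
  have hs₂' : σ (-s₂) = s₂ := by rw [map_neg, hs₂, neg_neg]
  let w0 : V := γ⁻¹ • g w + (-s₁) • w + (σ β) • (w₂ : V)
  let w1 : V := γ₂⁻¹ • (g₁ w₂ : V) + (-β) • w + (-s₂) • (w₂ : V)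
  have a1 : B w w0 = 1 := by
    rw [hB.frm.add_right, hB.frm.add_right, hp, hB.frm.smul_right, h.iso, hB.frm.smul_right, (hU' w₂).1]
    ring
  have a2 : B w w1 = 0 := by
    rw [hB.frm.add_right, hB.frm.add_right, hB.frm.smul_right, (hU' (g₁ w₂)).1, hB.frm.smul_right, h.iso,
      hB.frm.smul_right, (hU' w₂).1]
    ring
  have a3 : B (w₂ : V) w0 = 0 := by
    rw [hB.frm.add_right, hB.frm.add_right, hB.frm.smul_right, (hU w₂).2, hB.frm.smul_right, (hU w₂).1,
      hB.frm.smul_right, hw₂]
    ring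
  have a4 : B (w₂ : V) w1 = 1 := by
    rw [hB.frm.add_right, hB.frm.add_right, hp₂, hB.frm.smul_right, (hU w₂).1, hB.frm.smul_right, hw₂]
    ring
  have b1 : B (g w) w0 = s₁ * γ := by
    rw [hB.frm.add_right, hB.frm.add_right, hB.frm.smul_right, hgg, hB.frm.smul_right, hB.frm.smul_right,
      (hU' w₂).2, hs']
    ring
  have b2 : B (g w) w1 = -σ β * γ := by
    rw [hB.frm.add_right, hB.frm.add_right, hB.frm.smul_right, (hU' (g₁ w₂)).2, hB.frm.smul_right,
      hB.frm.smul_right, (hU' w₂).2, map_neg]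
    ring
  have b3 : B (g₁ w₂ : V) w0 = β * γ₂ := by
    rw [hB.frm.add_right, hB.frm.add_right, hB.frm.smul_right, (hU (g₁ w₂)).2, hB.frm.smul_right, (hU (g₁ w₂)).1,
      hB.frm.smul_right, hB.frm.sigma_sq]
    ring
  have b4 : B (g₁ w₂ : V) w1 = s₂ * γ₂ := by
    rw [hB.frm.add_right, hB.frm.add_right, hB.frm.smul_right, hgg₂, hB.frm.smul_right, (hU (g₁ w₂)).1,
      hB.frm.smul_right, hs₂']
    ring
  have c1 : ∀ u : U₂, B ((u : U) : V) w0 = 0 := by
    intro u
    rw [hB.frm.add_right, hB.frm.add_right, hB.frm.smul_right, hB.frm.smul_right, hB.frm.smul_right,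
      (hU u).1, (hU u).2, (hT u).1]
    ring
  have c2 : ∀ u : U₂, B ((u : U) : V) w1 = 0 := by
    intro u
    rw [hB.frm.add_right, hB.frm.add_right, hB.frm.smul_right, hB.frm.smul_right, hB.frm.smul_right,
      (hU u).1, (hT u).2, (hT u).1]
    ring
  have d1 : B w0 w0 = 0 := by
    change B (γ⁻¹ • g w + (-s₁) • w + (σ β) • (w₂ : V)) w0 = 0
    rw [hB.frm.add_left, hB.frm.add_left, hB.frm.smul_left, hB.frm.smul_left, hB.frm.smul_left, b1, a1, a3]
    field_simp
    ring
  have d2 : B w0 w1 = 0 := by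
    change B (γ⁻¹ • g w + (-s₁) • w + (σ β) • (w₂ : V)) w1 = 0
    rw [hB.frm.add_left, hB.frm.add_left, hB.frm.smul_left, hB.frm.smul_left, hB.frm.smul_left, b2, a2, a4]
    field_simp
    ring
  have d3 : B w1 w1 = 0 := by
    change B (γ₂⁻¹ • (g₁ w₂ : V) + (-β) • w + (-s₂) • (w₂ : V)) w1 = 0
    rw [hB.frm.add_left, hB.frm.add_left, hB.frm.smul_left, hB.frm.smul_left, hB.frm.smul_left, b4, a2, a4]
    field_simp
    ring
  refine ⟨Matrix.of fun i j => B (g ((v j : U) : V)) (![w0, w1] i), Sum.elim ![w, (w₂ : V)] (fun j => ((v j : U) : V)),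
    Sum.elim ![w0, w1] (fun j => ((v' j : U) : V)), ⟨?_, ?_, ?_⟩, ?_⟩
  · rintro (i | i) (j | j)
    · fin_cases i <;> fin_cases j
      · exact h.iso
      · exact (hU' w₂).1
      · exact (hU w₂).1
      · exact hw₂
    · fin_cases i
      · exact (hU' _).1
      · exact (hT' _).1
    · fin_cases j
      · exact (hU _).1
      · exact (hT _).1
    · exact hF.ww i j
  · rintro (i | i) (j | j)
    · fin_cases i <;> fin_cases j
      · simpa using a1
      · simpa using a2
      · simpa using a3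
      · simpa using a4
    · rw [if_neg (by simp)]
      fin_cases i
      · exact (hU' _).1
      · exact (hT' _).1
    · rw [if_neg (by simp)]
      fin_cases j
      · exact c1 _
      · exact c2 _
    · have := hF.dual i j
      simp only [Sum.inr.injEq]
      exact this
  · rintro (i | i) (j | j)
    · fin_cases i <;> fin_cases j
      · exact d1
      · exact d2
      · exact zero_comm hB d2
      · exact d3
    · fin_cases i
      · exact zero_comm hB (c1 _)
      · exact zero_comm hB (c2 _)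
    · fin_cases j
      · exact c1 _
      · exact c2 _
    · exact hF.ww' i j
  · have hg2 : g (w₂ : V) = (g₁ w₂ : V) + b w₂ • g w := h.eq w₂
    rintro (i | i) (j | j)
    · rw [Matrix.fromBlocks_apply₁₁]
      fin_cases i <;> fin_cases j
      · simp [Matrix.mul_apply, Fin.sum_univ_two, b1]
      · simp only [Fin.mk_zero, Fin.isValue, Fin.zero_eta, Fin.mk_one, Sum.elim_inl, Matrix.cons_val_one, Matrix.cons_val_zero,
          Matrix.mul_apply, Fin.sum_univ_two, Matrix.of_apply, Matrix.cons_val_fin_one]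
        rw [hg2, hB.frm.add_left, hB.frm.smul_left, b3, b1]
        ring
      · simp [Matrix.mul_apply, Fin.sum_univ_two, b2]
      · simp only [Fin.mk_zero, Fin.isValue, Fin.zero_eta, Fin.mk_one, Sum.elim_inl, Matrix.cons_val_one, Matrix.cons_val_zero,
          Matrix.mul_apply, Fin.sum_univ_two, Matrix.of_apply, Matrix.cons_val_fin_one]
        rw [hg2, hB.frm.add_left, hB.frm.smul_left, b4, b2]
        ring
    · rw [Matrix.fromBlocks_apply₁₂]
      rfl
    · rw [Matrix.fromBlocks_apply₂₁]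
      fin_cases j
      · exact (hU' _).2
      · change B (g (w₂ : V)) ((v' i : U) : V) = 0
        rw [hg2, hB.frm.add_left, hB.frm.smul_left, (hT' _).2, (hU' _).2]
        ring
    · rw [Matrix.fromBlocks_apply₂₂]
      change B (g ((v j : U) : V)) ((v' i : U) : V) = P₂ i j
      have h5 : (g₁ (v j : U) : V) = ((g₂ (v j) : U) : V) + b₂ (v j) • (g₁ w₂ : V) := by
        rw [h₂.eq (v j)]; rfl
      rw [h.eq, h5, hB.frm.add_left, hB.frm.add_left, hB.frm.smul_left, hB.frm.smul_left, (hT' _).2, (hU' _).2, mul_zero,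
        mul_zero, add_zero, add_zero]
      exact hPe i j

/-- the space of a step is nondegenerate -/
theorem step_nd (hB : HS q σ B) {g : End F V} (hg : Isom B g) {w : V} {U : Submodule F V} {g₁ : End F U}
    {b : U → F} (h : Step B g w U g₁ b) (u : U) (hu : ∀ v : U, B u v = 0) : u = 0 := by
  apply Subtype.ext
  apply hB.nd
  intro v
  have hne : B (g w) w ≠ 0 := h.ne
  have hne' : B w (g w) ≠ 0 := by
    intro h0
    exact hne (zero_comm hB h0)
  have hgg : B (g w) (g w) = 0 := by rw [hg]; exact h.iso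
  have hmem : v - (B v (g w) * (B w (g w))⁻¹) • w - (B v w * (B (g w) w)⁻¹) • g w ∈ U := by
    rw [h.mem]
    constructor
    · rw [hB.frm.sub_left, hB.frm.sub_left, hB.frm.smul_left, hB.frm.smul_left, h.iso, mul_assoc (B v w),
        inv_mul_cancel₀ hne]
      ring
    · rw [hB.frm.sub_left, hB.frm.sub_left, hB.frm.smul_left, hB.frm.smul_left, hgg, mul_assoc (B v (g w)),
        inv_mul_cancel₀ hne']
      ring
  have h1 := hu ⟨_, hmem⟩
  have h2 := (h.mem u).1 u.2
  change B (u : V) (v - (B v (g w) * (B w (g w))⁻¹) • w - (B v w * (B (g w) w)⁻¹) • g w) = 0 at h1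
  rw [hB.frm.sub_right, hB.frm.sub_right, hB.frm.smul_right, hB.frm.smul_right, h2.1, h2.2, mul_zero, mul_zero,
    sub_zero, sub_zero] at h1
  exact h1

/-- the vector orthogonal to a frame in odd dimension -/
theorem exists_left (hB : HS q σ B) (hd : ∀ u, (∀ v, B u v = 0) → u = 0) {κ : Type} [Fintype κ] [DecidableEq κ]
    (hn : finrank F V = 2 * Fintype.card κ + 1) {v v' : κ → V} (hF : Fr B v v') :
    ∃ l : V, B l l ≠ 0 ∧ (∀ i, B (v i) l = 0) ∧ ∀ i, B (v' i) l = 0 := by
  classical
  let E : V →ₗ[F] (κ → F) × (κ → F) :=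
    { toFun := fun u => (fun i => B u (v' i), fun i => B u (v i))
      map_add' := fun x y => by
        refine Prod.ext (funext fun i => ?_) (funext fun i => ?_)
        · exact hB.frm.add_left _ _ _
        · exact hB.frm.add_left _ _ _
      map_smul' := fun a x => by
        refine Prod.ext (funext fun i => ?_) (funext fun i => ?_)
        · exact hB.frm.smul_left _ _ _
        · exact hB.frm.smul_left _ _ _ }
  have hdual' : ∀ i j, B (v' i) (v j) = if i = j then 1 else 0 := by
    intro i j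
    rw [herm' hB (v j) (v' i), hF.dual j i]
    by_cases hij : i = j
    · rw [if_pos hij, if_pos hij.symm, map_one]
    · rw [if_neg hij, if_neg (Ne.symm hij), map_zero]
  let sec : (κ → F) × (κ → F) → V := fun x => ∑ i, x.1 i • v i + ∑ i, x.2 i • v' i
  have hsec : ∀ x, E (sec x) = x := by
    intro x
    refine Prod.ext (funext fun j => ?_) (funext fun j => ?_)
    · change B (∑ i, x.1 i • v i + ∑ i, x.2 i • v' i) (v' j) = x.1 j
      rw [hB.frm.add_left, hB.frm.sum_left, hB.frm.sum_left]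
      simp only [hB.frm.smul_left, hF.dual, hF.ww', mul_zero, Finset.sum_const_zero, add_zero, mul_ite, mul_one,
        Finset.sum_ite_eq', Finset.mem_univ, if_true]
    · change B (∑ i, x.1 i • v i + ∑ i, x.2 i • v' i) (v j) = x.2 j
      rw [hB.frm.add_left, hB.frm.sum_left, hB.frm.sum_left]
      simp only [hB.frm.smul_left, hdual', hF.ww, mul_zero, Finset.sum_const_zero, zero_add, mul_ite, mul_one,
        Finset.sum_ite_eq', Finset.mem_univ, if_true]
  have hsurj : LinearMap.range E = ⊤ := LinearMap.range_eq_top.2 fun x => ⟨sec x, hsec x⟩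
  have h1 := LinearMap.finrank_range_add_finrank_ker E
  rw [hsurj, finrank_top, hn, finrank_prod, finrank_fintype_fun_eq_card] at h1
  have h2 : finrank F (LinearMap.ker E) = 1 := by omega
  obtain ⟨⟨l, hl⟩, hl0, hspan⟩ := finrank_eq_one_iff'.1 h2
  have hEl : ∀ i, B l (v' i) = 0 ∧ B l (v i) = 0 := by
    intro i
    rw [LinearMap.mem_ker] at hl
    exact ⟨congrFun (congrArg Prod.fst hl) i, congrFun (congrArg Prod.snd hl) i⟩
  refine ⟨l, ?_, fun i => zero_comm hB (hEl i).2, fun i => zero_comm hB (hEl i).1⟩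
  intro hll
  apply hl0
  apply Subtype.ext
  apply hd
  intro u
  have h3 : u - sec (E u) ∈ LinearMap.ker E := by
    rw [LinearMap.mem_ker, map_sub, hsec, sub_self]
  obtain ⟨c, hc⟩ := hspan ⟨_, h3⟩
  have h4 : u = sec (E u) + c • l := by
    have := congrArg Subtype.val hc
    change c • l = u - sec (E u) at this
    rw [this]; abel
  change B l u = 0
  rw [h4, hB.frm.add_right, hB.frm.smul_right, hll, mul_zero, add_zero]
  change B l (∑ i, _ • v i + ∑ i, _ • v' i) = 0
  rw [hB.frm.add_right, hB.frm.sum_right, hB.frm.sum_right]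
  simp only [hB.frm.smul_right, (hEl _).1, (hEl _).2, mul_zero, Finset.sum_const_zero, add_zero]

theorem cor_step_odd (hB : HS q σ B) {g : End F V} (hg : Isom B g) {w : V} {U : Submodule F V} {g₁ : End F U}
    {b : U → F} (h : Step B g w U g₁ b) {κ : Type} [Fintype κ] [DecidableEq κ]
    (hn : finrank F U = 2 * Fintype.card κ + 1) {P₁ : Matrix κ κ F} (hP : Cor (res B U) g₁ P₁) (a : F) :
    ∃ R : Matrix Unit κ F, (b = 0 → (∃ c : F, g₁ = c • (1 : End F U)) → R = 0) ∧
      Cor B g (Matrix.fromBlocks (Matrix.of fun _ _ => a) R 0 P₁) := by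
  obtain ⟨w₁, w₁', hF, hPe⟩ := hP
  have hBU : HS q σ (res B U) :=
    { card := hB.card
      sig := hB.sig
      frm :=
        { add_left := fun u v w => hB.frm.add_left _ _ _
          smul_left := fun a u v => hB.frm.smul_left _ _ _
          herm := fun u v => hB.frm.herm _ _
          sigma_sq := hB.frm.sigma_sq
          eps_ne := hB.frm.eps_ne }
      nd := fun u hu => step_nd hB hg h u hu }
  obtain ⟨l, hll, hlv, hlv'⟩ := exists_left hBU hBU.nd hn hF
  have hll : B (l : V) (l : V) ≠ 0 := hll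
  have hU : ∀ u : U, B u w = 0 ∧ B u (g w) = 0 := fun u => (h.mem u).1 u.2
  have hU' : ∀ u : U, B w u = 0 ∧ B (g w) u = 0 := fun u => ⟨zero_comm hB (hU u).1, zero_comm hB (hU u).2⟩
  have hgg : B (g w) (g w) = 0 := by rw [hg]; exact h.iso
  set γ := B (g w) w with hγ
  have hne : γ ≠ 0 := h.ne
  have hp := partner hB h.ne
  rw [← hγ] at hp
  -- the coefficients
  set ζ := σ (a * γ⁻¹) with hζ
  have hσζ : σ ζ = a * γ⁻¹ := hB.frm.sigma_sq _
  have hσl : σ (B (l : V) (l : V)) = B (l : V) (l : V) := (herm' hB (l : V) (l : V)).symm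
  obtain ⟨φ, hφ⟩ := Cfsg.Agent.LieClassical.HermBasic.exists_norm_eq hB.card
    (c := -(ζ + σ ζ) * (B (l : V) (l : V))⁻¹) (by
      rw [← hB.sig, map_mul, map_neg, map_add, map_inv₀, hσl, hB.frm.sigma_sq, ← hζ, add_comm])
  rw [← hB.sig] at hφ
  have hφ' : φ * σ φ * B (l : V) (l : V) = -(ζ + σ ζ) := by
    rw [hφ, mul_assoc, inv_mul_cancel₀ hll, mul_one]
  let w0 : V := γ⁻¹ • g w + ζ • w + φ • (l : V)
  have hww0 : B w w0 = 1 := by
    rw [hB.frm.add_right, hB.frm.add_right, hp, hB.frm.smul_right, h.iso, hB.frm.smul_right, (hU' l).1]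
    ring
  have hgw0 : B (g w) w0 = a := by
    rw [hB.frm.add_right, hB.frm.add_right, hB.frm.smul_right, hgg, hB.frm.smul_right, hB.frm.smul_right,
      (hU' l).2, hσζ, mul_assoc, inv_mul_cancel₀ hne]
    ring
  have hlw0 : B (l : V) w0 = σ φ * B (l : V) (l : V) := by
    rw [hB.frm.add_right, hB.frm.add_right, hB.frm.smul_right, hB.frm.smul_right, hB.frm.smul_right,
      (hU l).1, (hU l).2]
    ring
  have hU0 : ∀ u : U, B u w0 = σ φ * B (u : V) (l : V) := by
    intro u
    rw [hB.frm.add_right, hB.frm.add_right, hB.frm.smul_right, hB.frm.smul_right, hB.frm.smul_right, (hU u).1,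
      (hU u).2]
    ring
  have hv0 : ∀ j, B (w₁ j : V) w0 = 0 := by
    intro j
    rw [hU0, show B (w₁ j : V) (l : V) = 0 from hlv j, mul_zero]
  have hv0' : ∀ j, B (w₁' j : V) w0 = 0 := by
    intro j
    rw [hU0, show B (w₁' j : V) (l : V) = 0 from hlv' j, mul_zero]
  have hw0w0 : B w0 w0 = 0 := by
    change B (γ⁻¹ • g w + ζ • w + φ • (l : V)) w0 = 0
    rw [hB.frm.add_left, hB.frm.add_left, hB.frm.smul_left, hB.frm.smul_left, hB.frm.smul_left, hgw0, hww0, hlw0,
      ← mul_assoc, hφ', hσζ]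
    ring
  refine ⟨Matrix.of fun _ j => B (g (w₁ j)) w0, ?_, Sum.elim (fun _ => w) (fun j => (w₁ j : V)),
    Sum.elim (fun _ => w0) (fun j => (w₁' j : V)), ⟨?_, ?_, ?_⟩, ?_⟩
  · rintro hb ⟨c, hc⟩
    ext i j
    change B (g (w₁ j)) w0 = 0
    have h1 : (g₁ (w₁ j) : V) = c • (w₁ j : V) := by rw [hc]; rfl
    rw [h.eq, hb, Pi.zero_apply, zero_smul, add_zero, h1, hB.frm.smul_left, hv0, mul_zero]
  · rintro (i | i) (j | j)
    · exact h.iso
    · exact (hU' _).1
    · exact (hU _).1
    · exact hF.ww i j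
  · rintro (i | i) (j | j)
    · simp [hww0]
    · rw [if_neg (by simp)]; exact (hU' _).1
    · rw [if_neg (by simp)]; exact hv0 _
    · have := hF.dual i j
      simp only [Sum.inr.injEq]
      exact this
  · rintro (i | i) (j | j)
    · exact hw0w0
    · exact zero_comm hB (hv0' _)
    · exact hv0' _
    · exact hF.ww' i j
  · rintro (i | i) (j | j)
    · simp only [Sum.elim_inl, Matrix.fromBlocks_apply₁₁, Matrix.of_apply]
      exact hgw0
    · rfl
    · simp only [Sum.elim_inl, Sum.elim_inr, Matrix.fromBlocks_apply₂₁, Matrix.zero_apply]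
      exact (hU' _).2
    · simp only [Sum.elim_inr, Matrix.fromBlocks_apply₂₂]
      rw [h.eq, hB.frm.add_left, hB.frm.smul_left, (hU' _).2, mul_zero, add_zero]
      exact hPe i j

end Cfsg.Agent.H24.Ore
end

-- part: H951/OreU/Frame
section
/-!
# S2446: frames (existence, extension, modification), anisotropic vectors
-/

set_option autoImplicit false

namespace Cfsg.Agent.H951.OreU

open Module Polynomial Cfsg.Agent.H951 Cfsg.Agent.H98.Ore Cfsg.Agent.LieClassical

universe u v

variable {F : Type u} {V : Type v} [Field F] [Fintype F] [AddCommGroup V] [Module F V]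
  {q : ℕ} {σ : F →+* F} {B : V → V → F}

/-- Extension of a frame by a hyperbolic pair. -/
lemma fr_cons (hB : HS q σ B) {w x : V} (hw : B w w = 0) (hx : B x x = 0) (hwx : B w x = 1) {U : Submodule F V}
    (hU : ∀ v, v ∈ U ↔ B v w = 0 ∧ B v x = 0) {k : ℕ} {u u' : Fin k → U} (h : Fr (res B U) u u') :
    Fr B (Fin.cons w (fun i => (u i : V)) : Fin (k + 1) → V) (Fin.cons x (fun i => (u' i : V)) : Fin (k + 1) → V) := by
  have hxw : B x w = 1 := by rw [symm hB w x, hwx, map_one]
  have h1 : ∀ v : U, B (v : V) w = 0 := fun v => ((hU _).1 v.2).1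
  have h2 : ∀ v : U, B (v : V) x = 0 := fun v => ((hU _).1 v.2).2
  have h3 : ∀ v : U, B w (v : V) = 0 := fun v => hB.frm.eq_zero_comm.1 (h1 v)
  have h4 : ∀ v : U, B x (v : V) = 0 := fun v => hB.frm.eq_zero_comm.1 (h2 v)
  have h5 : ∀ i j, B (u i : V) (u j : V) = 0 := h.ww
  have h6 : ∀ i j, B (u' i : V) (u' j : V) = 0 := h.ww'
  have h7 : ∀ i j, B (u i : V) (u' j : V) = if i = j then 1 else 0 := h.dual
  refine ⟨?_, ?_, ?_⟩
  · refine Fin.cases (Fin.cases ?_ fun j => ?_) fun i => Fin.cases ?_ fun j => ?_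
    · simpa using hw
    · simpa using h3 _
    · simpa using h1 _
    · simpa using h5 i j
  · refine Fin.cases (Fin.cases ?_ fun j => ?_) fun i => Fin.cases ?_ fun j => ?_
    · simpa using hwx
    · have : (0 : Fin (k + 1)) ≠ j.succ := (Fin.succ_ne_zero j).symm
      rw [if_neg this]
      simpa using h3 _
    · rw [if_neg (Fin.succ_ne_zero i)]
      simpa using h2 _
    · simpa using h7 i j
  · refine Fin.cases (Fin.cases ?_ fun j => ?_) fun i => Fin.cases ?_ fun j => ?_
    · simpa using hx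
    · simpa using h4 _
    · simpa using h2 _
    · simpa using h6 i j

/-- There are frames. -/
theorem exists_fr (m : ℕ) : ∀ {V : Type v} [AddCommGroup V] [Module F V] [FiniteDimensional F V] {B : V → V → F},
    HS q σ B → 2 * m ≤ finrank F V → ∃ w w' : Fin m → V, Fr B w w' := by
  induction m with
  | zero =>
    intro V _ _ _ B hB _
    exact ⟨Fin.elim0, Fin.elim0, ⟨fun i => i.elim0, fun i => i.elim0, fun i => i.elim0⟩⟩
  | succ m ih =>
    intro V _ _ _ B hB hm
    obtain ⟨w, x, hw, hx, hwx⟩ := exists_hyp hB (by omega)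
    have hxw : B x w ≠ 0 := by rw [symm hB w x, hwx, map_one]; exact one_ne_zero
    have hU : ∀ v, v ∈ pp hB w x ↔ B v w = 0 ∧ B v x = 0 := fun v => Iff.rfl
    have h1 := hs_res hB hw hx hxw hU
    have h2 := finrank_pp hB hw hx hxw hU
    obtain ⟨u, u', h⟩ := ih h1 (by omega)
    exact ⟨_, _, fr_cons hB hw hx hwx hU h⟩

/-- There are frames starting with a given isotropic vector. -/
theorem exists_fr_with [FiniteDimensional F V] (hB : HS q σ B) {e : V} (he : e ≠ 0) (hee : B e e = 0) {m : ℕ}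
    (hm : 2 * (m + 1) ≤ finrank F V) : ∃ w w' : Fin (m + 1) → V, Fr B w w' ∧ w 0 = e := by
  obtain ⟨x, hx, hwx⟩ := exists_partner hB he hee
  have hxw : B x e ≠ 0 := by rw [symm hB e x, hwx, map_one]; exact one_ne_zero
  have hU : ∀ v, v ∈ pp hB e x ↔ B v e = 0 ∧ B v x = 0 := fun v => Iff.rfl
  have h1 := hs_res hB hee hx hxw hU
  have h2 := finrank_pp hB hee hx hxw hU
  obtain ⟨u, u', h⟩ := exists_fr m h1 (by omega)
  exact ⟨_, _, fr_cons hB hee hx hwx hU h, rfl⟩

/-- Modification of a frame. -/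
lemma fr_modify (hB : HS q σ B) {ι : Type*} [DecidableEq ι] {w w' : ι → V} (h : Fr B w w') (i₀ i₁ : ι) :
    Fr B (fun i => w i + (if i = i₁ then (1 : F) else 0) • w' i₀ - (if i = i₀ then (1 : F) else 0) • w' i₁) w' := by
  have h' : ∀ i j, B (w' i) (w j) = if i = j then 1 else 0 := by
    intro i j
    rw [symm hB (w j) (w' i), h.dual]
    by_cases hij : i = j
    · subst hij; simp
    · rw [if_neg hij, if_neg (Ne.symm hij), map_zero]
  refine ⟨?_, ?_, h.ww'⟩
  · intro i j
    simp only [hB.frm.add_left, hB.frm.add_right, hB.frm.sub_left, hB.frm.sub_right, hB.frm.smul_left,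
      hB.frm.smul_right, h.ww, h.ww', h.dual, h']
    by_cases h1 : i = i₁ <;> by_cases h2 : i = i₀ <;> by_cases h3 : j = i₁ <;> by_cases h4 : j = i₀ <;>
      simp_all [eq_comm]
  · intro i j
    simp only [hB.frm.add_left, hB.frm.sub_left, hB.frm.smul_left, h.ww', h.dual]
    simp

/-! ### anisotropic vectors -/

section aniso

/-- The decomposition `V = U ⊕ ⟨e⟩`. -/
noncomputable def dec (hB : HS q σ B) {e : V} (hee : B e e ≠ 0) {U : Submodule F V} (hU : ∀ v, v ∈ U ↔ B v e = 0) :
    (U × F) ≃ₗ[F] V where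
  toFun x := (x.1 : V) + x.2 • e
  map_add' x y := by
    rw [Prod.fst_add, Prod.snd_add, Submodule.coe_add, add_smul]
    abel
  map_smul' a x := by
    rw [Prod.smul_fst, Prod.smul_snd, Submodule.coe_smul, smul_eq_mul, mul_smul, RingHom.id_apply, smul_add]
  invFun v := (⟨v - (B v e * (B e e)⁻¹) • e, by
    rw [hU, hB.frm.sub_left, hB.frm.smul_left, mul_assoc, inv_mul_cancel₀ hee, mul_one, sub_self]⟩,
    B v e * (B e e)⁻¹)
  left_inv x := by
    have h1 : B ((x.1 : V) + x.2 • e) e * (B e e)⁻¹ = x.2 := by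
      rw [hB.frm.add_left, hB.frm.smul_left, (hU _).1 x.1.2, zero_add, mul_assoc, mul_inv_cancel₀ hee, mul_one]
    apply Prod.ext
    · apply Subtype.ext
      simp only [h1, add_sub_cancel_right]
    · simp only [h1]
  right_inv v := by
    simp only [sub_add_cancel]

variable (hB : HS q σ B) {e : V} (hee : B e e ≠ 0) {U : Submodule F V} (hU : ∀ v, v ∈ U ↔ B v e = 0)

lemma dec_apply (u : U) (a : F) : dec hB hee hU (u, a) = (u : V) + a • e := rfl

lemma form_dec (u u' : U) (a a' : F) :
    B (dec hB hee hU (u, a)) (dec hB hee hU (u', a')) = B (u : V) u' + a * σ a' * B e e := by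
  rw [dec_apply, dec_apply, hB.frm.add_left, hB.frm.add_right, hB.frm.add_right, hB.frm.smul_left,
    hB.frm.smul_left, hB.frm.smul_right, hB.frm.smul_right, (hU _).1 u.2, hB.frm.eq_zero_comm.1 ((hU _).1 u'.2)]
  ring

include hB hee hU in
lemma hs_res_aniso : HS q σ (res B U) where
  card := hB.card
  sig := hB.sig
  frm := by
    refine ⟨?_, ?_, ?_, hB.frm.sigma_sq, hB.frm.eps_ne⟩
    · intro u v w'
      exact hB.frm.add_left _ _ _
    · intro a u v
      exact hB.frm.smul_left _ _ _
    · intro u v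
      exact hB.frm.herm _ _
  nd := by
    intro u hu
    apply Subtype.ext
    apply hB.nd
    intro v
    obtain ⟨⟨u', a⟩, rfl⟩ := (dec hB hee hU).surjective v
    have h1 : B (u : V) u' = 0 := hu u'
    rw [dec_apply, hB.frm.add_right, hB.frm.smul_right, h1, (hU _).1 u.2, mul_zero, add_zero]

include hB hee hU in
lemma finrank_aniso [FiniteDimensional F V] : finrank F U + 1 = finrank F V := by
  rw [← (dec hB hee hU).finrank_eq, Module.finrank_prod, Module.finrank_self]

/-- The endomorphism `z` on `U`, multiplication by `c` on `e`. -/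
noncomputable def ext1 (z : End F U) (c : F) : End F V :=
  (dec hB hee hU).conj (z.prodMap (c • (1 : End F F)))

lemma ext1_apply (z : End F U) (c : F) (u : U) (a : F) :
    ext1 hB hee hU z c (dec hB hee hU (u, a)) = dec hB hee hU (z u, c * a) := by
  rw [ext1, LinearEquiv.conj_apply_apply, LinearEquiv.symm_apply_apply]
  rfl

lemma eq_ext1 {g : End F V} {z : End F U} {c : F} (h1 : ∀ u : U, g u = z u) (h2 : g e = c • e) :
    g = ext1 hB hee hU z c := by
  ext v
  obtain ⟨⟨u, a⟩, rfl⟩ := (dec hB hee hU).surjective v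
  rw [ext1_apply, dec_apply, dec_apply, map_add, map_smul, h1, h2, smul_smul, mul_comm]

lemma ext1_mul (z z' : End F U) (c c' : F) :
    ext1 hB hee hU z c * ext1 hB hee hU z' c' = ext1 hB hee hU (z * z') (c * c') := by
  ext v
  obtain ⟨⟨u, a⟩, rfl⟩ := (dec hB hee hU).surjective v
  rw [Module.End.mul_apply, ext1_apply, ext1_apply, ext1_apply, Module.End.mul_apply, mul_assoc]

lemma det_ext1 [FiniteDimensional F V] (z : End F U) (c : F) :
    LinearMap.det (ext1 hB hee hU z c) = LinearMap.det z * c := by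
  rw [ext1, LinearEquiv.conj_apply, LinearMap.comp_assoc, LinearMap.det_conj, LinearMap.det_prodMap, LinearMap.det_smul, Module.finrank_self, pow_one, map_one,
    mul_one]

lemma isom_ext1 {z : End F U} (hz : Isom (res B U) z) {c : F} (hc : c * σ c = 1) : Isom B (ext1 hB hee hU z c) := by
  intro v v'
  obtain ⟨⟨u, a⟩, rfl⟩ := (dec hB hee hU).surjective v
  obtain ⟨⟨u', a'⟩, rfl⟩ := (dec hB hee hU).surjective v'
  have h1 : B (z u : V) (z u' : V) = B (u : V) u' := hz u u'
  rw [ext1_apply, ext1_apply, form_dec hB hee hU, form_dec hB hee hU, h1, map_mul]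
  linear_combination (a * σ a' * B e e) * hc

end aniso

end Cfsg.Agent.H951.OreU
end

-- part: H951/OreU/T6
section
/-!
# S2446, T6: isometries with `rank (g - c) = 1`
-/

set_option autoImplicit false

namespace Cfsg.Agent.H951.OreU

open Module Polynomial Cfsg.Agent.H951 Cfsg.Agent.H98.Ore Cfsg.Agent.LieClassical

variable {F V : Type*} [Field F] [Fintype F] [AddCommGroup V] [Module F V] [FiniteDimensional F V]
  {q : ℕ} {σ : F →+* F} {B : V → V → F}

theorem rank_one_form (hB : HS q σ B) (hn : 3 ≤ finrank F V) {g : End F V} (hg : Isom B g) {c : F}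
    (hc : finrank F (LinearMap.range (g - c • (1 : End F V))) = 1) :
    c ^ (q + 1) = 1 ∧ ∃ (e : V) (k : F), e ≠ 0 ∧ k ≠ 0 ∧ ∀ v, g v = c • v + (k * B v e) • e := by
  set d : End F V := g - c • (1 : End F V) with hd
  have hd' : ∀ v, d v = g v - c • v := fun v => rfl
  have hrk := LinearMap.finrank_range_add_finrank_ker d
  -- the kernel is not totally isotropic
  have hnti : ¬ TI B (LinearMap.ker d) := by
    intro h
    have h1 := hB.frm.two_mul_finrank_le (U := (⊤ : Submodule F V))
      (fun u _ hu => by obtain ⟨v, hv⟩ := exists_ne hB hu; exact ⟨v, trivial, hv⟩) le_top h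
    rw [finrank_top] at h1
    omega
  have hcc : c * σ c = 1 := by
    unfold TI at hnti
    push Not at hnti
    obtain ⟨u, hu, v, hv, huv⟩ := hnti
    rw [LinearMap.mem_ker, hd', sub_eq_zero] at hu hv
    have h1 := hg u v
    rw [hu, hv, hB.frm.smul_left, hB.frm.smul_right] at h1
    have h2 : (c * σ c - 1) * B u v = 0 := by linear_combination h1
    rcases mul_eq_zero.1 h2 with h3 | h3
    · exact sub_eq_zero.1 h3
    · exact absurd h3 huv
  refine ⟨by rw [pow_succ', ← hB.sig]; exact hcc, ?_⟩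
  -- the range is a line
  obtain ⟨⟨e, he⟩, he0, hspan⟩ := finrank_eq_one_iff'.1 hc
  have he0' : e ≠ 0 := fun h => he0 (Subtype.ext h)
  have hphi : ∀ v, ∃ a : F, d v = a • e := by
    intro v
    obtain ⟨a, ha⟩ := hspan ⟨d v, LinearMap.mem_range_self d v⟩
    exact ⟨a, (congrArg Subtype.val ha).symm⟩
  -- the kernel is orthogonal to the range
  have horth : ∀ u ∈ LinearMap.ker d, B u e = 0 := by
    intro u hu
    obtain ⟨x, rfl⟩ := he
    rw [LinearMap.mem_ker, hd', sub_eq_zero] at hu
    have h1 := hg u x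
    rw [hu, hB.frm.smul_left] at h1
    rw [hd', hB.frm.sub_right, hB.frm.smul_right]
    linear_combination σ c * h1 - B u (g x) * hcc
  -- the kernel is the orthogonal of `e`
  have hker : LinearMap.ker d = hB.frm.perp (Submodule.span F {e}) := by
    apply Submodule.eq_of_le_of_finrank_eq
    · intro u hu w hw
      obtain ⟨a, rfl⟩ := Submodule.mem_span_singleton.1 hw
      rw [hB.frm.smul_right, horth u hu, mul_zero]
    · have h1 := hB.frm.finrank_perp_inf' (U := (⊤ : Submodule F V)) (W := Submodule.span F {e})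
        (fun u _ hu => by obtain ⟨v, hv⟩ := exists_ne hB hu; exact ⟨v, trivial, hv⟩) le_top
      rw [finrank_span_singleton he0', finrank_top, inf_top_eq] at h1
      omega
  obtain ⟨v0, hv0⟩ := exists_eq_one hB he0'
  have hv0' : B v0 e = 1 := by rw [symm hB e v0, hv0, map_one]
  obtain ⟨k, hk⟩ := hphi v0
  have hform : ∀ v, d v = (k * B v e) • e := by
    intro v
    have h1 : v - B v e • v0 ∈ LinearMap.ker d := by
      rw [hker]
      intro w hw
      obtain ⟨a, rfl⟩ := Submodule.mem_span_singleton.1 hw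
      rw [hB.frm.smul_right, hB.frm.sub_left, hB.frm.smul_left, hv0', mul_one, sub_self, mul_zero]
    rw [LinearMap.mem_ker, map_sub, map_smul, hk, sub_eq_zero] at h1
    rw [h1, smul_smul, mul_comm]
  refine ⟨e, k, he0', ?_, fun v => ?_⟩
  · rintro rfl
    apply he0'
    obtain ⟨x, rfl⟩ := he
    rw [hform, zero_mul, zero_smul]
  · rw [← hform, hd', add_sub_cancel]

theorem frame_transv (hB : HS q σ B) {m : ℕ} (hm : 2 ≤ m) (hn : finrank F V = 2 * m) {g : End F V} {c k : F} {e : V}
    (hc : c ≠ 0) (hk : k ≠ 0) (he : e ≠ 0) (hee : B e e = 0) (hgv : ∀ v, g v = c • v + (k * B v e) • e) :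
    ∃ u φ : Fin m → F, u ≠ 0 ∧ φ ≠ 0 ∧ φ ⬝ᵥ u = 0 ∧
      Cor B g (c • ((1 : Matrix (Fin m) (Fin m) F) + Matrix.vecMulVec u φ)) := by
  obtain ⟨m, rfl⟩ : ∃ k, m = k + 2 := ⟨m - 2, by omega⟩
  obtain ⟨w, w', h, h0⟩ := exists_fr_with hB he hee (m := m + 1) (by omega)
  have h01 : (0 : Fin (m + 2)) ≠ 1 := Fin.zero_ne_one
  refine ⟨Pi.single 0 (c⁻¹ * k), Pi.single 1 1, ?_, ?_, ?_, _, _, fr_modify hB h 0 1, ?_⟩
  · intro h1
    have := congrFun h1 0
    rw [Pi.single_eq_same] at this
    exact mul_ne_zero (inv_ne_zero hc) hk this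
  · intro h1
    have := congrFun h1 1
    rw [Pi.single_eq_same] at this
    exact one_ne_zero this
  · rw [single_dotProduct, one_mul, Pi.single_eq_of_ne h01.symm]
  · intro i j
    have h' : ∀ i j, B (w' i) (w j) = if i = j then 1 else 0 := by
      intro i j
      rw [symm hB (w j) (w' i), h.dual]
      by_cases hij : i = j
      · subst hij; simp
      · rw [if_neg hij, if_neg (Ne.symm hij), map_zero]
    rw [hgv, ← h0]
    simp only [hB.frm.add_left, hB.frm.sub_left, hB.frm.smul_left, h.ww', h.dual, h.ww, h', Matrix.smul_apply,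
      Matrix.add_apply, Matrix.one_apply, Matrix.vecMulVec_apply, Pi.single_apply, smul_eq_mul]
    by_cases h1 : i = 0 <;> by_cases h2 : i = j <;> by_cases h3 : j = 1 <;> simp_all [eq_comm]

/-- `comm_aniso` with T5 (`comm_scalar`) as a hypothesis. -/
theorem comm_aniso_of (T5 : ∀ U : Submodule F V, HS q σ (res B U) → ∀ l : F, l ^ (q + 1) = 1 →
      l ^ finrank F U = 1 → IsComm (res B U) (l • (1 : End F U)))
    (hB : HS q σ B) {g : End F V} (hdet : LinearMap.det g = 1) {c k : F} {e : V}
    (hc : c ^ (q + 1) = 1) (hcn : c ^ (finrank F V - 1) = 1) (hee : B e e ≠ 0)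
    (hgv : ∀ v, g v = c • v + (k * B v e) • e) : IsComm B g := by
  let U : Submodule F V := hB.frm.perp (Submodule.span F {e})
  have hU : ∀ v, v ∈ U ↔ B v e = 0 := by
    intro v
    constructor
    · intro h
      exact h e (Submodule.mem_span_singleton_self e)
    · intro h w hw
      obtain ⟨a, rfl⟩ := Submodule.mem_span_singleton.1 hw
      rw [hB.frm.smul_right, h, mul_zero]
  have hfr := finrank_aniso hB hee hU
  have hcU : c ^ finrank F U = 1 := by
    rw [show finrank F V - 1 = finrank F U by omega] at hcn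
    exact hcn
  have hg : g = ext1 hB hee hU (c • (1 : End F U)) (c + k * B e e) := by
    apply eq_ext1
    · intro u
      rw [hgv, (hU _).1 u.2, mul_zero, zero_smul, add_zero]
      rfl
    · rw [hgv, add_smul]
  have h1 : c + k * B e e = 1 := by
    have h2 := hdet
    rw [hg, det_ext1, LinearMap.det_smul, hcU, map_one, one_mul, one_mul] at h2
    exact h2
  rw [h1] at hg
  obtain ⟨z, h, hz, hh, hdz, hdh, hcomm⟩ := T5 U (hs_res_aniso hB hee hU) c hc hcU
  refine ⟨ext1 hB hee hU z 1, ext1 hB hee hU h 1, isom_ext1 hB hee hU hz (by rw [map_one, mul_one]),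
    isom_ext1 hB hee hU hh (by rw [map_one, mul_one]), by rw [det_ext1, hdz, mul_one],
    by rw [det_ext1, hdh, mul_one], ?_⟩
  rw [hg, ext1_mul, ext1_mul, ext1_mul, hcomm, mul_one, mul_one]

end Cfsg.Agent.H951.OreU
end
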