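import Cfsg.Agent.H98.Ore.Defs
import Cfsg.Agent.H98.Ore.CritB_mg
import Cfsg.Agent.H864.Ore.GlComm
import Cfsg.Agent.H158.Pencil_mg
import Cfsg.Agent.H140.OreO.GLConj
import Cfsg.Agent.H734.OreT5
set_option linter.all false

-- part: H117/OrePoly
section
/-!
# A polynomial for the special unitary group (S2446, task T2)

`F` has `q²` elements.  There is an irreducible `f` of degree `m ≥ 2` which is coprime to its `σ`-reverse, has
constant term fixed by `σ` and is not fixed by the nontrivial root scalings by elements of norm one.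
-/

set_option autoImplicit false
namespace Cfsg.Agent.H117.OrePoly
open Module Polynomial Cfsg.Agent.H951 Matrix Cfsg.Agent.H98.Ore

section arith

theorem n1 {q m d N : ℕ} (hq : 2 ≤ q) (hd : 0 < d) (hdm : 2 * d ≤ m)
    (hN : N * (q + 1) = (q ^ 2) ^ m - 1) (h : N ∣ (q ^ 2) ^ d - 1) : False := by
  have h4 : q < (q ^ 2) ^ d := by
    calc q < q ^ 2 := by nlinarith
      _ ≤ (q ^ 2) ^ d := Nat.le_self_pow hd.ne' _
  have h1 : N ≤ (q ^ 2) ^ d - 1 := Nat.le_of_dvd (by omega) h
  have h2 : (q ^ 2) ^ (2 * d) ≤ (q ^ 2) ^ m := Nat.pow_le_pow_right (by positivity) hdm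
  have h3 : (q ^ 2) ^ (2 * d) = (q ^ 2) ^ d * (q ^ 2) ^ d := by rw [two_mul, pow_add]
  obtain ⟨y, hy⟩ : ∃ y, (q ^ 2) ^ d = y + 1 := ⟨(q ^ 2) ^ d - 1, by omega⟩
  have hz1 : 1 ≤ (q ^ 2) ^ m := Nat.one_le_pow _ _ (by positivity)
  obtain ⟨z, hz⟩ : ∃ z, (q ^ 2) ^ m = z + 1 := ⟨(q ^ 2) ^ m - 1, by omega⟩
  rw [hy] at h1 h3 h4
  rw [hz] at hN h2
  rw [h3] at h2
  simp only [Nat.add_sub_cancel] at hN h1
  have h5 : N * (q + 1) ≤ y * (q + 1) := Nat.mul_le_mul_right _ h1
  nlinarith

theorem n2a {q m e N : ℕ} (hq : 2 ≤ q) (hm : 2 ≤ m) (he : Odd e) (hem : e ≤ m)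
    (hN : N * (q + 1) = (q ^ 2) ^ m - 1) (h : N ∣ q ^ e + 1) : False := by
  have h1 : N ≤ q ^ e + 1 := Nat.le_of_dvd (by omega) h
  have h2 : (q ^ 2) ^ m = q ^ m * q ^ m := by rw [← pow_mul, two_mul, pow_add]
  have hx1 : 1 ≤ q ^ m := Nat.one_le_pow _ _ (by omega)
  obtain ⟨x, hx⟩ : ∃ x, q ^ m = x + 1 := ⟨q ^ m - 1, by omega⟩
  have h3 : (q ^ 2) ^ m - 1 = x * (x + 2) := by
    rw [h2, hx]
    have : (x + 1) * (x + 1) = x * (x + 2) + 1 := by ring
    omega
  rw [h3] at hN
  have h4 : x * (x + 2) ≤ (q ^ e + 1) * (q + 1) := by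
    rw [← hN]; exact Nat.mul_le_mul_right _ h1
  have hqm : q * q ≤ q ^ m := by
    calc q * q = q ^ 2 := by ring
      _ ≤ q ^ m := Nat.pow_le_pow_right (by omega) hm
  rcases Nat.lt_or_ge e m with hlt | hge
  · have h5 : q ^ e ≤ q ^ (m - 1) := Nat.pow_le_pow_right (by omega) (by omega)
    have h6 : q ^ m = q * q ^ (m - 1) := by
      conv_lhs => rw [show m = (m - 1) + 1 by omega]
      rw [pow_succ]; ring
    have h7 : q ≤ q ^ (m - 1) := Nat.le_self_pow (by omega) _
    generalize q ^ (m - 1) = y at *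
    generalize q ^ e = z at *
    have h8 : z + 1 ≤ x := by nlinarith
    have h9 : (z + 1) * (q + 1) ≤ x * (q + 1) := Nat.mul_le_mul_right _ h8
    have h10 : q + 1 < x + 2 := by nlinarith
    have h11 : 0 < x := by omega
    have h12 : x * (q + 1) < x * (x + 2) := Nat.mul_lt_mul_of_pos_left h10 h11
    omega
  · have hem' : e = m := le_antisymm hem hge
    subst hem'
    have h3m : 3 ≤ e := by
      rcases he with ⟨k, hk⟩
      omega
    rw [hx] at h4
    have h5 : x ≤ q + 1 := by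
      have : (x + 2) * x ≤ (x + 2) * (q + 1) := by nlinarith
      exact Nat.le_of_mul_le_mul_left this (by omega)
    have h6 : q ^ 3 ≤ q ^ e := Nat.pow_le_pow_right (by omega) h3m
    have h7 : q ^ 3 = q * q * q := by ring
    nlinarith

theorem n2 {q m j N : ℕ} (hq : 2 ≤ q) (hm : 2 ≤ m) (hj : j < m)
    (hN : N * (q + 1) = (q ^ 2) ^ m - 1) (h : N ∣ (q ^ 2) ^ j * q + 1) : False := by
  have h0 : (q ^ 2) ^ j * q = q ^ (2 * j + 1) := by rw [← pow_mul, pow_succ]
  rw [h0] at h
  rcases Nat.lt_or_ge m (2 * j + 1) with hlt | hge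
  · refine n2a (e := 2 * m - (2 * j + 1)) hq hm ?_ (by omega) hN ?_
    · exact ⟨m - j - 1, by omega⟩
    · have h1 : q ^ (2 * m - (2 * j + 1)) * (q ^ (2 * j + 1) + 1)
          = ((q ^ 2) ^ m - 1) + (q ^ (2 * m - (2 * j + 1)) + 1) := by
        have : 1 ≤ (q ^ 2) ^ m := Nat.one_le_pow _ _ (by positivity)
        rw [mul_add, ← pow_add, show 2 * m - (2 * j + 1) + (2 * j + 1) = 2 * m by omega, pow_mul]
        omega
      have h2 : N ∣ (q ^ 2) ^ m - 1 := ⟨q + 1, hN.symm⟩
      exact (Nat.dvd_add_right h2).1 (h1 ▸ Dvd.dvd.mul_left h _)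
  · exact n2a hq hm ⟨j, rfl⟩ hge hN h

theorem n3 {q m j N : ℕ} (hq : 2 ≤ q) (hj0 : 0 < j) (hj : j < m)
    (hN : N * (q + 1) = (q ^ 2) ^ m - 1) (h : N ∣ ((q ^ 2) ^ j - 1) * (q + 1)) : False := by
  have h1 : (q ^ 2) ^ m - 1 ∣ ((q ^ 2) ^ j - 1) * ((q + 1) * (q + 1)) := by
    rw [← hN, ← mul_assoc]; exact Nat.mul_dvd_mul_right h _
  set Q := q ^ 2 with hQ
  have hQ4 : 4 ≤ Q := by nlinarith
  set g := Nat.gcd m j with hg
  have hgm : g ∣ m := Nat.gcd_dvd_left _ _
  have hgj : g ∣ j := Nat.gcd_dvd_right _ _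
  have hg0 : 0 < g := Nat.gcd_pos_of_pos_right _ hj0
  have hglej : g ≤ j := Nat.le_of_dvd hj0 hgj
  have hgcd : Nat.gcd (Q ^ m - 1) (Q ^ j - 1) = Q ^ g - 1 := Nat.pow_sub_one_gcd_pow_sub_one _ _ _
  have hQg : 1 < Q ^ g := Nat.one_lt_pow hg0.ne' (by omega)
  obtain ⟨A, hA⟩ : Q ^ g - 1 ∣ Q ^ m - 1 := hgcd ▸ Nat.gcd_dvd_left _ _
  obtain ⟨B, hB⟩ : Q ^ g - 1 ∣ Q ^ j - 1 := hgcd ▸ Nat.gcd_dvd_right _ _
  have hcop : Nat.Coprime A B := by
    have : (Q ^ g - 1) * Nat.gcd A B = (Q ^ g - 1) * 1 := by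
      rw [← Nat.gcd_mul_left, ← hA, ← hB, hgcd, mul_one]
    exact Nat.eq_of_mul_eq_mul_left (by omega) this
  have hAd : A ∣ (q + 1) * (q + 1) := by
    rw [hA, hB, mul_assoc] at h1
    exact hcop.dvd_of_dvd_mul_left (Nat.dvd_of_mul_dvd_mul_left (by omega) h1)
  have hAle : A ≤ (q + 1) * (q + 1) := Nat.le_of_dvd (by positivity) hAd
  have hmg : g ≤ m - g := by
    obtain ⟨k, hk⟩ := hgm
    have hk2 : 2 ≤ k := by
      by_contra hk2
      interval_cases k <;> omega
    have : g * 2 ≤ g * k := Nat.mul_le_mul_left _ hk2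
    omega
  have hpow : Q ^ m = Q ^ (m - g) * Q ^ g := by
    rw [← pow_add]; congr 1; omega
  have hAgt : Q ^ (m - g) < A := by
    by_contra hcon
    have hcon' : A ≤ Q ^ (m - g) := Nat.le_of_not_lt hcon
    obtain ⟨y, hy⟩ : ∃ y, Q ^ g = y + 1 := ⟨Q ^ g - 1, by omega⟩
    have hQmg : 1 < Q ^ (m - g) := Nat.one_lt_pow (by omega) (by omega)
    rw [hpow, hy, Nat.add_sub_cancel] at hA
    have : y * A ≤ y * Q ^ (m - g) := Nat.mul_le_mul_left _ hcon'
    have h3 : Q ^ (m - g) * (y + 1) = y * Q ^ (m - g) + Q ^ (m - g) := by ring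
    omega
  rcases Nat.lt_or_ge (m - g) 2 with hlt | hge
  · have hg1 : g = 1 := by omega
    have hm2 : m = 2 := by omega
    rw [hg1, hm2] at hA
    have hA' : A = Q + 1 := by
      obtain ⟨y, hy⟩ : ∃ y, Q = y + 1 := ⟨Q - 1, by omega⟩
      rw [hy] at hA ⊢
      rw [pow_one, Nat.add_sub_cancel] at hA
      have h5 : (y + 1) ^ 2 - 1 = y * (y + 2) := by
        have : (y + 1) ^ 2 = y * (y + 2) + 1 := by ring
        omega
      rw [h5] at hA
      exact (Nat.eq_of_mul_eq_mul_left (by omega) hA).symm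
    rw [hA'] at hAd
    have h6 : (q + 1) * (q + 1) = (Q + 1) + 2 * q := by rw [hQ]; ring
    rw [h6] at hAd
    have h7 : Q + 1 ∣ 2 * q := (Nat.dvd_add_right (dvd_refl _)).1 hAd
    have h8 : Q + 1 ≤ 2 * q := Nat.le_of_dvd (by omega) h7
    nlinarith
  · have h5 : Q ^ 2 ≤ Q ^ (m - g) := Nat.pow_le_pow_right (by omega) hge
    have h6 : (q + 1) * (q + 1) ≤ Q ^ 2 := by
      have h7 : q + 1 ≤ Q := by nlinarith
      calc (q + 1) * (q + 1) ≤ Q * Q := Nat.mul_le_mul h7 h7
        _ = Q ^ 2 := by ring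
    omega

end arith

section fld

/-- the constant term of the minimal polynomial of a generator -/
theorem coeff_zero_eq {F E : Type*} [Field F] [Field E] [Algebra F E] [FiniteDimensional F E] {x : E}
    (h : (minpoly F x).natDegree = finrank F E) :
    Algebra.norm F x = (-1) ^ finrank F E * (minpoly F x).coeff 0 := by
  have htop : Algebra.adjoin F {x} = ⊤ := by
    have h1 : IntermediateField.adjoin F {x} = ⊤ := by
      apply IntermediateField.eq_of_le_of_finrank_eq le_top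
      rw [IntermediateField.adjoin.finrank (Algebra.IsIntegral.isIntegral x), h,
        IntermediateField.finrank_top']
    rw [← IntermediateField.adjoin_simple_toSubalgebra_of_isAlgebraic (Algebra.IsIntegral.isIntegral x).isAlgebraic, h1]
    rfl
  have h2 := Algebra.PowerBasis.norm_gen_eq_coeff_zero_minpoly
    (PowerBasis.ofAdjoinEqTop (Algebra.IsIntegral.isIntegral x) htop)
  rw [PowerBasis.ofAdjoinEqTop_gen, PowerBasis.ofAdjoinEqTop_dim, h] at h2
  exact h2

theorem exists_poly {F : Type*} [Field F] [Fintype F] {q : ℕ} (hF : Fintype.card F = q ^ 2) (σ : F →+* F)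
    (hσ : ∀ a, σ a = a ^ q) {m : ℕ} (hm : 2 ≤ m) :
    ∃ f : F[X], Irreducible f ∧ f.Monic ∧ f.natDegree = m ∧ σ (f.coeff 0) = f.coeff 0 ∧
      IsCoprime f (f.map σ).reverse ∧ ∀ l : F, l ^ (q + 1) = 1 → l ≠ 1 → f.scaleRoots l ≠ f := by
  classical
  have hq : 2 ≤ q := by
    have h1 : 1 < Fintype.card F := Fintype.one_lt_card
    rw [hF] at h1
    by_contra hcon
    interval_cases q <;> simp at h1
  obtain ⟨p, hp⟩ := CharP.exists F
  obtain ⟨n, hpp, hcard⟩ := FiniteField.card F p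
  have : Fact p.Prime := ⟨hpp⟩
  have : NeZero m := ⟨by omega⟩
  obtain ⟨k, -, hk⟩ : ∃ k ≤ (n : ℕ), q = p ^ k :=
    (Nat.dvd_prime_pow hpp).1 (by rw [← hcard, hF]; exact dvd_pow_self _ (by norm_num))
  set E := FiniteField.Extension F p m with hE
  have hEcard : Nat.card E = (q ^ 2) ^ m := by
    rw [hE, FiniteField.natCard_extension, Nat.card_eq_fintype_card, hF]
  have hEfin : finrank F E = m := FiniteField.finrank_extension F p m
  have : FiniteDimensional F E := inferInstance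
  have : CharP E p := charP_of_injective_algebraMap (algebraMap F E).injective p
  have hQm1 : 1 < (q ^ 2) ^ m := Nat.one_lt_pow (by omega) (by nlinarith)
  -- the generator
  obtain ⟨η, hη⟩ := IsCyclic.exists_generator (α := Eˣ)
  have hηord : orderOf η = (q ^ 2) ^ m - 1 := by
    rw [orderOf_eq_card_of_forall_mem_zpowers hη, Nat.card_units, hEcard]
  have hdvd : q + 1 ∣ (q ^ 2) ^ m - 1 := by
    have h1 : q ^ 2 - 1 ∣ (q ^ 2) ^ m - 1 := by
      simpa using Nat.sub_dvd_pow_sub_pow (q ^ 2) 1 m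
    refine dvd_trans ⟨q - 1, ?_⟩ h1
    obtain ⟨r, rfl⟩ : ∃ r, q = r + 1 := ⟨q - 1, by omega⟩
    have : (r + 1) ^ 2 = (r + 1 + 1) * r + 1 := by ring
    rw [this]; simp
  obtain ⟨N, hN'⟩ := hdvd
  have hN : N * (q + 1) = (q ^ 2) ^ m - 1 := by rw [hN', mul_comm]
  have hN0 : 0 < N := by
    rcases Nat.eq_zero_or_pos N with h0 | h0
    · rw [h0] at hN; omega
    · exact h0
  have hξord : orderOf ((η ^ (q + 1) : Eˣ) : E) = N := by
    rw [orderOf_units, orderOf_pow, hηord, hN', Nat.gcd_mul_right_left, Nat.mul_div_cancel_left _ (by omega)]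
  set ξ : E := ((η ^ (q + 1) : Eˣ) : E) with hξ
  have hξ0 : ξ ≠ 0 := Units.ne_zero _
  have hord : ∀ k : ℕ, ξ ^ k = 1 ↔ N ∣ k := fun k => by rw [← hξord, orderOf_dvd_iff_pow_eq_one]
  have hint : IsIntegral F ξ := Algebra.IsIntegral.isIntegral ξ
  -- the degree
  have hdeg : (minpoly F ξ).natDegree = m := by
    set K := IntermediateField.adjoin F {ξ} with hK
    have h1 : finrank F K = (minpoly F ξ).natDegree := IntermediateField.adjoin.finrank hint
    have h2 : finrank F K * finrank K E = m := by rw [finrank_mul_finrank, hEfin]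
    have h3 : Nat.card K = (q ^ 2) ^ finrank F K := by
      rw [Module.natCard_eq_pow_finrank (K := F), Nat.card_eq_fintype_card, hF]
    have h4 : N ∣ (q ^ 2) ^ finrank F K - 1 := by
      rw [← hord, ← h3]
      have := Fintype.ofFinite K
      have h5 : (⟨ξ, IntermediateField.mem_adjoin_simple_self F ξ⟩ : K) ^ (Nat.card K - 1) = 1 := by
        rw [Nat.card_eq_fintype_card]
        exact FiniteField.pow_card_sub_one_eq_one _ (by
          intro h; exact hξ0 (congrArg Subtype.val h))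
      exact congrArg Subtype.val h5
    have h5 : 0 < finrank F K := finrank_pos
    rw [← h1]
    by_contra hne
    have h6 : 2 ≤ finrank K E := by
      have h7 : 0 < finrank K E := finrank_pos
      rcases Nat.lt_or_ge (finrank K E) 2 with h8 | h8
      · have h9 : finrank K E = 1 := by omega
        rw [h9, mul_one] at h2
        exact absurd h2 hne
      · exact h8
    refine n1 (m := m) hq h5 ?_ hN h4
    calc 2 * finrank F K = finrank F K * 2 := mul_comm _ _
      _ ≤ finrank F K * finrank K E := Nat.mul_le_mul_left _ h6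
      _ = m := h2
  -- the roots
  have hroot : ∀ θ : E, aeval θ (minpoly F ξ) = 0 → ∃ j < m, θ = ξ ^ (q ^ 2) ^ j := by
    intro θ hθ
    obtain ⟨τ, hτ⟩ := minpoly.exists_algEquiv_of_root' (hint.isAlgebraic) hθ
    obtain ⟨i, hi, hiτ⟩ := FiniteField.Extension.exists_frob_pow_eq F p m τ
    refine ⟨i, hi, ?_⟩
    rw [← hτ, ← hiτ, FiniteField.Extension.frob_iterate_apply, Nat.card_eq_fintype_card, hF]
  refine ⟨minpoly F ξ, minpoly.irreducible hint, minpoly.monic hint, hdeg, ?_, ?_, ?_⟩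
  · -- the constant term
    have h1 := coeff_zero_eq (F := F) (x := ξ) (by rw [hdeg, hEfin])
    have h2 : (Algebra.norm F ξ) ^ (q - 1) = 1 := by
      apply (algebraMap F E).injective
      rw [map_pow, FiniteField.algebraMap_norm_eq_pow, map_one, ← pow_mul, hord, hEcard,
        Nat.card_eq_fintype_card, hF]
      have h3 : q ^ 2 - 1 ∣ (q ^ 2) ^ m - 1 := by
        simpa using Nat.sub_dvd_pow_sub_pow (q ^ 2) 1 m
      obtain ⟨S, hS⟩ := h3
      have h4 : 0 < q ^ 2 - 1 := by
        have : 4 ≤ q ^ 2 := by nlinarith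
        omega
      rw [hS, Nat.mul_div_cancel_left _ h4]
      have h5 : q ^ 2 - 1 = (q - 1) * (q + 1) := by
        obtain ⟨r, rfl⟩ : ∃ r, q = r + 1 := ⟨q - 1, by omega⟩
        have : (r + 1) ^ 2 = r * (r + 1 + 1) + 1 := by ring
        rw [this]; simp
      have h6 : N * (q + 1) = (S * (q - 1)) * (q + 1) := by rw [hN, hS, h5]; ring
      rw [Nat.eq_of_mul_eq_mul_right (by omega) h6]
    have h3 : σ (Algebra.norm F ξ) = Algebra.norm F ξ := by
      rw [hσ]
      conv_lhs => rw [show q = (q - 1) + 1 by omega]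
      rw [pow_succ, h2, one_mul]
    rw [h1, map_mul, map_pow, map_neg, map_one] at h3
    exact mul_left_cancel₀ (pow_ne_zero _ (neg_ne_zero.2 one_ne_zero)) h3
  · -- coprime to the reverse
    rw [(minpoly.irreducible hint).coprime_iff_not_dvd]
    intro hdv
    have h1 : aeval ξ (((minpoly F ξ).map σ).reverse) = 0 := by
      obtain ⟨g, hg⟩ := hdv
      rw [hg, map_mul, minpoly.aeval, zero_mul]
    let _ : Invertible (ξ⁻¹) := invertibleOfNonzero (inv_ne_zero hξ0)
    have h2 : aeval ξ⁻¹ ((minpoly F ξ).map σ) = 0 := by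
      have h3 := eval₂_reverse_eq_zero_iff (algebraMap F E) ξ⁻¹ ((minpoly F ξ).map σ)
      rw [invOf_eq_inv, inv_inv] at h3
      exact h3.1 h1
    let φ : E →+* E := iterateFrobenius E p k
    have hφ : ∀ x, φ x = x ^ q := fun x => by rw [hk]; exact iterateFrobenius_def p k x
    have hcomp : (algebraMap F E).comp σ = φ.comp (algebraMap F E) := by
      ext a
      simp [hφ, hσ]
    obtain ⟨θ, hθ⟩ : ∃ θ, φ θ = ξ⁻¹ := (Finite.injective_iff_surjective.1 φ.injective) _
    have h4 : aeval θ (minpoly F ξ) = 0 := by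
      apply φ.injective
      rw [map_zero, ← h2, aeval_def, aeval_def, eval₂_map, hcomp, ← hθ, hom_eval₂]
    obtain ⟨j, hj, hjθ⟩ := hroot θ h4
    have h5 : ξ ^ ((q ^ 2) ^ j * q + 1) = 1 := by
      rw [pow_succ, pow_mul, ← hjθ, ← hφ, hθ, inv_mul_cancel₀ hξ0]
    exact n2 hq hm hj hN ((hord _).1 h5)
  · -- scaling
    intro l hl hl1 hcon
    have h1 := scaleRoots_aeval_eq_zero (R := F) (A := E) (p := minpoly F ξ) (a := ξ) (r := l)
      (minpoly.aeval F ξ)
    rw [hcon] at h1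
    obtain ⟨j, hj, hjl⟩ := hroot _ h1
    have hpos : 1 ≤ (q ^ 2) ^ j := Nat.one_le_pow _ _ (by positivity)
    have h2 : algebraMap F E l = ξ ^ ((q ^ 2) ^ j - 1) := by
      apply mul_right_cancel₀ hξ0
      rw [hjl, ← pow_succ, Nat.sub_add_cancel hpos]
    have h3 : ξ ^ (((q ^ 2) ^ j - 1) * (q + 1)) = 1 := by
      rw [pow_mul, ← h2, ← map_pow, hl, map_one]
    rcases Nat.eq_zero_or_pos j with h0 | h0
    · apply hl1
      apply (algebraMap F E).injective
      rw [h2, h0, map_one]; simp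
    · exact n3 hq h0 hj hN ((hord _).1 h3)

end fld

end Cfsg.Agent.H117.OrePoly
end

-- part: H98/Ore/Good
section
/-!
# T12 : a good corner gives a commutator
-/

set_option autoImplicit false
set_option linter.unusedSectionVars false

namespace Cfsg.Agent.H98.Ore

open Module Polynomial Cfsg.Agent.H951 Matrix

universe u

variable {F : Type*} {V : Type*} [Field F] [Fintype F] [AddCommGroup V] [Module F V] [FiniteDimensional F V]
  {q : ℕ} {σ : F →+* F} {B : V → V → F}

/-- T12 -/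
theorem comm_of_good (hB : HS q σ B) (hn : 4 ≤ finrank F V) {g : End F V} (hg : Isom B g) (hdet : LinearMap.det g = 1)
    (h : Good B g) : IsComm B g := by
  obtain ⟨ι, hι1, hι2, P, hcard, hcor, hPd, x, p, hp, hpx⟩ := h
  have h2 : 2 ≤ Fintype.card ι := by omega
  have hq2 := LieClassical.HermBasic.two_le hB.card
  have hF4 : 4 ≤ Nat.card F := by
    rw [Nat.card_eq_fintype_card, hB.card]
    nlinarith
  obtain ⟨f, hf, hfm, hfd, hf0, hcop, -⟩ := Cfsg.Agent.H117.OrePoly.exists_poly hB.card σ hB.sig h2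
  obtain ⟨Z, k, hZf, hk, hPZ⟩ := Cfsg.Agent.H864.Ore.gl_comm hF4 P hPd x p hp hpx f hf hfm hfd h2
  have hc0 : f.coeff 0 ≠ 0 := by
    intro h0
    have h3 : f.eval 0 = 0 := by rw [← coeff_zero_eq_eval_zero, h0]
    have h4 := Polynomial.degree_eq_one_of_irreducible_of_root hf h3
    have h5 : f.natDegree = 1 := natDegree_eq_of_degree_eq_some h4
    omega
  have hdetZ : Z.det = (-1) ^ Fintype.card ι * f.coeff 0 := by
    rw [Matrix.det_eq_sign_charpoly_coeff, hZf]
  have hZ0 : Z.det ≠ 0 := by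
    rw [hdetZ]
    exact mul_ne_zero (pow_ne_zero _ (neg_ne_zero.2 one_ne_zero)) hc0
  have hσZ : σ Z.det = Z.det := by
    rw [hdetZ, map_mul, hf0, map_pow, map_neg, map_one]
  refine criterion hB hg hdet hcard hcor hPZ hk hZ0 (fun _ => hσZ) (by rw [hZf]; exact hcop) ?_
  rw [hσZ, mul_inv_cancel₀ hZ0, hZf]
  intro h3
  have h4 := Polynomial.degree_eq_one_of_irreducible_of_root hf h3
  have h5 : f.natDegree = 1 := natDegree_eq_of_degree_eq_some h4
  omega

end Cfsg.Agent.H98.Ore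
end

-- part: H588/OrePl
section
/-!
# S2446, task T9: two field computations
-/

set_option autoImplicit false

namespace Cfsg.Agent.H588.Ore

open Module Polynomial Cfsg.Agent.H951 Matrix Cfsg.Agent.H98.Ore Cfsg.Agent.LieClassical.HermBasic

section

variable {F : Type*} [Field F] {σ : F →+* F} {γ₁ γ₂ κ : F}

theorem blk_mul (s₁ s₂ β : F) : !![s₁, β; -σ β, s₂] * !![γ₁, κ; 0, γ₂] =
    !![s₁ * γ₁, s₁ * κ + β * γ₂; -σ β * γ₁, -σ β * κ + s₂ * γ₂] := by
  rw [Matrix.mul_fin_two]
  congr 1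
  simp

theorem blk_det (s₁ s₂ β : F) : (!![s₁, β; -σ β, s₂] * !![γ₁, κ; 0, γ₂]).det =
    (s₁ * s₂ + β * σ β) * (γ₁ * γ₂) := by
  rw [blk_mul, Matrix.det_fin_two_of]
  ring

theorem blk_trace (s₁ s₂ β : F) : (!![s₁, β; -σ β, s₂] * !![γ₁, κ; 0, γ₂]).trace =
    s₁ * γ₁ + s₂ * γ₂ - σ β * κ := by
  rw [blk_mul, Matrix.trace_fin_two_of]
  ring

theorem blk_charpoly (s₁ s₂ β : F) : (!![s₁, β; -σ β, s₂] * !![γ₁, κ; 0, γ₂]).charpoly =
    X ^ 2 - C (s₁ * γ₁ + s₂ * γ₂ - σ β * κ) * X + C ((s₁ * s₂ + β * σ β) * (γ₁ * γ₂)) := by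
  rw [Matrix.charpoly_fin_two, blk_det, blk_trace]

/-- The polynomial with roots `x`, `y`. -/
theorem blk_charpoly_of {s₁ s₂ β x y : F} (ht : s₁ * γ₁ + s₂ * γ₂ - σ β * κ = x + y)
    (hd : (s₁ * s₂ + β * σ β) * (γ₁ * γ₂) = x * y) :
    (!![s₁, β; -σ β, s₂] * !![γ₁, κ; 0, γ₂]).charpoly = (X - C x) * (X - C y) := by
  rw [blk_charpoly, ht, hd, C_add, C_mul]
  ring

end

theorem exists_i0 {F : Type*} [Field F] [Fintype F] {q : ℕ} (hF : Fintype.card F = q ^ 2)
    {σ : F →+* F} (hσ : ∀ a, σ a = a ^ q) : ∃ i : F, i ≠ 0 ∧ σ i = -i := by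
  obtain ⟨i, hi, h⟩ := exists_trace_zero_ne hF
  exact ⟨i, hi, by rw [hσ]; exact eq_neg_of_add_eq_zero_right h⟩

theorem exists_nrm {F : Type*} [Field F] [Fintype F] {q : ℕ} (hF : Fintype.card F = q ^ 2)
    {σ : F →+* F} (hσ : ∀ a, σ a = a ^ q) {D : F} (hD : σ D = D) : ∃ β : F, β * σ β = D := by
  rw [hσ] at hD
  obtain ⟨β, h⟩ := exists_norm_eq hF hD
  exact ⟨β, by rw [hσ]; exact h⟩

theorem sig_sig {F : Type*} [Field F] [Fintype F] {q : ℕ} (hF : Fintype.card F = q ^ 2)
    {σ : F →+* F} (hσ : ∀ a, σ a = a ^ q) (a : F) : σ (σ a) = a := by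
  rw [hσ, hσ]
  exact pow_q_pow_q hF a

theorem pl1 {F : Type*} [Field F] [Fintype F] {q : ℕ} (hF : Fintype.card F = q ^ 2) {σ : F →+* F}
    (hσ : ∀ a, σ a = a ^ q) {γ₁ γ₂ κ D : F} (h₁ : γ₁ ≠ 0) (h₂ : γ₂ ≠ 0) (hD : D ≠ 0)
    (hD' : σ D = D) (x : F) :
    ∃ s₁ s₂ β : F, σ s₁ = -s₁ ∧ σ s₂ = -s₂ ∧
      (!![s₁, β; -σ β, s₂] * !![γ₁, κ; 0, γ₂]).det = γ₁ * γ₂ * D ∧
      (!![s₁, β; -σ β, s₂] * !![γ₁, κ; 0, γ₂]).charpoly.eval x ≠ 0 := by
  obtain ⟨i, hi, hi'⟩ := exists_i0 hF hσ
  obtain ⟨β, hβ⟩ := exists_nrm hF hσ hD'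
  have key : ∀ s₂ : F, (!![(0 : F), β; -σ β, s₂] * !![γ₁, κ; 0, γ₂]).charpoly.eval x =
      x ^ 2 - (s₂ * γ₂ - σ β * κ) * x + D * (γ₁ * γ₂) := by
    intro s₂
    rw [blk_charpoly, zero_mul, zero_add, zero_mul, zero_add, hβ]
    simp
  by_cases h : (!![(0 : F), β; -σ β, 0] * !![γ₁, κ; 0, γ₂]).charpoly.eval x = 0
  · refine ⟨0, i, β, by rw [map_zero, neg_zero], hi', ?_, ?_⟩
    · rw [blk_det, hβ]
      ring
    · intro h'
      rw [key] at h h'
      have h3 : i * γ₂ * x = 0 := by linear_combination h - h'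
      have h4 : x = 0 := by
        rcases mul_eq_zero.1 h3 with h5 | h5
        · exact absurd h5 (mul_ne_zero hi h₂)
        · exact h5
      rw [h4] at h
      apply mul_ne_zero hD (mul_ne_zero h₁ h₂)
      linear_combination h
  · refine ⟨0, 0, β, by rw [map_zero, neg_zero], by rw [map_zero, neg_zero], ?_, h⟩
    rw [blk_det, hβ]
    ring

/-- `q ≥ 4` : diagonal block. -/
theorem pl2_big {F : Type*} [Field F] [Fintype F] {q : ℕ} (hF : Fintype.card F = q ^ 2)
    {σ : F →+* F} (hσ : ∀ a, σ a = a ^ q) (hq : 4 ≤ q) {γ₁ γ₂ κ D : F} (h₁ : γ₁ ≠ 0)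
    (hD : D ≠ 0) (hD' : σ D = D) :
    ∃ s₁ s₂ β x y : F, σ s₁ = -s₁ ∧ σ s₂ = -s₂ ∧ x ≠ y ∧
      (!![s₁, β; -σ β, s₂] * !![γ₁, κ; 0, γ₂]).det = γ₁ * γ₂ * D ∧
      (!![s₁, β; -σ β, s₂] * !![γ₁, κ; 0, γ₂]).charpoly = (X - C x) * (X - C y) := by
  classical
  obtain ⟨i, hi, hi'⟩ := exists_i0 hF hσ
  -- a fixed element `a ≠ 0` with `(i a)² γ₁ ≠ D γ₂`
  obtain ⟨a, ha, ha0, hne⟩ : ∃ a : F, σ a = a ∧ a ≠ 0 ∧ (i * a) ^ 2 * γ₁ ≠ D * γ₂ := by
    by_contra hcon
    push Not at hcon
    -- at most three fixed elements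
    have h3 : ∃ c : F, ∀ a : F, σ a = a → a = 0 ∨ a = c ∨ a = -c := by
      by_cases hex : ∃ c : F, σ c = c ∧ c ≠ 0
      · obtain ⟨c, hc, hc0⟩ := hex
        refine ⟨c, fun a ha => ?_⟩
        by_cases ha0 : a = 0
        · exact Or.inl ha0
        · right
          have h4 := (hcon a ha ha0).trans (hcon c hc hc0).symm
          have h5 : a ^ 2 = c ^ 2 := by
            have h6 : (i ^ 2 * γ₁) * a ^ 2 = (i ^ 2 * γ₁) * c ^ 2 := by linear_combination h4
            exact mul_left_cancel₀ (mul_ne_zero (pow_ne_zero 2 hi) h₁) h6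
          exact sq_eq_sq_iff_eq_or_eq_neg.1 h5
      · push Not at hex
        exact ⟨0, fun a ha => Or.inl (hex a ha)⟩
    obtain ⟨c, hc⟩ := h3
    have h4 := card_fixed hF
    have h5 : Nat.card {x : F // x ^ q = x} ≤ Nat.card (({0, c, -c} : Finset F) : Set F) := by
      refine Nat.card_le_card_of_injective (fun x => ⟨x.1, ?_⟩) ?_
      · rw [Finset.mem_coe, Finset.mem_insert, Finset.mem_insert, Finset.mem_singleton]
        exact hc x.1 ((hσ _).trans x.2)
      · intro x y h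
        exact Subtype.ext (congrArg (fun z : (({0, c, -c} : Finset F) : Set F) => (z : F)) h)
    rw [h4] at h5
    have h6 : Nat.card (({0, c, -c} : Finset F) : Set F) ≤ 3 := by
      rw [Nat.card_coe_set_eq, Set.ncard_coe_finset]
      exact Finset.card_le_three
    omega
  have hs : i * a ≠ 0 := mul_ne_zero hi ha0
  refine ⟨i * a, D / (i * a), 0, i * a * γ₁, D / (i * a) * γ₂, ?_, ?_, ?_, ?_, ?_⟩
  · rw [map_mul, hi', ha, neg_mul]
  · rw [map_div₀, map_mul, hi', ha, hD', neg_mul, div_neg]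
  · intro h
    apply hne
    field_simp at h
    linear_combination h
  · rw [blk_det, map_zero]
    field_simp
    ring
  · apply blk_charpoly_of
    · rw [map_zero]
      ring
    · rw [map_zero]
      field_simp
      ring

/-- `q = 3` -/
theorem pl2_three {F : Type*} [Field F] [Fintype F] (hF : Fintype.card F = 3 ^ 2)
    {σ : F →+* F} (hσ : ∀ a, σ a = a ^ 3) {γ₁ γ₂ κ D : F} (h₁ : γ₁ ≠ 0) (h₂ : γ₂ ≠ 0)
    (hD : D ≠ 0) (hD' : σ D = D) :
    ∃ s₁ s₂ β x y : F, σ s₁ = -s₁ ∧ σ s₂ = -s₂ ∧ x ≠ y ∧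
      (!![s₁, β; -σ β, s₂] * !![γ₁, κ; 0, γ₂]).det = γ₁ * γ₂ * D ∧
      (!![s₁, β; -σ β, s₂] * !![γ₁, κ; 0, γ₂]).charpoly = (X - C x) * (X - C y) := by
  classical
  have h3 : (3 : F) = 0 := by
    obtain ⟨p, k, hp, hchar, hk, -⟩ := exists_prime_pow hF
    have h4 : p = 3 := by
      have h5 : p ∣ 3 := hk ▸ dvd_pow_self p (by rintro rfl; simp at hk)
      exact (Nat.prime_dvd_prime_iff_eq hp Nat.prime_three).1 h5
    subst h4
    have h6 := CharP.cast_eq_zero F 3
    exact_mod_cast h6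
  have hone : (1 : F) ≠ 0 := one_ne_zero
  have hfix : ∀ a : F, σ a = a → a ≠ 0 → a = 1 ∨ a = -1 := by
    intro a ha ha0
    rw [hσ] at ha
    have h4 : a * (a - 1) * (a + 1) = 0 := by linear_combination ha
    rcases mul_eq_zero.1 h4 with h5 | h5
    · rcases mul_eq_zero.1 h5 with h6 | h6
      · exact absurd h6 ha0
      · exact Or.inl (sub_eq_zero.1 h6)
    · exact Or.inr (eq_neg_of_add_eq_zero_left h5)
  obtain ⟨i, hi, hi'⟩ := exists_i0 hF hσ
  have hii : i ^ 2 = -1 := by
    have h4 : σ (i ^ 2) = i ^ 2 := by rw [map_pow, hi']; ring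
    rcases hfix _ h4 (pow_ne_zero 2 hi) with h5 | h5
    · exfalso
      have h6 : (i - 1) * (i + 1) = 0 := by linear_combination h5
      have h7 : σ i = i := by
        rcases mul_eq_zero.1 h6 with h8 | h8
        · rw [sub_eq_zero.1 h8, map_one]
        · rw [eq_neg_of_add_eq_zero_left h8, map_neg, map_one]
      rw [hi'] at h7
      apply hi
      linear_combination h7 + i * h3
    · exact h5
  have hDD : D ^ 2 = 1 := by
    rcases hfix D hD' hD with h | h <;> rw [h] <;> ring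
  have hDi : σ (D * i) = -(D * i) := by rw [map_mul, hD', hi']; ring
  by_cases hγ : γ₁ = -D * γ₂
  · by_cases hκ : κ = 0
    · obtain ⟨β, hβ⟩ := exists_nrm hF hσ hD'
      refine ⟨0, 0, β, γ₂, -γ₂, by rw [map_zero, neg_zero], by rw [map_zero, neg_zero], ?_, ?_, ?_⟩
      · intro h
        apply h₂
        linear_combination (-1) * h + γ₂ * h3
      · rw [blk_det, hβ]
        ring
      · apply blk_charpoly_of
        · rw [hκ]
          ring
        · rw [hβ, hγ]
          linear_combination (-γ₂ ^ 2) * hDD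
    · set β : F := σ (-(γ₂ / κ)) with hβdef
      have hβ : σ β = -(γ₂ / κ) := sig_sig hF hσ _
      have hβκ : σ β * κ = -γ₂ := by
        rw [hβ]
        field_simp
      have hβ0 : β ≠ 0 := by
        intro h
        rw [h, map_zero, zero_mul] at hβκ
        apply h₂
        linear_combination hβκ
      have hν : σ (β * σ β) = β * σ β := by
        rw [map_mul, sig_sig hF hσ]
        ring
      have hν0 : β * σ β ≠ 0 := mul_ne_zero hβ0 (by
        intro h
        rw [h, zero_mul] at hβκ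
        apply h₂
        linear_combination hβκ)
      -- the roots `-γ₂ (1 ± i)`
      have hxy : -γ₂ * (1 + i) ≠ -γ₂ * (1 - i) := by
        intro h
        have h4 : γ₂ * i = 0 := by linear_combination h + γ₂ * i * h3
        exact mul_ne_zero h₂ hi h4
      have hν2 : β * σ β = D ∨ β * σ β = -D := by
        rcases hfix D hD' hD with h | h <;> rcases hfix _ hν hν0 with h' | h' <;>
          rw [h, h'] <;> simp
      rcases hν2 with hν2 | hν2
      · refine ⟨0, 0, β, -γ₂ * (1 + i), -γ₂ * (1 - i), by rw [map_zero, neg_zero],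
          by rw [map_zero, neg_zero], hxy, ?_, ?_⟩
        · rw [blk_det, hν2]
          ring
        · apply blk_charpoly_of
          · rw [hβκ]
            linear_combination γ₂ * h3
          · rw [hν2, hγ]
            linear_combination (-γ₂ ^ 2) * hDD + γ₂ ^ 2 * hii - γ₂ ^ 2 * h3
      · refine ⟨i, D * i, β, -γ₂ * (1 + i), -γ₂ * (1 - i), hi', hDi, hxy, ?_, ?_⟩
        · rw [blk_det, hν2]
          linear_combination D * (γ₁ * γ₂) * hii - D * (γ₁ * γ₂) * h3
        · apply blk_charpoly_of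
          · rw [hβκ, hγ]
            linear_combination γ₂ * h3
          · rw [hν2, hγ]
            linear_combination (-D ^ 2 * γ₂ ^ 2 + γ₂ ^ 2) * hii + 2 * γ₂ ^ 2 * hDD
  · refine ⟨i, -(D * i), 0, i * γ₁, -(D * i) * γ₂, hi', ?_, ?_, ?_, ?_⟩
    · rw [map_neg, hDi]
    · intro h
      apply hγ
      have h4 : i * (γ₁ - -D * γ₂) = 0 := by linear_combination h
      rcases mul_eq_zero.1 h4 with h5 | h5
      · exact absurd h5 hi
      · exact sub_eq_zero.1 h5
    · rw [blk_det, map_zero]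
      linear_combination (-D) * (γ₁ * γ₂) * hii
    · apply blk_charpoly_of
      · rw [map_zero]
        ring
      · rw [map_zero]
        ring

/-- `q = 2` -/
theorem pl2_two {F : Type*} [Field F] [Fintype F] (hF : Fintype.card F = 2 ^ 2)
    {σ : F →+* F} (hσ : ∀ a, σ a = a ^ 2) {γ₁ γ₂ κ D : F} (h₁ : γ₁ ≠ 0) (h₂ : γ₂ ≠ 0)
    (hD : D ≠ 0) (hD' : σ D = D) :
    ∃ s₁ s₂ β x y : F, σ s₁ = -s₁ ∧ σ s₂ = -s₂ ∧ x ≠ y ∧
      (!![s₁, β; -σ β, s₂] * !![γ₁, κ; 0, γ₂]).det = γ₁ * γ₂ * D ∧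
      (!![s₁, β; -σ β, s₂] * !![γ₁, κ; 0, γ₂]).charpoly = (X - C x) * (X - C y) := by
  classical
  have h2 : (2 : F) = 0 := by
    have h3 : σ (1 + 1) = σ 1 + σ 1 := map_add σ 1 1
    rw [map_one, hσ] at h3
    linear_combination h3
  have hD1 : D = 1 := by
    rw [hσ] at hD'
    have h3 : D * (D - 1) = 0 := by linear_combination hD'
    rcases mul_eq_zero.1 h3 with h4 | h4
    · exact absurd h4 hD
    · exact sub_eq_zero.1 h4
  have hcube : ∀ a : F, a ≠ 0 → a ^ 3 = 1 := by
    intro a ha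
    have h3 := FiniteField.pow_card_sub_one_eq_one a ha
    rwa [hF] at h3
  have hs1 : σ (1 : F) = -1 := by
    rw [map_one]
    linear_combination h2
  have hs0 : σ (0 : F) = -0 := by rw [map_zero, neg_zero]
  subst hD1
  by_cases hγ : γ₁ = γ₂
  · -- a root `w` of `X² + X + 1`
    obtain ⟨w, hw0, hw1⟩ : ∃ w : F, w ≠ 0 ∧ w ≠ 1 := by
      by_contra hcon
      push Not at hcon
      have h3 : Fintype.card F ≤ 2 := by
        rw [← Finset.card_univ]
        refine (Finset.card_le_card (t := {0, 1}) fun x _ => ?_).trans Finset.card_le_two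
        rw [Finset.mem_insert, Finset.mem_singleton]
        by_cases hx : x = 0
        · exact Or.inl hx
        · exact Or.inr (hcon x hx)
      omega
    have hw : w ^ 2 + w + 1 = 0 := by
      have h3 := hcube w hw0
      have h4 : (w - 1) * (w ^ 2 + w + 1) = 0 := by linear_combination h3
      rcases mul_eq_zero.1 h4 with h5 | h5
      · exact absurd (sub_eq_zero.1 h5) hw1
      · exact h5
    have hxy : γ₂ * w ≠ γ₂ * w ^ 2 := by
      intro h
      have h3 : w * (w - 1) = 0 := by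
        have h4 : γ₂ * (w * (w - 1)) = 0 := by linear_combination (-1) * h
        rcases mul_eq_zero.1 h4 with h5 | h5
        · exact absurd h5 h₂
        · exact h5
      rcases mul_eq_zero.1 h3 with h5 | h5
      · exact hw0 h5
      · exact hw1 (sub_eq_zero.1 h5)
    subst hγ
    by_cases hκ : κ = 0
    · refine ⟨1, 0, 1, γ₁ * w, γ₁ * w ^ 2, hs1, hs0, hxy, ?_, ?_⟩
      · rw [blk_det, map_one]
        ring
      · apply blk_charpoly_of
        · rw [map_one, hκ]
          linear_combination (-γ₁) * hw + γ₁ * h2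
        · rw [map_one]
          linear_combination (-γ₁ ^ 2) * (hcube w hw0)
    · set β : F := σ (γ₁ / κ) with hβdef
      have hβ : σ β = γ₁ / κ := sig_sig hF hσ _
      have hβκ : σ β * κ = γ₁ := by
        rw [hβ]
        field_simp
      have hβ0 : β ≠ 0 := by
        intro h
        rw [h, map_zero, zero_mul] at hβκ
        exact h₁ hβκ.symm
      have hν : β * σ β = 1 := by
        rw [hσ]
        linear_combination hcube β hβ0
      refine ⟨0, 0, β, γ₁ * w, γ₁ * w ^ 2, hs0, hs0, hxy, ?_, ?_⟩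
      · rw [blk_det, hν]
        ring
      · apply blk_charpoly_of
        · rw [hβκ]
          linear_combination (-γ₁) * hw
        · rw [hν]
          linear_combination (-γ₁ ^ 2) * (hcube w hw0)
  · refine ⟨1, 1, 0, γ₁, γ₂, hs1, hs1, hγ, ?_, ?_⟩
    · rw [blk_det, map_zero]
      ring
    · apply blk_charpoly_of
      · rw [map_zero]
        ring
      · rw [map_zero]
        ring

theorem pl2 {F : Type*} [Field F] [Fintype F] {q : ℕ} (hF : Fintype.card F = q ^ 2) {σ : F →+* F}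
    (hσ : ∀ a, σ a = a ^ q) {γ₁ γ₂ κ D : F} (h₁ : γ₁ ≠ 0) (h₂ : γ₂ ≠ 0) (hD : D ≠ 0)
    (hD' : σ D = D) :
    ∃ s₁ s₂ β x y : F, σ s₁ = -s₁ ∧ σ s₂ = -s₂ ∧ x ≠ y ∧
      (!![s₁, β; -σ β, s₂] * !![γ₁, κ; 0, γ₂]).det = γ₁ * γ₂ * D ∧
      (!![s₁, β; -σ β, s₂] * !![γ₁, κ; 0, γ₂]).charpoly = (X - C x) * (X - C y) := by
  have hq := two_le hF
  by_cases h4 : 4 ≤ q
  · exact pl2_big hF hσ h4 h₁ hD hD'
  · have h5 : q = 2 ∨ q = 3 := by omega
    rcases h5 with rfl | rfl
    · exact pl2_two hF hσ h₁ h₂ hD hD'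
    · exact pl2_three hF hσ h₁ h₂ hD hD'

end Cfsg.Agent.H588.Ore
end

-- part: H801/Ore/Even
section
/-!
# S2446, task T10: good corners in even dimension
-/

set_option autoImplicit false
set_option linter.unusedSectionVars false

namespace Cfsg.Agent.H801.Ore

open Module Polynomial Cfsg.Agent.H951 Matrix Cfsg.Agent.H98.Ore

universe u v

section General

variable {F V : Type*} [Field F] [Fintype F] [AddCommGroup V] [Module F V] [FiniteDimensional F V]
  {q : ℕ} {σ : F →+* F} {B : V → V → F}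

/-- the determinant of an isometry has norm one -/
theorem isom_det (hB : HS q σ B) {g : End F V} (hg : Isom B g) :
    LinearMap.det g * σ (LinearMap.det g) = 1 := by
  classical
  have hb := hB.frm
  set n := finrank F V with hn
  let b : Basis (Fin n) F V := finBasis F V
  set M : Matrix (Fin n) (Fin n) F := Matrix.of fun i j => B (b i) (b j) with hM
  set X : Matrix (Fin n) (Fin n) F := LinearMap.toMatrix b b g with hX
  have hgb : ∀ j, g (b j) = ∑ i, X i j • b i := fun j => by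
    conv_lhs => rw [← b.sum_repr (g (b j))]
    exact Finset.sum_congr rfl fun i _ => by rw [hX, LinearMap.toMatrix_apply]
  have hXM : Xᵀ * M * X.map σ = M := by
    ext i j
    rw [hM, Matrix.of_apply, ← hg (b i) (b j), hgb i, hgb j, hb.sum_left]
    simp only [Matrix.mul_apply, Matrix.transpose_apply, Matrix.map_apply, Matrix.of_apply, hb.sum_right,
      hb.smul_left, hb.smul_right, Finset.sum_mul]
    rw [Finset.sum_comm]
    exact Finset.sum_congr rfl fun x _ => Finset.sum_congr rfl fun y _ => by ring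
  have hM0 : M.det ≠ 0 := by
    intro h
    obtain ⟨v, hv, hvM⟩ := Matrix.exists_vecMul_eq_zero_iff.2 h
    apply hv
    have h0 : ∑ i, v i • b i = 0 := by
      apply hB.nd
      intro y
      rw [← b.sum_repr y, hb.sum_right]
      apply Finset.sum_eq_zero
      intro j _
      rw [hb.smul_right, hb.sum_left]
      have : (v ᵥ* M) j = 0 := by rw [hvM]; rfl
      simp only [Matrix.vecMul, dotProduct, hM, Matrix.of_apply] at this
      simp only [hb.smul_left]
      rw [this, mul_zero]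
    have := Fintype.linearIndependent_iff.1 b.linearIndependent v h0
    exact funext this
  have hdX : LinearMap.det g = X.det := (LinearMap.det_toMatrix b g).symm
  have h1 := congrArg Matrix.det hXM
  rw [Matrix.det_mul, Matrix.det_mul, Matrix.det_transpose] at h1
  have h2 : (X.map σ).det = σ X.det := (RingHom.map_det σ X).symm
  rw [h2] at h1
  rw [hdX]
  apply mul_right_cancel₀ hM0
  rw [one_mul]
  linear_combination h1

/-- an isometry is injective -/
theorem isom_inj (hB : HS q σ B) {g : End F V} (hg : Isom B g) : Function.Injective g := by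
  rw [injective_iff_map_eq_zero]
  intro x hx
  apply hB.nd
  intro y
  rw [← hg x y, hx, hB.frm.zero_left]

/-- Hilbert 90 -/
theorem exists_eq_mul_sig {F : Type*} [Field F] [Fintype F] {q : ℕ} {σ : F →+* F}
    (hF : Fintype.card F = q ^ 2) (hσ : ∀ a, σ a = a ^ q) {δ : F} (hδ : δ * σ δ = 1) :
    ∃ d : F, d ≠ 0 ∧ d = δ * σ d := by
  by_contra hcon
  push Not at hcon
  have hss : ∀ a, σ (σ a) = a := fun a => by rw [hσ, hσ, LieClassical.HermBasic.pow_q_pow_q hF]
  have hz : ∀ t : F, t + δ * σ t = 0 := by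
    intro t
    by_contra h
    apply hcon _ h
    rw [map_add, map_mul, hss, mul_add, ← mul_assoc, hδ, one_mul, add_comm]
  have h1 := hz 1
  rw [map_one, mul_one] at h1
  have hδ1 : δ = -1 := by linear_combination h1
  obtain ⟨x, hx⟩ := LieClassical.HermBasic.exists_not_fixed hF
  apply hx
  have := hz x
  rw [hδ1, hσ] at this
  linear_combination -this

/-- `g` has corners of determinant `d` avoiding any eigenvalue except perhaps one -/
def HasA (B : V → V → F) (g : End F V) (d : F) : Prop :=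
  ∃ bad : F, ∀ x, x ≠ bad → ∃ (ι : Type) (_ : Fintype ι) (_ : DecidableEq ι) (P : Matrix ι ι F),
    finrank F V = 2 * Fintype.card ι ∧ Cor B g P ∧ P.det = d ∧ P.charpoly.eval x ≠ 0

/-- `g` has a corner of determinant `d` with a simple eigenvalue -/
def HasS (B : V → V → F) (g : End F V) (d : F) : Prop :=
  ∃ (ι : Type) (_ : Fintype ι) (_ : DecidableEq ι) (P : Matrix ι ι F),
    finrank F V = 2 * Fintype.card ι ∧ Cor B g P ∧ P.det = d ∧
    ∃ (x : F) (p : F[X]), P.charpoly = (X - C x) * p ∧ p.eval x ≠ 0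

omit [FiniteDimensional F V] in
theorem exists_corner (hF : Fintype.card F = q ^ 2) {g : End F V} {d : F} (h : HasA B g d ∨ HasS B g d) :
    ∃ (ι : Type) (_ : Fintype ι) (_ : DecidableEq ι) (P : Matrix ι ι F),
      finrank F V = 2 * Fintype.card ι ∧ Cor B g P ∧ P.det = d := by
  rcases h with ⟨bad, h⟩ | ⟨ι, i1, i2, P, h1, h2, h3, -⟩
  · obtain ⟨x, hx⟩ : ∃ x : F, x ≠ bad := by
      obtain ⟨x, hx⟩ := LieClassical.HermBasic.exists_not_fixed hF
      by_cases h0 : bad = 0
      · exact ⟨1, by rw [h0]; exact one_ne_zero⟩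
      · exact ⟨0, fun h => h0 h.symm⟩
    obtain ⟨ι, i1, i2, P, h1, h2, h3, -⟩ := h x hx
    exact ⟨ι, i1, i2, P, h1, h2, h3⟩
  · exact ⟨ι, i1, i2, P, h1, h2, h3⟩

/-- scalar corners of a scalar isometry -/
theorem cor_scalar (hB : HS q σ B) {m : ℕ} (hm : finrank F V = 2 * m) (c : F) :
    Cor B (c • (1 : End F V)) (Matrix.scalar (Fin m) c) := by
  obtain ⟨w, w', hw⟩ := H984.Ore.exists_frame hB (Or.inl hm)
  refine ⟨w, w', hw, fun i j => ?_⟩
  rw [LinearMap.smul_apply, End.one_apply, hB.frm.smul_left, hw.dual, Matrix.scalar_apply, Matrix.diagonal_apply]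
  by_cases h : i = j
  · rw [if_pos h, if_pos h.symm, mul_one]
  · rw [if_neg h, if_neg (Ne.symm h), mul_zero]

theorem charpoly_scalar {ι : Type*} [Fintype ι] [DecidableEq ι] (c : F) :
    (Matrix.scalar ι c).charpoly = (X - C c) ^ Fintype.card ι := by
  rw [Matrix.scalar_apply, Matrix.charpoly_diagonal, Finset.prod_const, Finset.card_univ]

theorem hasA_scalar (hB : HS q σ B) {m : ℕ} (hm : finrank F V = 2 * m) (c : F) :
    HasA B (c • (1 : End F V)) (c ^ m) := by
  refine ⟨c, fun x hx => ⟨Fin m, inferInstance, inferInstance, Matrix.scalar (Fin m) c, ?_, cor_scalar hB hm c, ?_, ?_⟩⟩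
  · rw [Fintype.card_fin, hm]
  · rw [Matrix.scalar_apply, Matrix.det_diagonal, Finset.prod_const, Finset.card_univ, Fintype.card_fin]
  · rw [charpoly_scalar, eval_pow, eval_sub, eval_X, eval_C]
    exact pow_ne_zero _ (sub_ne_zero.2 hx)

theorem exists_anti (hF : Fintype.card F = q ^ 2) (hσ : ∀ a, σ a = a ^ q) : ∃ i : F, i ≠ 0 ∧ σ i = -i := by
  obtain ⟨x, h0, hx⟩ := LieClassical.HermBasic.exists_trace_zero_ne hF
  exact ⟨x, h0, by rw [hσ]; linear_combination hx⟩

theorem isom_sig_inj (hB : HS q σ B) {a : F} (ha : a ≠ 0) : σ a ≠ 0 := (map_ne_zero σ).2 ha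

/-- the determinant left for the first block is `γ₁ γ₂ D` with `D` fixed by `σ` -/
theorem exists_D (hB : HS q σ B) {g : End F V} (hg : Isom B g) {w : V} {U : Submodule F V} {g₁ : End F U}
    {b : U → F} (h : Step B g w U g₁ b) {w₂ : U} {U₂ : Submodule F U} {g₂ : End F U₂} {b₂ : U₂ → F}
    (h₂ : Step (res B U) g₁ w₂ U₂ g₂ b₂) {d₂ d : F} (hd₂ : d₂ ≠ 0)
    (hc : HasA (res (res B U) U₂) g₂ d₂ ∨ HasS (res (res B U) U₂) g₂ d₂) (hd : d ≠ 0)
    (hdd : d = LinearMap.det g * σ d) :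
    ∃ D : F, D ≠ 0 ∧ σ D = D ∧ B (g w) w * B (g₁ w₂ : V) w₂ * D * d₂ = d := by
  classical
  obtain ⟨i, hi0, hi⟩ := exists_anti hB.card hB.sig
  obtain ⟨ι, _, _, P₂, hdim, hP₂, hdet⟩ := exists_corner hB.card hc
  obtain ⟨hsU, hfU⟩ := H951.OreU.Step.hs hB hg h
  obtain ⟨hsU₂, hfU₂⟩ := H951.OreU.Step.hs hsU h.isom h₂
  obtain ⟨R, hR⟩ := H24.Ore.cor_pair hB hg h h₂ hP₂ i i 0 hi hi
  have hγ₁ : B (g w) w ≠ 0 := h.ne
  have hγ₂ : B (g₁ w₂ : V) w₂ ≠ 0 := h₂.ne
  have hdg : LinearMap.det g ≠ 0 := left_ne_zero_of_mul (a := LinearMap.det g) (by rw [isom_det hB hg]; exact one_ne_zero)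
  set γ₁ := B (g w) w
  set γ₂ := B (g₁ w₂ : V) w₂
  have e1 : (Matrix.fromBlocks (!![i, 0; -σ 0, i] * !![γ₁, b w₂ * γ₁; 0, γ₂]) R 0 P₂).det = i ^ 2 * (γ₁ * γ₂ * d₂) := by
    rw [Matrix.det_fromBlocks_zero₂₁, Matrix.det_mul, Matrix.det_fin_two_of, Matrix.det_fin_two_of, hdet, map_zero]
    ring
  have hE : γ₁ * γ₂ * d₂ ≠ 0 := mul_ne_zero (mul_ne_zero hγ₁ hγ₂) hd₂
  have e2 := cor_det hB hg (by rw [Fintype.card_sum, Fintype.card_fin]; omega) hR
    (by rw [e1]; exact mul_ne_zero (pow_ne_zero _ hi0) hE)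
  rw [e1, map_mul, map_pow, hi] at e2
  have e3 : γ₁ * γ₂ * d₂ = LinearMap.det g * σ (γ₁ * γ₂ * d₂) := by
    apply mul_left_cancel₀ (pow_ne_zero 2 hi0)
    linear_combination e2
  have hsE : σ (γ₁ * γ₂ * d₂) ≠ 0 := (map_ne_zero σ).2 hE
  refine ⟨d / (γ₁ * γ₂ * d₂), div_ne_zero hd hE, ?_, ?_⟩
  · rw [map_div₀, div_eq_div_iff hsE hE]
    apply mul_left_cancel₀ hdg
    linear_combination d * e3 - (γ₁ * γ₂ * d₂) * hdd
  · field_simp

theorem exists_d (hB : HS q σ B) {m : ℕ} (hm : finrank F V = 2 * m) {g : End F V} (hg : Isom B g)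
    (IH : (∀ c : F, g ≠ c • (1 : End F V)) → ∀ d : F, d ≠ 0 → d = LinearMap.det g * σ d → HasA B g d ∨ HasS B g d) :
    ∃ d : F, d ≠ 0 ∧ (HasA B g d ∨ HasS B g d) := by
  by_cases hsc : ∀ c : F, g ≠ c • (1 : End F V)
  · obtain ⟨d, hd, hdd⟩ := exists_eq_mul_sig hB.card hB.sig (isom_det hB hg)
    exact ⟨d, hd, IH hsc d hd hdd⟩
  · push Not at hsc
    obtain ⟨c, rfl⟩ := hsc
    refine ⟨c ^ m, ?_, Or.inl (hasA_scalar hB hm c)⟩
    rcases Nat.eq_zero_or_pos m with rfl | hm0
    · simp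
    · apply pow_ne_zero
      rintro rfl
      have : 0 < finrank F V := by omega
      obtain ⟨x, hx⟩ := (finrank_pos_iff_exists_ne_zero (R := F) (M := V)).1 this
      exact hx (isom_inj hB hg (by simp))

/-- two steps -/
theorem two_step_A (hB : HS q σ B) {g : End F V} (hg : Isom B g) {w : V} {U : Submodule F V} {g₁ : End F U}
    {b : U → F} (h : Step B g w U g₁ b) {w₂ : U} {U₂ : Submodule F U} {g₂ : End F U₂} {b₂ : U₂ → F}
    (h₂ : Step (res B U) g₁ w₂ U₂ g₂ b₂) {d₂ d : F} (hd₂ : d₂ ≠ 0)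
    (hc : HasA (res (res B U) U₂) g₂ d₂) (hd : d ≠ 0)
    (hdd : d = LinearMap.det g * σ d) : HasA B g d := by
  classical
  obtain ⟨D, hD, hDs, hDd⟩ := exists_D hB hg h h₂ hd₂ (Or.inl hc) hd hdd
  obtain ⟨hsU, hfU⟩ := H951.OreU.Step.hs hB hg h
  obtain ⟨hsU₂, hfU₂⟩ := H951.OreU.Step.hs hsU h.isom h₂
  obtain ⟨bad, hA⟩ := hc
  refine ⟨bad, fun x hx => ?_⟩
  obtain ⟨ι, _, _, P₂, hdim, hP₂, hdet, hev⟩ := hA x hx
  obtain ⟨s₁, s₂, β, hs₁, hs₂, hSd, hSe⟩ := H588.Ore.pl1 (κ := b w₂ * B (g w) w) hB.card hB.sig h.ne h₂.ne hD hDs x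
  obtain ⟨R, hR⟩ := H24.Ore.cor_pair hB hg h h₂ hP₂ s₁ s₂ β hs₁ hs₂
  refine ⟨Fin 2 ⊕ ι, inferInstance, inferInstance, _, ?_, hR, ?_, ?_⟩
  · rw [Fintype.card_sum, Fintype.card_fin]; omega
  · rw [Matrix.det_fromBlocks_zero₂₁, hdet]
    exact (congrArg (· * d₂) hSd).trans hDd
  · rw [Matrix.charpoly_fromBlocks_zero₂₁, eval_mul]
    exact mul_ne_zero hSe hev

theorem two_step_S (hB : HS q σ B) {g : End F V} (hg : Isom B g) {w : V} {U : Submodule F V} {g₁ : End F U}
    {b : U → F} (h : Step B g w U g₁ b) {w₂ : U} {U₂ : Submodule F U} {g₂ : End F U₂} {b₂ : U₂ → F}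
    (h₂ : Step (res B U) g₁ w₂ U₂ g₂ b₂) {d₂ d : F} (hd₂ : d₂ ≠ 0)
    (hc : HasS (res (res B U) U₂) g₂ d₂) (hd : d ≠ 0)
    (hdd : d = LinearMap.det g * σ d) : HasS B g d := by
  classical
  obtain ⟨D, hD, hDs, hDd⟩ := exists_D hB hg h h₂ hd₂ (Or.inr hc) hd hdd
  obtain ⟨hsU, hfU⟩ := H951.OreU.Step.hs hB hg h
  obtain ⟨hsU₂, hfU₂⟩ := H951.OreU.Step.hs hsU h.isom h₂
  obtain ⟨ι, _, _, P₂, hdim, hP₂, hdet, x, p, hp, hpx⟩ := hc
  obtain ⟨s₁, s₂, β, hs₁, hs₂, hSd, hSe⟩ := H588.Ore.pl1 (κ := b w₂ * B (g w) w) hB.card hB.sig h.ne h₂.ne hD hDs x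
  obtain ⟨R, hR⟩ := H24.Ore.cor_pair hB hg h h₂ hP₂ s₁ s₂ β hs₁ hs₂
  refine ⟨Fin 2 ⊕ ι, inferInstance, inferInstance, _, ?_, hR, ?_, x, (!![s₁, β; -σ β, s₂] *
    !![B (g w) w, b w₂ * B (g w) w; 0, B (g₁ w₂ : V) w₂]).charpoly * p, ?_, ?_⟩
  · rw [Fintype.card_sum, Fintype.card_fin]; omega
  · rw [Matrix.det_fromBlocks_zero₂₁, hdet]
    exact (congrArg (· * d₂) hSd).trans hDd
  · rw [Matrix.charpoly_fromBlocks_zero₂₁, hp]; ring
  · rw [eval_mul]; exact mul_ne_zero hSe hpx

/-- one step, the remainder being scalar -/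
theorem one_step (hB : HS q σ B) {m : ℕ} {g : End F V} (hg : Isom B g) {w : V}
    {U : Submodule F V} {c : F} (hm : finrank F U = 2 * m) {b : U → F} (h : Step B g w U (c • (1 : End F U)) b)
    {d : F} (hd : d ≠ 0) (hdd : d = LinearMap.det g * σ d) : HasA B g d ∨ HasS B g d := by
  classical
  obtain ⟨i, hi0, hi⟩ := exists_anti hB.card hB.sig
  obtain ⟨hsU, hfU⟩ := H951.OreU.Step.hs hB hg h
  have hP₁ := cor_scalar hsU hm c
  have hcm : c ^ m ≠ 0 := by
    rcases Nat.eq_zero_or_pos m with rfl | hm0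
    · simp
    · apply pow_ne_zero
      rintro rfl
      have : 0 < finrank F U := by omega
      obtain ⟨x, hx⟩ := (finrank_pos_iff_exists_ne_zero (R := F) (M := U)).1 this
      exact hx (isom_inj hsU h.isom (by simp))
  have hdetP : (Matrix.scalar (Fin m) c).det = c ^ m := by
    rw [Matrix.scalar_apply, Matrix.det_diagonal, Finset.prod_const, Finset.card_univ, Fintype.card_fin]
  have hdet : ∀ s (R : Matrix Unit (Fin m) F), (Matrix.fromBlocks (Matrix.of fun _ _ => s * B (g w) w) R 0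
      (Matrix.scalar (Fin m) c)).det = s * B (g w) w * c ^ m := by
    intro s R
    rw [Matrix.det_fromBlocks_zero₂₁, hdetP, Matrix.det_unique, Matrix.of_apply]
  have hdim : finrank F V = 2 * Fintype.card (Unit ⊕ Fin m) := by
    rw [Fintype.card_sum, Fintype.card_fin, Fintype.card_unit]; omega
  have hdg : LinearMap.det g ≠ 0 := left_ne_zero_of_mul (a := LinearMap.det g) (by rw [isom_det hB hg]; exact one_ne_zero)
  have hγ : B (g w) w ≠ 0 := h.ne
  have hd0 : i * B (g w) w * c ^ m ≠ 0 := mul_ne_zero (mul_ne_zero hi0 hγ) hcm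
  have e1 : i * B (g w) w * c ^ m = LinearMap.det g * σ (i * B (g w) w * c ^ m) := by
    obtain ⟨R, -, hR⟩ := H24.Ore.cor_step hB hg h hP₁ i hi
    have := cor_det hB hg hdim hR (by rw [hdet]; exact hd0)
    rwa [hdet] at this
  set d₀ := i * B (g w) w * c ^ m with hd₀
  have hsd0 : σ d₀ ≠ 0 := (map_ne_zero σ).2 hd0
  have ht : σ (d / d₀) = d / d₀ := by
    rw [map_div₀, div_eq_div_iff hsd0 hd0]
    apply mul_left_cancel₀ hdg
    linear_combination d * e1 - d₀ * hdd
  obtain ⟨R, -, hR⟩ := H24.Ore.cor_step hB hg h hP₁ (i * (d / d₀)) (by rw [map_mul, hi, ht, neg_mul])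
  have hsd : i * (d / d₀) * B (g w) w * c ^ m = d := by
    have : i * (d / d₀) * B (g w) w * c ^ m = d / d₀ * d₀ := by rw [hd₀]; ring
    rw [this, div_mul_cancel₀ _ hd0]
  set α := i * (d / d₀) * B (g w) w with hα
  have hch : (Matrix.fromBlocks (Matrix.of fun _ _ => α) R 0 (Matrix.scalar (Fin m) c)).charpoly =
      (X - C α) * (X - C c) ^ m := by
    rw [Matrix.charpoly_fromBlocks_zero₂₁, charpoly_scalar, Fintype.card_fin]
    congr 1
    rw [Matrix.charpoly, Matrix.det_unique, Matrix.charmatrix_apply_eq, Matrix.of_apply]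
  by_cases hαc : α = c
  · refine Or.inl ⟨α, fun x hx => ⟨_, inferInstance, inferInstance, _, hdim, hR, (hdet _ R).trans hsd, ?_⟩⟩
    rw [hch, eval_mul, eval_pow, eval_sub, eval_sub, eval_X, eval_C, eval_C, ← hαc]
    exact mul_ne_zero (sub_ne_zero.2 hx) (pow_ne_zero _ (sub_ne_zero.2 hx))
  · refine Or.inr ⟨_, inferInstance, inferInstance, _, hdim, hR, (hdet _ R).trans hsd, α, _, hch, ?_⟩
    rw [eval_pow, eval_sub, eval_X, eval_C]
    exact pow_ne_zero _ (sub_ne_zero.2 hαc)

end General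

/-- every determinant compatible with `cor_det` is reached -/
theorem claim {F : Type v} [Field F] [Fintype F] {q : ℕ} {σ : F →+* F} (m : ℕ) :
    ∀ (V : Type u) [AddCommGroup V] [Module F V] [FiniteDimensional F V] (B : V → V → F), HS q σ B →
      finrank F V = 2 * m → ∀ g : End F V, Isom B g → (∀ c : F, g ≠ c • (1 : End F V)) → ∀ d : F, d ≠ 0 →
      d = LinearMap.det g * σ d → HasA B g d ∨ HasS B g d := by
  induction m using Nat.strong_induction_on with
  | _ m IH =>
    intro V _ _ _ B hB hm g hg hns d hd hdd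
    obtain ⟨w, hw0, hw1⟩ := H951.OreU.exists_typeI hB hg hns
    obtain ⟨U, g₁, b, h⟩ := H951.OreU.exists_step hB hg hw0 hw1
    obtain ⟨hsU, hfU⟩ := H951.OreU.Step.hs hB hg h
    by_cases hsc : ∀ c : F, g₁ ≠ c • (1 : End F U)
    · obtain ⟨w₂, hw20, hw21⟩ := H951.OreU.exists_typeI hsU h.isom hsc
      obtain ⟨U₂, g₂, b₂, h₂⟩ := H951.OreU.exists_step hsU h.isom hw20 hw21
      obtain ⟨hsU₂, hfU₂⟩ := H951.OreU.Step.hs hsU h.isom h₂
      have hm2 : finrank F U₂ = 2 * (m - 2) := by omega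
      obtain ⟨d₂, hd₂, hc⟩ := exists_d hsU₂ hm2 h₂.isom (fun hns₂ =>
        IH (m - 2) (by omega) U₂ (res (res B U) U₂) hsU₂ hm2 g₂ h₂.isom hns₂)
      rcases hc with hc | hc
      · exact Or.inl (two_step_A hB hg h h₂ hd₂ hc hd hdd)
      · exact Or.inr (two_step_S hB hg h h₂ hd₂ hc hd hdd)
    · push Not at hsc
      obtain ⟨c, rfl⟩ := hsc
      exact one_step hB (m := m - 1) hg (by omega) h hd hdd

theorem good_even {F : Type v} {V : Type u} [Field F] [Fintype F] [AddCommGroup V] [Module F V]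
    [FiniteDimensional F V] {q : ℕ} {σ : F →+* F} {B : V → V → F}
    (hB : HS q σ B) {g : End F V} (hg : Isom B g) (hdet : LinearMap.det g = 1) {m : ℕ}
    (hm : finrank F V = 2 * m) {w : V} {U : Submodule F V} {g₁ : End F U} {b : U → F} (h : Step B g w U g₁ b)
    (hns : ∀ c : F, g₁ ≠ c • (1 : End F U)) : Good B g := by
  classical
  have hdd : (1 : F) = LinearMap.det g * σ 1 := by rw [hdet, map_one, one_mul]
  obtain ⟨hsU, hfU⟩ := H951.OreU.Step.hs hB hg h
  obtain ⟨w₂, hw20, hw21⟩ := H951.OreU.exists_typeI hsU h.isom hns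
  obtain ⟨U₂, g₂, b₂, h₂⟩ := H951.OreU.exists_step hsU h.isom hw20 hw21
  obtain ⟨hsU₂, hfU₂⟩ := H951.OreU.Step.hs hsU h.isom h₂
  have hm2 : finrank F U₂ = 2 * (m - 2) := by omega
  obtain ⟨d₂, hd₂, hc⟩ := exists_d hsU₂ hm2 h₂.isom (fun hns₂ =>
    claim (m - 2) U₂ (res (res B U) U₂) hsU₂ hm2 g₂ h₂.isom hns₂)
  have hfin : ∀ {P}, HasS B g P → P = 1 → Good B g := by
    rintro _ ⟨ι, i1, i2, P, h1, h2, h3, h4⟩ rfl
    exact ⟨ι, i1, i2, P, Or.inl h1, h2, h3, h4⟩
  rcases hc with ⟨bad, hA⟩ | hS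
  · obtain ⟨D, hD, hDs, hDd⟩ := exists_D hB hg h h₂ hd₂ (Or.inl ⟨bad, hA⟩) one_ne_zero hdd
    obtain ⟨s₁, s₂, β, x, y, hs₁, hs₂, hxy, hSd, hSc⟩ :=
      H588.Ore.pl2 (κ := b w₂ * B (g w) w) hB.card hB.sig h.ne h₂.ne hD hDs
    have key : ∀ x y : F, x ≠ y → x ≠ bad → (!![s₁, β; -σ β, s₂] *
        !![B (g w) w, b w₂ * B (g w) w; 0, B (g₁ w₂ : V) w₂]).charpoly = (X - C x) * (X - C y) → Good B g := by
      intro x y hxy hx hSc
      obtain ⟨ι, _, _, P₂, hdim, hP₂, hdet₂, hev⟩ := hA x hx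
      obtain ⟨R, hR⟩ := H24.Ore.cor_pair hB hg h h₂ hP₂ s₁ s₂ β hs₁ hs₂
      refine ⟨Fin 2 ⊕ ι, inferInstance, inferInstance, _, Or.inl ?_, hR, ?_, x, (X - C y) * P₂.charpoly, ?_, ?_⟩
      · rw [Fintype.card_sum, Fintype.card_fin]; omega
      · rw [Matrix.det_fromBlocks_zero₂₁, hdet₂]
        exact (congrArg (· * d₂) hSd).trans hDd
      · rw [Matrix.charpoly_fromBlocks_zero₂₁, hSc, mul_assoc]
      · rw [eval_mul, eval_sub, eval_X, eval_C]
        exact mul_ne_zero (sub_ne_zero.2 hxy) hev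
    by_cases hx : x = bad
    · exact key y x hxy.symm (fun h => hxy (hx.trans h.symm)) (hSc.trans (mul_comm _ _))
    · exact key x y hxy hx hSc
  · exact hfin (two_step_S hB hg h h₂ hd₂ hS one_ne_zero hdd) rfl

end Cfsg.Agent.H801.Ore
end

-- part: H984/Ore/Odd
section
/-!
# S2446, T11: good corner in odd dimension (helper984)
-/

set_option autoImplicit false

namespace Cfsg.Agent.H984.Ore

open Module Polynomial Cfsg.Agent.H951 Matrix Cfsg.Agent.H98.Ore
open Cfsg.Agent.LieClassical.HermBasic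

universe u v

/-- T7a and T8a as hypotheses -/
structure HypOdd (F : Type u) [Field F] [Fintype F] (q : ℕ) (σ : F →+* F) : Prop where
  typeI : ∀ {V : Type v} [AddCommGroup V] [Module F V] [FiniteDimensional F V] {B : V → V → F} (_ : HS q σ B)
    {g : End F V} (_ : Isom B g) (_ : ∀ c : F, g ≠ c • (1 : End F V)), ∃ w, B w w = 0 ∧ B (g w) w ≠ 0
  step : ∀ {V : Type v} [AddCommGroup V] [Module F V] [FiniteDimensional F V] {B : V → V → F} (_ : HS q σ B)
    {g : End F V} (_ : Isom B g) {w : V} (_ : B w w = 0) (_ : B (g w) w ≠ 0),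
    ∃ (U : Submodule F V) (g₁ : End F U) (b : U → F), Step B g w U g₁ b
  hs : ∀ {V : Type v} [AddCommGroup V] [Module F V] [FiniteDimensional F V] {B : V → V → F} (_ : HS q σ B)
    {g : End F V} (_ : Isom B g) {w : V} {U : Submodule F V} {g₁ : End F U} {b : U → F}
    (_ : Step B g w U g₁ b), HS q σ (res B U) ∧ finrank F U + 2 = finrank F V
  cor : ∀ {V : Type v} [AddCommGroup V] [Module F V] [FiniteDimensional F V] {B : V → V → F} (_ : HS q σ B)
    {g : End F V} (_ : Isom B g) {w : V} {U : Submodule F V} {g₁ : End F U}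
    {b : U → F} (_ : Step B g w U g₁ b) {κ : Type} [Fintype κ] [DecidableEq κ]
    (_ : finrank F U = 2 * Fintype.card κ + 1) {P₁ : Matrix κ κ F} (_ : Cor (res B U) g₁ P₁) (a : F),
    ∃ R : Matrix Unit κ F, (b = 0 → (∃ c : F, g₁ = c • (1 : End F U)) → R = 0) ∧
      Cor B g (Matrix.fromBlocks (Matrix.of fun _ _ => a) R 0 P₁)

theorem charpoly_block {F : Type*} [Field F] {κ : Type*} [Fintype κ] [DecidableEq κ] (a : F) (R : Matrix Unit κ F)
    (P : Matrix κ κ F) :
    (Matrix.fromBlocks (Matrix.of fun (_ _ : Unit) => a) R 0 P).charpoly = (X - C a) * P.charpoly := by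
  rw [Matrix.charpoly_fromBlocks_zero₂₁]
  congr 1
  rw [Matrix.charpoly, Matrix.det_unique, Matrix.charmatrix_apply_eq]
  rfl

theorem det_block {F : Type*} [Field F] {κ : Type*} [Fintype κ] [DecidableEq κ] (a : F) (R : Matrix Unit κ F)
    (P : Matrix κ κ F) :
    (Matrix.fromBlocks (Matrix.of fun (_ _ : Unit) => a) R 0 P).det = a * P.det := by
  rw [Matrix.det_fromBlocks_zero₂₁, Matrix.det_unique]
  rfl

theorem det_of_charpoly {F : Type*} [Field F] {κ : Type*} [Fintype κ] [DecidableEq κ] {P : Matrix κ κ F} {c : F}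
    {m : ℕ} (hm : Fintype.card κ = m) (h : P.charpoly = (X - C c) ^ m) : P.det = c ^ m := by
  rw [Matrix.det_eq_sign_charpoly_coeff, h, hm, Polynomial.coeff_zero_eq_eval_zero, Polynomial.eval_pow, Polynomial.eval_sub, Polynomial.eval_X, Polynomial.eval_C, zero_sub, ← mul_pow]
  simp

variable {F : Type u} [Field F] [Fintype F] {q : ℕ} {σ : F →+* F}

/-- a corner of a scalar -/
theorem cor_scalar {V : Type v} [AddCommGroup V] [Module F V] [FiniteDimensional F V] {B : V → V → F}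
    (hB : HS q σ B) {c : F} {m : ℕ} (hm : finrank F V = 2 * m ∨ finrank F V = 2 * m + 1) :
    Cor B (c • (1 : End F V)) (Matrix.diagonal fun _ : Fin m => c) := by
  obtain ⟨w, w', hf⟩ := exists_frame hB hm
  refine ⟨w, w', hf, fun i j => ?_⟩
  rw [LinearMap.smul_apply, Module.End.one_apply, hB.frm.smul_left, hf.dual, Matrix.diagonal_apply]
  by_cases hij : i = j
  · rw [if_pos hij, if_pos hij.symm, mul_one]
  · rw [if_neg hij, if_neg (fun h => hij h.symm), mul_zero]

theorem scalar_ne_zero {V : Type v} [AddCommGroup V] [Module F V] [FiniteDimensional F V] {B : V → V → F}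
    (hB : HS q σ B) {c : F} (hg : Isom B (c • (1 : End F V))) (h0 : 0 < finrank F V) : c ≠ 0 := by
  rintro rfl
  obtain ⟨b, hb⟩ := exists_orthonormal hB
  have h1 := hg (b ⟨0, h0⟩) (b ⟨0, h0⟩)
  rw [hb, if_pos rfl, zero_smul, LinearMap.zero_apply, hB.frm.zero_left] at h1
  exact zero_ne_one h1

/-- **The claim**: corners with one eigenvalue. -/
theorem cor_pow (H : HypOdd.{u, v} F q σ) (m : ℕ) : ∀ (V : Type v) [AddCommGroup V] [Module F V]
    [FiniteDimensional F V] (B : V → V → F) (_ : HS q σ B) (g : End F V) (_ : Isom B g)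
    (_ : finrank F V = 2 * m + 1), ∃ c : F, c ≠ 0 ∧ ∃ (ι : Type) (_ : Fintype ι) (_ : DecidableEq ι)
      (P : Matrix ι ι F), Fintype.card ι = m ∧ Cor B g P ∧ P.charpoly = (X - C c) ^ m := by
  induction m with
  | zero =>
    intro V _ _ _ B hB g hg hm
    refine ⟨1, one_ne_zero, Empty, inferInstance, inferInstance, 0, rfl, ⟨Empty.elim, Empty.elim,
      ⟨fun i => i.elim, fun i => i.elim, fun i => i.elim⟩, fun i => i.elim⟩, ?_⟩
    rw [pow_zero, Matrix.charpoly_isEmpty]
  | succ m ih =>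
    intro V _ _ _ B hB g hg hm
    by_cases hs : ∃ c : F, g = c • (1 : End F V)
    · obtain ⟨c, rfl⟩ := hs
      refine ⟨c, scalar_ne_zero hB hg (by omega), Fin (m + 1), inferInstance, inferInstance, _, Fintype.card_fin _,
        cor_scalar hB (Or.inr hm), ?_⟩
      rw [Matrix.charpoly_diagonal, Finset.prod_const, Finset.card_univ, Fintype.card_fin]
    · push Not at hs
      obtain ⟨w, hw, hgw⟩ := H.typeI hB hg hs
      obtain ⟨U, g₁, b, h⟩ := H.step hB hg hw hgw
      obtain ⟨hU, hfr⟩ := H.hs hB hg h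
      obtain ⟨c, hc, ι, _, _, P, hι, hP, hch⟩ := ih U (res B U) hU g₁ h.isom (by omega)
      obtain ⟨R, -, hR⟩ := H.cor hB hg h (by omega) hP c
      refine ⟨c, hc, Unit ⊕ ι, inferInstance, inferInstance, _, ?_, hR, ?_⟩
      · rw [Fintype.card_sum, Fintype.card_unit, hι, add_comm]
      · rw [charpoly_block, hch, pow_succ']

/-- the choice of `a₁` -/
theorem exists_a (hF : Fintype.card F = q ^ 2) (c d : F) (hd : d ≠ 0) :
    ∃ a : F, a ≠ 0 ∧ a ≠ c ∧ a ^ 2 * d ≠ 1 := by
  classical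
  have hq := two_le hF
  by_contra hcon
  push Not at hcon
  obtain ⟨S, hS⟩ : ∃ S : Finset F, S = Finset.univ.filter (fun a => a ^ 2 * d = 1) := ⟨_, rfl⟩
  have h1 : (Finset.univ : Finset F) ⊆ {0, c} ∪ S := by
    intro a _
    rw [Finset.mem_union, Finset.mem_insert, Finset.mem_singleton, hS, Finset.mem_filter]
    by_cases h0 : a = 0
    · exact Or.inl (Or.inl h0)
    · by_cases h2 : a = c
      · exact Or.inl (Or.inr h2)
      · exact Or.inr ⟨Finset.mem_univ _, hcon a h0 h2⟩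
  have h2 := (Finset.card_le_card h1).trans (Finset.card_union_le _ _)
  have h3 : ({0, c} : Finset F).card ≤ 2 := Finset.card_le_two
  rw [Finset.card_univ, hF] at h2
  -- two square roots at most
  rcases S.eq_empty_or_nonempty with h4 | ⟨r, hr⟩
  · rw [h4, Finset.card_empty] at h2
    have : 2 ^ 2 ≤ q ^ 2 := Nat.pow_le_pow_left hq 2
    omega
  · have h5 : S ⊆ {r, -r} := by
      intro a ha
      rw [hS, Finset.mem_filter] at ha hr
      rw [Finset.mem_insert, Finset.mem_singleton]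
      have h6 : (a - r) * (a + r) = 0 := by
        have h7 : (a ^ 2 - r ^ 2) * d = 0 := by
          rw [sub_mul, ha.2, hr.2, sub_self]
        rcases mul_eq_zero.1 h7 with h8 | h8
        · linear_combination h8
        · exact absurd h8 hd
      rcases mul_eq_zero.1 h6 with h7 | h7
      · exact Or.inl (sub_eq_zero.1 h7)
      · exact Or.inr (eq_neg_of_add_eq_zero_left h7)
    rcases Nat.lt_or_ge q 3 with hq3 | hq3
    · obtain rfl : q = 2 := by omega
      have h7 : (2 : F) = 0 := by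
        obtain ⟨r', hr'⟩ := CharP.exists F
        have hrp : Fact r'.Prime := ⟨CharP.char_is_prime F r'⟩
        obtain ⟨k, -, hk⟩ := FiniteField.card F r'
        have h8 : r' ∣ 2 := by
          have h9 : r' ∣ 2 ^ 2 := by
            rw [← hF, hk]
            exact dvd_pow_self _ k.ne_zero
          exact hrp.out.dvd_of_dvd_pow h9
        have h10 : r' = 2 := (Nat.prime_dvd_prime_iff_eq hrp.out Nat.prime_two).1 h8
        subst h10
        exact_mod_cast CharP.cast_eq_zero F 2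
      have h8 : -r = r := by
        rw [neg_eq_iff_add_eq_zero, ← two_mul, h7, zero_mul]
      rw [h8, Finset.pair_eq_singleton] at h5
      have h9 := Finset.card_le_card h5
      rw [Finset.card_singleton] at h9
      omega
    · have h9 := (Finset.card_le_card h5).trans Finset.card_le_two
      have : 3 ^ 2 ≤ q ^ 2 := Nat.pow_le_pow_left hq3 2
      omega

theorem good_odd_of (H : HypOdd.{u, v} F q σ) {V : Type v} [AddCommGroup V] [Module F V] [FiniteDimensional F V]
    {B : V → V → F} (hB : HS q σ B) {g : End F V} (hg : Isom B g) {m : ℕ}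
    (hm : finrank F V = 2 * m + 1) {w : V} {U : Submodule F V} {g₁ : End F U} {b : U → F} (h : Step B g w U g₁ b)
    (hns : ∀ c : F, g₁ ≠ c • (1 : End F U)) : Good B g := by
  obtain ⟨hU, hfr⟩ := H.hs hB hg h
  obtain ⟨w₂, hw₂, hgw₂⟩ := H.typeI hU h.isom hns
  obtain ⟨U₂, g₂, b₂, h₂⟩ := H.step hU h.isom hw₂ hgw₂
  obtain ⟨hU₂, hfr₂⟩ := H.hs hU h.isom h₂
  obtain ⟨k, hk⟩ : ∃ k, m = k + 2 := ⟨m - 2, by omega⟩
  obtain ⟨c, hc, ι, _, _, P, hι, hP, hch⟩ := cor_pow H k U₂ (res (res B U) U₂) hU₂ g₂ h₂.isom (by omega)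
  obtain ⟨a, ha0, hac, had⟩ := exists_a hB.card c (c ^ k) (pow_ne_zero _ hc)
  have hck : c ^ k ≠ 0 := pow_ne_zero _ hc
  obtain ⟨R₁, -, hR₁⟩ := H.cor hU h.isom h₂ (by omega) hP (a * c ^ k)⁻¹
  obtain ⟨R, -, hR⟩ := H.cor hB hg h (by
    rw [Fintype.card_sum, Fintype.card_unit, hι]
    omega) hR₁ a
  refine ⟨Unit ⊕ (Unit ⊕ ι), inferInstance, inferInstance, _, Or.inr ?_, hR, ?_, a,
    (X - C (a * c ^ k)⁻¹) * P.charpoly, ?_, ?_⟩
  · rw [Fintype.card_sum, Fintype.card_unit, Fintype.card_sum, Fintype.card_unit, hι]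
    omega
  · rw [det_block, det_block, det_of_charpoly hι hch]
    field_simp
  · rw [charpoly_block, charpoly_block]
  · rw [hch, Polynomial.eval_mul, Polynomial.eval_pow, Polynomial.eval_sub, Polynomial.eval_X, Polynomial.eval_C,
      Polynomial.eval_sub, Polynomial.eval_X, Polynomial.eval_C]
    refine mul_ne_zero ?_ (pow_ne_zero _ (sub_ne_zero.2 hac))
    intro h1
    apply had
    have h2 : a = (a * c ^ k)⁻¹ := sub_eq_zero.1 h1
    have h3 : a * (a * c ^ k) = 1 := by
      calc a * (a * c ^ k) = (a * c ^ k)⁻¹ * (a * c ^ k) := congrArg (fun z => z * (a * c ^ k)) h2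
        _ = 1 := inv_mul_cancel₀ (mul_ne_zero ha0 hck)
    linear_combination h3

end Cfsg.Agent.H984.Ore
end

-- part: H984/Ore/Asm
section
/-!
# S2446, T13: rank one and dimension three (helper984)
-/

set_option autoImplicit false

namespace Cfsg.Agent.H984.Ore

open Module Polynomial Cfsg.Agent.H951 Matrix Cfsg.Agent.H98.Ore
open Cfsg.Agent.LieClassical.HermBasic

universe u v

/-- T1 - T8b, T12 as hypotheses -/
structure HypAsm (F : Type u) [Field F] [Fintype F] (q : ℕ) (σ : F →+* F) : Prop where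
  odd : HypOdd.{u, v} F q σ
  poly : ∀ {m : ℕ} (_ : 2 ≤ m), ∃ f : F[X], Irreducible f ∧ f.Monic ∧ f.natDegree = m ∧ σ (f.coeff 0) = f.coeff 0 ∧
    IsCoprime f (f.map σ).reverse ∧ ∀ l : F, l ^ (q + 1) = 1 → l ≠ 1 → f.scaleRoots l ≠ f
  transv : ∀ {ι : Type} [Fintype ι] [DecidableEq ι] (l : F) (_ : l ^ Fintype.card ι = 1) (u φ : ι → F) (_ : u ≠ 0)
    (_ : φ ≠ 0) (_ : φ ⬝ᵥ u = 0) (f : F[X]) (_ : Irreducible f) (_ : f.Monic) (_ : f.natDegree = Fintype.card ι)
    (_ : 2 ≤ Fintype.card ι) (_ : f.scaleRoots l ≠ f),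
    ∃ Z h : Matrix ι ι F, Z.charpoly = f ∧ h.det = 1 ∧ (l • (1 + Matrix.vecMulVec u φ)) * Z * h = h * Z
  criterion : ∀ {V : Type v} [AddCommGroup V] [Module F V] [FiniteDimensional F V] {B : V → V → F} (_ : HS q σ B)
    {g : End F V} (_ : Isom B g) (_ : LinearMap.det g = 1)
    {ι : Type} [Fintype ι] [DecidableEq ι]
    (_ : finrank F V = 2 * Fintype.card ι ∨ finrank F V = 2 * Fintype.card ι + 1) {P Z h : Matrix ι ι F}
    (_ : Cor B g P) (_ : P * Z * h = h * Z) (_ : h.det = 1) (_ : Z.det ≠ 0)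
    (_ : finrank F V = 2 * Fintype.card ι → σ Z.det = Z.det) (_ : IsCoprime Z.charpoly (Z.charpoly.map σ).reverse)
    (_ : Z.charpoly.eval (σ Z.det * Z.det⁻¹) ≠ 0), IsComm B g
  cor_det : ∀ {V : Type v} [AddCommGroup V] [Module F V] [FiniteDimensional F V] {B : V → V → F} (_ : HS q σ B)
    {g : End F V} (_ : Isom B g)
    {ι : Type} [Fintype ι] [DecidableEq ι] (_ : finrank F V = 2 * Fintype.card ι) {P : Matrix ι ι F}
    (_ : Cor B g P) (_ : P.det ≠ 0), P.det = LinearMap.det g * σ P.det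
  rank_one_form : ∀ {V : Type v} [AddCommGroup V] [Module F V] [FiniteDimensional F V] {B : V → V → F} (_ : HS q σ B)
    (_ : 3 ≤ finrank F V) {g : End F V} (_ : Isom B g) {c : F}
    (_ : finrank F (LinearMap.range (g - c • (1 : End F V))) = 1),
    c ^ (q + 1) = 1 ∧ ∃ (e : V) (k : F), e ≠ 0 ∧ k ≠ 0 ∧ ∀ v, g v = c • v + (k * B v e) • e
  frame_transv : ∀ {V : Type v} [AddCommGroup V] [Module F V] [FiniteDimensional F V] {B : V → V → F} (_ : HS q σ B)
    {m : ℕ} (_ : 2 ≤ m) (_ : finrank F V = 2 * m) {g : End F V} {c k : F} {e : V}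
    (_ : c ≠ 0) (_ : k ≠ 0) (_ : e ≠ 0) (_ : B e e = 0) (_ : ∀ v, g v = c • v + (k * B v e) • e),
    ∃ u φ : Fin m → F, u ≠ 0 ∧ φ ≠ 0 ∧ φ ⬝ᵥ u = 0 ∧
      Cor B g (c • ((1 : Matrix (Fin m) (Fin m) F) + Matrix.vecMulVec u φ))
  comm_aniso : ∀ {V : Type v} [AddCommGroup V] [Module F V] [FiniteDimensional F V] {B : V → V → F} (_ : HS q σ B)
    {g : End F V} (_ : Isom B g) (_ : LinearMap.det g = 1) {c k : F} {e : V}
    (_ : c ^ (q + 1) = 1) (_ : c ^ (finrank F V - 1) = 1) (_ : B e e ≠ 0)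
    (_ : ∀ v, g v = c • v + (k * B v e) • e), IsComm B g
  cor_step : ∀ {V : Type v} [AddCommGroup V] [Module F V] [FiniteDimensional F V] {B : V → V → F} (_ : HS q σ B)
    {g : End F V} (_ : Isom B g) {w : V} {U : Submodule F V} {g₁ : End F U}
    {b : U → F} (_ : Step B g w U g₁ b) {κ : Type} [Fintype κ] [DecidableEq κ]
    {P₁ : Matrix κ κ F} (_ : Cor (res B U) g₁ P₁) (s : F) (_ : σ s = -s),
    ∃ R : Matrix Unit κ F, (b = 0 → R = 0) ∧
      Cor B g (Matrix.fromBlocks (Matrix.of fun _ _ => s * B (g w) w) R 0 P₁)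
  of_good : ∀ {V : Type v} [AddCommGroup V] [Module F V] [FiniteDimensional F V] {B : V → V → F} (_ : HS q σ B)
    (_ : 4 ≤ finrank F V) {g : End F V} (_ : Isom B g) (_ : LinearMap.det g = 1) (_ : Good B g), IsComm B g

/-- a matrix with a given characteristic polynomial -/
theorem exists_matrix {F : Type*} [Field F] {ι : Type*} [Fintype ι] [DecidableEq ι] {f : F[X]} (hf : f.Monic)
    (hd : f.natDegree = Fintype.card ι) : ∃ Z : Matrix ι ι F, Z.charpoly = f := by
  let pb := AdjoinRoot.powerBasis hf.ne_zero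
  have h1 : Fintype.card (Fin pb.dim) = Fintype.card ι := by
    rw [Fintype.card_fin, ← hd]
    rfl
  let e : Fin pb.dim ≃ ι := Fintype.equivOfCardEq h1
  refine ⟨Matrix.reindex e e (Algebra.leftMulMatrix pb.basis pb.gen), ?_⟩
  rw [Matrix.charpoly_reindex, charpoly_leftMulMatrix]
  exact AdjoinRoot.minpoly_powerBasis_gen_of_monic hf

section

variable {F : Type u} [Field F] [Fintype F] {q : ℕ} {σ : F →+* F} {V : Type v} [AddCommGroup V] [Module F V]
  [FiniteDimensional F V] {B : V → V → F}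

/-- the determinant of `c + rank one` -/
theorem det_rank_one (hB : HS q σ B) {g : End F V} {c k : F} {e : V} (hc : c ≠ 0) (hn : 0 < finrank F V)
    (hgv : ∀ v, g v = c • v + (k * B v e) • e) :
    LinearMap.det g = c ^ (finrank F V - 1) * (c + k * B e e) := by
  let f : Dual F V :=
    { toFun := fun v => c⁻¹ * (k * B v e)
      map_add' := fun u v => by rw [hB.frm.add_left]; ring
      map_smul' := fun a v => by rw [hB.frm.smul_left, RingHom.id_apply, smul_eq_mul]; ring }
  have h1 : g = c • LinearMap.transvection f e := by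
    apply LinearMap.ext
    intro v
    rw [hgv, LinearMap.smul_apply, LinearMap.transvection.apply, smul_add, smul_smul]
    show _ = c • v + (c * (c⁻¹ * (k * B v e))) • e
    rw [← mul_assoc c, mul_inv_cancel₀ hc, one_mul]
  have h2 : f e = c⁻¹ * (k * B e e) := rfl
  rw [h1, LinearMap.det_smul, LinearMap.transvection.det, h2]
  obtain ⟨n, hn⟩ : ∃ n, finrank F V = n + 1 := ⟨finrank F V - 1, by omega⟩
  rw [hn, Nat.add_sub_cancel, pow_succ]
  field_simp

omit [FiniteDimensional F V] in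
/-- the first step for `c + rank one` -/
theorem step_rank_one (hB : HS q σ B) {g : End F V} {c k : F} {e : V}
    (hgv : ∀ v, g v = c • v + (k * B v e) • e) {w : V} {U : Submodule F V} {g₁ : End F U} {b : U → F}
    (h : Step B g w U g₁ b) : g₁ = c • (1 : End F U) ∧ b = 0 := by
  have hgw : B (g w) w = k * B w e * B e w := by
    rw [hgv, hB.frm.add_left, hB.frm.smul_left, hB.frm.smul_left, h.iso, mul_zero, zero_add]
  have hne := h.ne
  rw [hgw] at hne
  have hkw : k * B w e ≠ 0 := left_ne_zero_of_mul hne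
  have hgw0 : ∀ v : U, B v e = 0 := by
    intro v
    obtain ⟨h1, h2⟩ := (h.mem v).1 v.2
    rw [hgv, hB.frm.add_right, hB.frm.smul_right, hB.frm.smul_right, h1, mul_zero, zero_add] at h2
    exact (mul_eq_zero.1 h2).resolve_left ((map_ne_zero σ).2 hkw)
  have key : ∀ v : U, (g₁ v : V) + b v • g w = c • (v : V) := by
    intro v
    rw [← h.eq, hgv, hgw0, mul_zero, zero_smul, add_zero]
  have hgwU : g w ∉ U := by
    intro h1
    exact h.ne ((h.mem _).1 h1).1
  have hb : ∀ v : U, b v = 0 := by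
    intro v
    by_contra h1
    apply hgwU
    have h2 : b v • g w ∈ U := by
      have h3 : b v • g w = c • (v : V) - (g₁ v : V) := by
        rw [← key v]
        abel
      rw [h3]
      exact U.sub_mem (U.smul_mem _ v.2) (g₁ v).2
    have h4 := U.smul_mem (b v)⁻¹ h2
    rwa [smul_smul, inv_mul_cancel₀ h1, one_smul] at h4
  constructor
  · apply LinearMap.ext
    intro v
    apply Subtype.ext
    have h1 := key v
    rw [hb, zero_smul, add_zero] at h1
    exact h1
  · funext v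
    exact hb v

theorem comm_rank_one_of (H : HypAsm.{u, v} F q σ) (hB : HS q σ B) (hn : 4 ≤ finrank F V) {g : End F V}
    (hg : Isom B g) (hdet : LinearMap.det g = 1)
    {c : F} (hc : finrank F (LinearMap.range (g - c • (1 : End F V))) = 1) : IsComm B g := by
  obtain ⟨hcq, e, k, he, hk, hgv⟩ := H.rank_one_form hB (by omega) hg hc
  have hc0 : c ≠ 0 := by
    rintro rfl
    rw [zero_pow (by omega)] at hcq
    exact zero_ne_one hcq
  have hns : ∀ c' : F, g ≠ c' • (1 : End F V) := by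
    rintro c' rfl
    have h1 : c' • (1 : End F V) - c • (1 : End F V) = (c' - c) • (1 : End F V) := by rw [sub_smul]
    rw [h1] at hc
    by_cases h2 : c' - c = 0
    · rw [h2, zero_smul, LinearMap.range_zero, finrank_bot] at hc
      omega
    · have h3 : LinearMap.range ((c' - c) • (1 : End F V)) = ⊤ := by
        rw [LinearMap.range_eq_top]
        intro v
        refine ⟨(c' - c)⁻¹ • v, ?_⟩
        rw [LinearMap.smul_apply, Module.End.one_apply, smul_smul, mul_inv_cancel₀ h2, one_smul]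
      rw [h3, finrank_top] at hc
      omega
  obtain ⟨w, hw, hgw⟩ := H.odd.typeI hB hg hns
  obtain ⟨U, g₁, b, h⟩ := H.odd.step hB hg hw hgw
  obtain ⟨hU, hfr⟩ := H.odd.hs hB hg h
  obtain ⟨rfl, rfl⟩ := step_rank_one hB hgv h
  have hdet' := det_rank_one hB hc0 (by omega) hgv
  rw [hdet] at hdet'
  obtain ⟨m, hm⟩ : ∃ m, finrank F V = 2 * (m + 1) ∨ finrank F V = 2 * (m + 1) + 1 :=
    ⟨finrank F V / 2 - 1, by omega⟩
  have hm1 : 1 ≤ m := by omega
  -- the corner `(c ^ m)⁻¹, c, ..., c`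
  have hcor : Cor B g (Matrix.fromBlocks (Matrix.of fun (_ _ : Unit) => (c ^ m)⁻¹) 0 0
      (Matrix.diagonal fun _ : Fin m => c)) := by
    have hU' := cor_scalar hU (c := c) (m := m) (by omega)
    rcases hm with hm | hm
    · obtain ⟨i0, hi0, hi⟩ := exists_trace_zero_ne hB.card
      have hi' : σ i0 = -i0 := by
        rw [hB.sig]
        linear_combination hi
      obtain ⟨R, hR, hcor⟩ := H.cor_step hB hg h hU' i0 hi'
      have hd : (Matrix.fromBlocks (Matrix.of fun (_ _ : Unit) => i0 * B (g w) w) R 0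
          (Matrix.diagonal fun _ : Fin m => c)).det = i0 * B (g w) w * c ^ m := by
        rw [det_block, Matrix.det_diagonal, Finset.prod_const, Finset.card_univ, Fintype.card_fin]
      have hd0 : i0 * B (g w) w * c ^ m ≠ 0 := mul_ne_zero (mul_ne_zero hi0 h.ne) (pow_ne_zero _ hc0)
      have h1 := H.cor_det hB hg (by
        rw [Fintype.card_sum, Fintype.card_unit, Fintype.card_fin]
        omega) hcor (by rw [hd]; exact hd0)
      rw [hd, hdet, one_mul] at h1
      obtain ⟨R', hR', hcor'⟩ := H.cor_step hB hg h hU' (i0 * (i0 * B (g w) w * c ^ m)⁻¹) (by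
        rw [map_mul, map_inv₀, ← h1, hi', neg_mul])
      rw [hR' rfl] at hcor'
      have h2 : i0 * (i0 * B (g w) w * c ^ m)⁻¹ * B (g w) w = (c ^ m)⁻¹ := by
        have h3 := h.ne
        have h4 : c ^ m ≠ 0 := pow_ne_zero _ hc0
        field_simp
      rw [h2] at hcor'
      exact hcor'
    · obtain ⟨R, hR, hcor⟩ := H.odd.cor hB hg h (κ := Fin m) (by rw [Fintype.card_fin]; omega) hU' (c ^ m)⁻¹
      rw [hR rfl ⟨c, rfl⟩] at hcor
      exact hcor
  have hcm1 : Fintype.card (Unit ⊕ Fin m) = m + 1 := by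
    rw [Fintype.card_sum, Fintype.card_unit, Fintype.card_fin, add_comm]
  have hcard : finrank F V = 2 * Fintype.card (Unit ⊕ Fin m) ∨ finrank F V = 2 * Fintype.card (Unit ⊕ Fin m) + 1 := by
    rw [hcm1]
    exact hm
  obtain ⟨f, hf, hfm, hfd, hf0, hfc, hfs⟩ := H.poly (m := m + 1) (by omega)
  have hfr0 : ∀ x : F, f.eval x ≠ 0 := by
    intro x hx
    have h1 := Polynomial.degree_eq_one_of_irreducible_of_root hf hx
    have h2 : f.natDegree = 1 := Polynomial.natDegree_eq_of_degree_eq_some h1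
    omega
  have hcoeff : f.coeff 0 ≠ 0 := by
    rw [Polynomial.coeff_zero_eq_eval_zero]
    exact hfr0 0
  -- determinants of matrices with characteristic polynomial `f`
  have hZdet : ∀ {ι : Type} [Fintype ι] [DecidableEq ι] {Z : Matrix ι ι F}, Z.charpoly = f →
      Z.det ≠ 0 ∧ σ Z.det = Z.det ∧ Z.charpoly.eval (σ Z.det * Z.det⁻¹) ≠ 0 := by
    intro ι _ _ Z hZ
    have h1 : Z.det ≠ 0 := by
      rw [Matrix.det_eq_sign_charpoly_coeff, hZ]
      exact mul_ne_zero (pow_ne_zero _ (neg_ne_zero.2 one_ne_zero)) hcoeff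
    refine ⟨h1, ?_, ?_⟩
    · rw [Matrix.det_eq_sign_charpoly_coeff, hZ, map_mul, hf0, map_pow, map_neg, map_one]
    · rw [hZ]
      exact hfr0 _
  by_cases hc1 : c = 1
  · -- `P = 1`
    subst hc1
    have hP1 : Matrix.fromBlocks (Matrix.of fun (_ _ : Unit) => ((1 : F) ^ m)⁻¹) 0 0
        (Matrix.diagonal fun _ : Fin m => (1 : F)) = 1 := by
      rw [one_pow, inv_one, Matrix.diagonal_one, ← Matrix.fromBlocks_one]
      congr 1
    rw [hP1] at hcor
    obtain ⟨Z, hZ⟩ := exists_matrix (ι := Unit ⊕ Fin m) hfm (by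
      rw [hfd, Fintype.card_sum, Fintype.card_unit, Fintype.card_fin]; omega)
    obtain ⟨h1, h2, h3⟩ := hZdet hZ
    exact H.criterion hB hg hdet hcard (h := 1) hcor (by rw [one_mul, mul_one]) Matrix.det_one h1
      (fun _ => h2) (by rw [hZ]; exact hfc) h3
  by_cases hcm : c ^ (m + 1) = 1
  · rcases hm with hm | hm
    · -- a multiple of a transvection
      have hee : B e e = 0 := by
        rw [hm] at hdet'
        have h1 : c ^ (2 * (m + 1)) = 1 := by rw [mul_comm, pow_mul, hcm, one_pow]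
        have h2 : c ^ (2 * (m + 1) - 1) * (c + k * B e e) = c ^ (2 * (m + 1)) +
            c ^ (2 * (m + 1) - 1) * k * B e e := by
          conv_rhs => rw [show 2 * (m + 1) = (2 * (m + 1) - 1) + 1 by omega, pow_succ]
          rw [Nat.add_sub_cancel]
          ring
        rw [h2, h1] at hdet'
        have h3 : c ^ (2 * (m + 1) - 1) * k * B e e = 0 := by linear_combination -hdet'
        exact (mul_eq_zero.1 h3).resolve_left (mul_ne_zero (pow_ne_zero _ hc0) hk)
      obtain ⟨u, φ, hu, hφ, huφ, hcor2⟩ := H.frame_transv hB (m := m + 1) (by omega) hm hc0 hk he hee hgv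
      obtain ⟨Z, h', hZ, hh, hPZ⟩ := H.transv c (by rw [Fintype.card_fin]; exact hcm) u φ hu hφ huφ f hf hfm
        (by rw [hfd, Fintype.card_fin]) (by rw [Fintype.card_fin]; omega) (hfs c hcq hc1)
      obtain ⟨h1, h2, h3⟩ := hZdet hZ
      exact H.criterion hB hg hdet (Or.inl (by rw [Fintype.card_fin]; exact hm)) hcor2 hPZ hh h1
        (fun _ => h2) (by rw [hZ]; exact hfc) h3
    · have h1 : c ^ (finrank F V - 1) = 1 := by
        rw [hm, Nat.add_sub_cancel, mul_comm, pow_mul, hcm, one_pow]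
      rw [h1, one_mul] at hdet'
      refine H.comm_aniso hB hg hdet hcq h1 ?_ hgv
      intro h2
      rw [h2, mul_zero, add_zero] at hdet'
      exact hc1 hdet'.symm
  · -- `c ^ m * c ≠ 1`: a simple eigenvalue
    refine H.of_good hB hn hg hdet ⟨Unit ⊕ Fin m, inferInstance, inferInstance, _, hcard, hcor, ?_, (c ^ m)⁻¹,
      (Matrix.diagonal fun _ : Fin m => c).charpoly, charpoly_block _ _ _, ?_⟩
    · rw [det_block, Matrix.det_diagonal, Finset.prod_const, Finset.card_univ, Fintype.card_fin,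
        inv_mul_cancel₀ (pow_ne_zero _ hc0)]
    · rw [Matrix.charpoly_diagonal, Finset.prod_const, Polynomial.eval_pow, Polynomial.eval_sub, Polynomial.eval_X,
        Polynomial.eval_C]
      apply pow_ne_zero
      intro h1
      apply hcm
      have h2 : (c ^ m)⁻¹ = c := sub_eq_zero.1 h1
      calc c ^ (m + 1) = c ^ m * c := pow_succ _ _
        _ = c ^ m * (c ^ m)⁻¹ := by rw [h2]
        _ = 1 := mul_inv_cancel₀ (pow_ne_zero _ hc0)

/-! ### dimension three -/

theorem exists_x (hF : Fintype.card F = q ^ 2) (hq : 3 ≤ q) :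
    ∃ x : F, x ≠ 0 ∧ x ^ (q + 1) ≠ 1 ∧ x ^ q ≠ x ^ 2 := by
  classical
  by_contra hcon
  push Not at hcon
  have h1 : (Finset.univ : Finset F) ⊆ (X ^ (q + 1) - 1 : F[X]).roots.toFinset ∪
      (X ^ q - X ^ 2 : F[X]).roots.toFinset := by
    intro x _
    have hp1 : (X ^ (q + 1) - 1 : F[X]) ≠ 0 := Polynomial.X_pow_sub_C_ne_zero (by omega) 1
    have hp2 : (X ^ q - X ^ 2 : F[X]) ≠ 0 := by
      intro h2
      have h3 := congrArg (fun p => p.coeff q) h2
      simp only [Polynomial.coeff_sub, Polynomial.coeff_X_pow, if_pos, Polynomial.coeff_zero] at h3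
      rw [if_neg (by omega), sub_zero] at h3
      exact one_ne_zero h3
    rw [Finset.mem_union, Multiset.mem_toFinset, Multiset.mem_toFinset, Polynomial.mem_roots hp1,
      Polynomial.mem_roots hp2, Polynomial.IsRoot.def, Polynomial.IsRoot.def]
    simp only [Polynomial.eval_sub, Polynomial.eval_pow, Polynomial.eval_X, Polynomial.eval_one]
    by_cases h0 : x = 0
    · right
      rw [h0, zero_pow (by omega), zero_pow (by omega), sub_zero]
    · by_cases h2 : x ^ (q + 1) = 1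
      · left; rw [h2, sub_self]
      · right; rw [hcon x h0 h2, sub_self]
  have h2 := (Finset.card_le_card h1).trans (Finset.card_union_le _ _)
  have h3 : (X ^ (q + 1) - 1 : F[X]).roots.toFinset.card ≤ q + 1 := by
    refine (Multiset.toFinset_card_le _).trans ((Polynomial.card_roots' _).trans ?_)
    rw [show (1 : F[X]) = C 1 from Polynomial.C_1.symm, Polynomial.natDegree_X_pow_sub_C]
  have h4 : (X ^ q - X ^ 2 : F[X]).roots.toFinset.card ≤ q := by
    refine (Multiset.toFinset_card_le _).trans ((Polynomial.card_roots' _).trans ?_)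
    refine (Polynomial.natDegree_sub_le _ _).trans ?_
    rw [Polynomial.natDegree_X_pow, Polynomial.natDegree_X_pow]
    omega
  rw [Finset.card_univ, hF] at h2
  have h5 : q ^ 2 = q * q := pow_two q
  have h6 : 3 * q ≤ q * q := Nat.mul_le_mul_right q hq
  omega

theorem comm_three_of (H : HypAsm.{u, v} F q σ) (hB : HS q σ B) (hq : 3 ≤ q) (hn : finrank F V = 3) {g : End F V}
    (hg : Isom B g) (hdet : LinearMap.det g = 1) (hns : ∀ c : F, g ≠ c • (1 : End F V)) : IsComm B g := by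
  obtain ⟨w, hw, hgw⟩ := H.odd.typeI hB hg hns
  obtain ⟨U, g₁, b, h⟩ := H.odd.step hB hg hw hgw
  obtain ⟨hU, hfr⟩ := H.odd.hs hB hg h
  obtain ⟨R, -, hR⟩ := H.odd.cor hB hg h (κ := Empty) (P₁ := 0) (by rw [Fintype.card_empty]; omega)
    ⟨Empty.elim, Empty.elim, ⟨fun i => i.elim, fun i => i.elim, fun i => i.elim⟩, fun i => i.elim⟩ 1
  have hP : Matrix.fromBlocks (Matrix.of fun (_ _ : Unit) => (1 : F)) R 0 (0 : Matrix Empty Empty F) = 1 := by
    ext i j
    rcases i with i | i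
    · rcases j with j | j
      · rw [Matrix.fromBlocks_apply₁₁, Subsingleton.elim j i, Matrix.one_apply_eq]
        rfl
      · exact j.elim
    · exact i.elim
  rw [hP] at hR
  obtain ⟨x, hx0, hx1, hx2⟩ := exists_x hB.card hq
  obtain ⟨Z, hZ⟩ := exists_matrix (ι := Unit ⊕ Empty) (Polynomial.monic_X_sub_C x) (by
    rw [Polynomial.natDegree_X_sub_C]; rfl)
  have hZd : Z.det = x := by
    rw [Matrix.det_eq_sign_charpoly_coeff, hZ]
    simp
  have hσx : σ x ≠ 0 := (map_ne_zero σ).2 hx0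
  refine H.criterion hB hg hdet (ι := Unit ⊕ Empty) (Or.inr (by rw [hn]; rfl)) (h := 1) (Z := Z) hR
    (by rw [one_mul, mul_one]) Matrix.det_one (by rw [hZd]; exact hx0) (fun h2 => ?_) ?_ ?_
  · exfalso
    rw [hn] at h2
    have h3 : Fintype.card (Unit ⊕ Empty) = 1 := rfl
    omega
  · rw [hZ]
    have h1 : ((X - C x : F[X]).map σ).reverse = C (-σ x) * (X - C (σ x)⁻¹) := by
      rw [Polynomial.map_sub, Polynomial.map_X, Polynomial.map_C]
      ext i
      rw [Polynomial.coeff_reverse, Polynomial.natDegree_X_sub_C, Polynomial.coeff_C_mul, Polynomial.coeff_sub,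
        Polynomial.coeff_sub]
      rcases i with _ | _ | i
      · rw [Polynomial.revAt_le (by omega)]
        simp [hσx]
      · rw [Polynomial.revAt_le (by omega)]
        simp
      · rw [Polynomial.revAt_eq_self_of_lt (by omega)]
        simp [Polynomial.coeff_X, Polynomial.coeff_C]
    rw [h1]
    have h2 : IsUnit (C (-σ x) : F[X]) := Polynomial.isUnit_C.2 (isUnit_iff_ne_zero.2 (neg_ne_zero.2 hσx))
    rw [isCoprime_mul_unit_left_right h2]
    apply Polynomial.isCoprime_X_sub_C_of_isUnit_sub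
    rw [isUnit_iff_ne_zero, sub_ne_zero]
    intro h3
    apply hx1
    calc x ^ (q + 1) = σ x * x := by rw [pow_succ, ← hB.sig]
      _ = σ x * (σ x)⁻¹ := by rw [← h3]
      _ = 1 := mul_inv_cancel₀ hσx
  · rw [hZd, hZ, Polynomial.eval_sub, Polynomial.eval_X, Polynomial.eval_C, hB.sig]
    intro h1
    apply hx2
    have h2 : x ^ q * x⁻¹ = x := sub_eq_zero.1 h1
    calc x ^ q = x ^ q * x⁻¹ * x := by rw [inv_mul_cancel_right₀ hx0]
      _ = x ^ 2 := by rw [h2, pow_two]

end

end Cfsg.Agent.H984.Ore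
end

-- part: H874/OreTransv
section
/-!
# S2446, task T3: scalar times a transvection as a commutator in `GL_m` (helper874)
-/

set_option autoImplicit false

namespace Cfsg.Agent.H874.OreTransv

open Module Polynomial Cfsg.Agent.H951 Matrix Cfsg.Agent.H98.Ore

universe u

/-- a functional not vanishing on two nonzero vectors -/
theorem exists_dot_ne {F : Type*} [Field F] {ι : Type*} [Fintype ι] [DecidableEq ι] {x y : ι → F} (hx : x ≠ 0)
    (hy : y ≠ 0) : ∃ ψ : ι → F, ψ ⬝ᵥ x ≠ 0 ∧ ψ ⬝ᵥ y ≠ 0 := by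
  obtain ⟨i, hi⟩ := Function.ne_iff.1 hx
  obtain ⟨j, hj⟩ := Function.ne_iff.1 hy
  rw [Pi.zero_apply] at hi hj
  by_cases h1 : y i = 0
  · by_cases h2 : x j = 0
    · refine ⟨Pi.single i 1 + Pi.single j 1, ?_, ?_⟩
      · rw [add_dotProduct, single_one_dotProduct, single_one_dotProduct, h2, add_zero]; exact hi
      · rw [add_dotProduct, single_one_dotProduct, single_one_dotProduct, h1, zero_add]; exact hj
    · exact ⟨Pi.single j 1, by rw [single_one_dotProduct]; exact h2, by rw [single_one_dotProduct]; exact hj⟩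
  · exact ⟨Pi.single i 1, by rw [single_one_dotProduct]; exact hi, by rw [single_one_dotProduct]; exact h1⟩

theorem det_one_add_vecMulVec {F : Type*} [Field F] {ι : Type*} [Fintype ι] [DecidableEq ι] (x y : ι → F) :
    (1 + vecMulVec x y).det = 1 + y ⬝ᵥ x := by
  rw [vecMulVec_eq Unit, det_one_add_replicateCol_mul_replicateRow]

/-- an invariant subspace of an endomorphism with irreducible characteristic polynomial -/
theorem eq_bot_or_top {F : Type u} [Field F] {V : Type u} [AddCommGroup V] [Module F V] [FiniteDimensional F V]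
    {T : End F V} (h : Irreducible (LinearMap.charpoly T)) {S : Submodule F V} (hS : ∀ x ∈ S, T x ∈ S) :
    S = ⊥ ∨ S = ⊤ := by
  rcases eq_or_ne S ⊥ with h1 | h1
  · exact Or.inl h1
  · right
    have hnt : Nontrivial S := Submodule.nontrivial_iff_ne_bot.2 h1
    have h2 : aeval (T.restrict hS) (LinearMap.charpoly T) = 0 := by
      ext x
      have h3 : ∀ p : F[X], ((aeval (T.restrict hS) p x : S) : V) = aeval T p x := by
        intro p
        exact (Cfsg.Agent.H560.CovC.aeval_apply_of_comm (S := T.restrict hS) (T := T) S.subtype (fun _ => rfl) p x)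
      rw [h3, LinearMap.aeval_self_charpoly]
      rfl
    have h3 : minpoly F (T.restrict hS) = LinearMap.charpoly T :=
      (minpoly.eq_of_irreducible_of_monic h h2 (LinearMap.charpoly_monic T)).symm
    have h4 := LinearMap.minpoly_dvd_charpoly (T.restrict hS)
    have h5 := natDegree_le_of_dvd h4 (LinearMap.charpoly_monic _).ne_zero
    rw [h3, LinearMap.charpoly_natDegree, LinearMap.charpoly_natDegree] at h5
    exact Submodule.eq_top_of_finrank_eq (le_antisymm (Submodule.finrank_le S) h5)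

theorem gl_transv {F : Type u} [Field F] [Finite F] {ι : Type} [Fintype ι] [DecidableEq ι]
    (l : F) (hl : l ^ Fintype.card ι = 1) (u φ : ι → F) (hu : u ≠ 0) (hφ : φ ≠ 0) (huφ : φ ⬝ᵥ u = 0)
    (f : F[X]) (hf : Irreducible f) (hfm : f.Monic) (hfd : f.natDegree = Fintype.card ι) (hι : 2 ≤ Fintype.card ι)
    (hfl : f.scaleRoots l ≠ f) :
    ∃ Z h : Matrix ι ι F, Z.charpoly = f ∧ h.det = 1 ∧ (l • (1 + Matrix.vecMulVec u φ)) * Z * h = h * Z := by
  classical
  have hl0 : l ≠ 0 := by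
    rintro rfl
    rw [zero_pow (by omega)] at hl
    exact zero_ne_one hl
  have hfr : finrank F (ι → F) = Fintype.card ι := finrank_fintype_fun_eq_card F
  obtain ⟨T₀, -, hT₀⟩ := Cfsg.Agent.H560.CovC.exists_coc (V := ι → F) hfm (hfd.trans hfr.symm)
  let φ' : (ι → F) →ₗ[F] F :=
    { toFun := fun v => φ ⬝ᵥ v
      map_add' := fun v w => dotProduct_add _ _ _
      map_smul' := fun c v => dotProduct_smul _ _ _ }
  have hφ' : ∀ v, φ' v = φ ⬝ᵥ v := fun _ => rfl
  have hobs : Cfsg.Agent.H166.Cov.Obs φ' (l • T₀) := by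
    intro S h1 h2
    have h3 : ∀ x ∈ S, T₀ x ∈ S := by
      intro x hx
      have := S.smul_mem l⁻¹ (h2 x hx)
      rwa [LinearMap.smul_apply, smul_smul, inv_mul_cancel₀ hl0, one_smul] at this
    rcases eq_bot_or_top (by rw [hT₀]; exact hf) h3 with h4 | h4
    · exact h4
    · exfalso
      obtain ⟨i, hi⟩ := Function.ne_iff.1 hφ
      apply hi
      have := h1 (Pi.single i 1) (by rw [h4]; trivial)
      rwa [hφ', dotProduct_single_one] at this
  obtain ⟨b, hb⟩ := Cfsg.Agent.H216.Pole.exists_charpoly_add hobs hfm (hfd.trans hfr.symm)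
  set Z₀ := LinearMap.toMatrix' T₀ with hZ₀
  have hZ₀c : Z₀.charpoly = f := by rw [hZ₀, ← LinearMap.toMatrix_eq_toMatrix', LinearMap.charpoly_toMatrix, hT₀]
  have hM : (l • Z₀ + vecMulVec b φ).charpoly = f := by
    have h1 : LinearMap.toMatrix' (l • T₀ + φ'.smulRight b) = l • Z₀ + vecMulVec b φ := by
      rw [map_add, map_smul]
      congr 1
      ext i j
      rw [LinearMap.toMatrix'_apply, LinearMap.smulRight_apply, hφ', dotProduct_single_one, vecMulVec_apply,
        Pi.smul_apply, smul_eq_mul, mul_comm]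
    rw [← h1, ← LinearMap.toMatrix_eq_toMatrix', LinearMap.charpoly_toMatrix, hb]
  -- `det Z₀ ≠ 0`
  have hdet : Z₀.det ≠ 0 := by
    rw [det_eq_sign_charpoly_coeff, hZ₀c]
    refine mul_ne_zero (pow_ne_zero _ (neg_ne_zero.2 one_ne_zero)) fun h0 => ?_
    have h1 : X ∣ f := X_dvd_iff.2 h0
    obtain ⟨g, hg⟩ := h1
    rcases hf.isUnit_or_isUnit hg with h2 | h2
    · exact Polynomial.not_isUnit_X h2
    · have h3 := natDegree_mul_le (p := X) (q := g)
      rw [← hg, natDegree_X, natDegree_eq_zero_of_isUnit h2, hfd] at h3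
      omega
  have hdu : IsUnit Z₀.det := isUnit_iff_ne_zero.2 hdet
  have hdetM : (l • Z₀ + vecMulVec b φ).det = Z₀.det := by
    rw [det_eq_sign_charpoly_coeff, det_eq_sign_charpoly_coeff, hM, hZ₀c]
  -- `b ≠ 0`
  have hb0 : b ≠ 0 := by
    rintro rfl
    rw [zero_vecMulVec, add_zero] at hM
    apply hfl
    have h1 : aeval (l • Z₀) f = 0 := by
      have := Matrix.aeval_self_charpoly (l • Z₀)
      rwa [hM] at this
    have h2 : aeval (l • Z₀) (f.scaleRoots l) = 0 := by
      have h3 : aeval Z₀ f = 0 := by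
        have := Matrix.aeval_self_charpoly Z₀
        rwa [hZ₀c] at this
      have := scaleRoots_aeval_eq_zero (r := l) h3
      rwa [← Algebra.smul_def] at this
    have : Nonempty ι := Fintype.card_pos_iff.1 (by omega)
    have h3 : minpoly F (l • Z₀) = f := (minpoly.eq_of_irreducible_of_monic hf h1 hfm).symm
    have h4 : f ∣ f.scaleRoots l := by
      rw [← h3]
      conv_rhs => rw [h3]
      exact minpoly.dvd _ _ h2
    exact (eq_of_monic_of_dvd_of_natDegree_le hfm ((monic_scaleRoots_iff l).2 hfm) h4 (natDegree_scaleRoots f l).le)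
  -- `u₀`
  set u₀ : ι → F := l⁻¹ • (Z₀⁻¹ *ᵥ b) with hu₀
  have hZu : l • (Z₀ *ᵥ u₀) = b := by
    rw [hu₀, mulVec_smul, smul_smul, mul_inv_cancel₀ hl0, one_smul, mulVec_mulVec, mul_nonsing_inv _ hdu, one_mulVec]
  have hu₀0 : u₀ ≠ 0 := by
    intro h
    rw [h, mulVec_zero, smul_zero] at hZu
    exact hb0 hZu.symm
  set P₀ : Matrix ι ι F := l • (1 + vecMulVec u₀ φ) with hP₀
  have hZP : Z₀ * P₀ = l • Z₀ + vecMulVec b φ := by
    rw [hP₀, mul_smul_comm, mul_add, mul_one, mul_vecMulVec, smul_add, ← smul_vecMulVec, hZu]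
  have hPdet : P₀.det = 1 := by
    have h1 : Z₀.det * P₀.det = Z₀.det := by rw [← det_mul, hZP, hdetM]
    exact mul_left_cancel₀ hdet (by rw [h1, mul_one])
  have hφu₀ : φ ⬝ᵥ u₀ = 0 := by
    rw [hP₀, det_smul, hl, one_mul, det_one_add_vecMulVec] at hPdet
    linear_combination hPdet
  -- the conjugating matrix
  obtain ⟨ψ, hψ1, hψ2⟩ := exists_dot_ne hu₀0 hu
  set k : Matrix ι ι F := 1 + vecMulVec (u - u₀) ((ψ ⬝ᵥ u₀)⁻¹ • ψ) with hk
  have hkdet : k.det ≠ 0 := by
    rw [hk, det_one_add_vecMulVec, smul_dotProduct, dotProduct_sub, smul_eq_mul, mul_sub, inv_mul_cancel₀ hψ1,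
      add_sub_cancel]
    exact mul_ne_zero (inv_ne_zero hψ1) hψ2
  have hku : IsUnit k.det := isUnit_iff_ne_zero.2 hkdet
  have hku₀ : k *ᵥ u₀ = u := by
    rw [hk, add_mulVec, one_mulVec, vecMulVec_mulVec, smul_dotProduct, smul_eq_mul, inv_mul_cancel₀ hψ1]
    simp
  have hφk : φ ᵥ* k = φ := by
    rw [hk, vecMul_add, vecMul_one, vecMul_vecMulVec, dotProduct_sub, huφ, hφu₀, sub_self, zero_smul, add_zero]
  have hkP : (l • (1 + vecMulVec u φ)) * k = k * P₀ := by
    rw [hP₀, smul_mul_assoc, mul_smul_comm, add_mul, one_mul, vecMulVec_mul, hφk, mul_add k, mul_one, mul_vecMulVec,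
      hku₀]
  set Z : Matrix ι ι F := k * Z₀ * k⁻¹ with hZ
  have hZc : Z.charpoly = f := by
    rw [hZ, charpoly_mul_comm, ← mul_assoc, nonsing_inv_mul _ hku, one_mul, hZ₀c]
  have hPZ : (l • (1 + vecMulVec u φ)) * Z = k * (P₀ * Z₀) * k⁻¹ := by
    rw [hZ, ← mul_assoc, ← mul_assoc, hkP, mul_assoc k P₀]
  have hPZc : ((l • (1 + vecMulVec u φ)) * Z).charpoly = f := by
    rw [hPZ, charpoly_mul_comm, ← mul_assoc, nonsing_inv_mul _ hku, one_mul, charpoly_mul_comm, hZP, hM]
  have aX : ∀ (A : Matrix ι ι F), A.charpoly = f → aeval (Matrix.toLin' A) f = 0 := by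
    intro A hA
    have h1 : aeval (Matrix.toLin' A) f = Matrix.toLin' (aeval A f) :=
      Polynomial.aeval_algHom_apply (Matrix.toLinAlgEquiv' (R := F) (n := ι)).toAlgHom A f
    have h2 := Matrix.aeval_self_charpoly A
    rw [hA] at h2
    rw [h1, h2, map_zero]
  obtain ⟨T, hT, hTdet⟩ := Cfsg.Agent.H140.OreO.exists_conj (Matrix.toLin' ((l • (1 + vecMulVec u φ)) * Z))
    (Matrix.toLin' Z) f hf (aX _ hPZc) (aX _ hZc) (hfr.trans hfd.symm) 1 one_ne_zero
  refine ⟨Z, LinearMap.toMatrix' (T : (ι → F) →ₗ[F] (ι → F)), hZc, by rw [LinearMap.det_toMatrix', hTdet], ?_⟩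
  apply Matrix.toLin'.injective
  rw [Matrix.toLin'_mul, Matrix.toLin'_mul (LinearMap.toMatrix' _) Z, Matrix.toLin'_toMatrix']
  apply LinearMap.ext
  intro w
  exact (hT w).symm

end Cfsg.Agent.H874.OreTransv
end

-- part: H984/Ore/Final
section
/-!
# S2446, T11 `good_odd`, T13 `comm_rank_one`, `comm_three` (helper984)
-/

set_option autoImplicit false

namespace Cfsg.Agent.H984.OreFinal

open Module Polynomial Cfsg.Agent.H951 Matrix Cfsg.Agent.H98.Ore Cfsg.Agent.H984.Ore

universe u v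

theorem hypOdd {F : Type u} [Field F] [Fintype F] {q : ℕ} {σ : F →+* F} : HypOdd.{u, v} F q σ where
  typeI hB _ hg hns := Cfsg.Agent.H951.OreU.exists_typeI hB hg hns
  step hB _ hg _ h0 h1 := Cfsg.Agent.H951.OreU.exists_step hB hg h0 h1
  hs hB _ hg _ _ _ _ h := Cfsg.Agent.H951.OreU.Step.hs hB hg h
  cor hB _ hg _ _ _ _ h _ _ _ hn _ hP a := Cfsg.Agent.H24.Ore.cor_step_odd hB hg h hn hP a

/-- **T11** -/
theorem good_odd {F V : Type*} [Field F] [Fintype F] [AddCommGroup V] [Module F V] [FiniteDimensional F V]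
    {q : ℕ} {σ : F →+* F} {B : V → V → F} (hB : HS q σ B) {g : End F V} (hg : Isom B g) {m : ℕ}
    (hm : finrank F V = 2 * m + 1) {w : V} {U : Submodule F V} {g₁ : End F U} {b : U → F} (h : Step B g w U g₁ b)
    (hns : ∀ c : F, g₁ ≠ c • (1 : End F U)) : Good B g :=
  good_odd_of hypOdd hB hg hm h hns

/-- the remaining hypotheses of T13: T4 `criterion`, T4b `cor_det`, T5 `comm_scalar`, T12 `comm_of_good` -/
structure HypRest (F : Type u) [Field F] [Fintype F] (q : ℕ) (σ : F →+* F) : Prop where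
  criterion : ∀ {V : Type v} [AddCommGroup V] [Module F V] [FiniteDimensional F V] {B : V → V → F} (_ : HS q σ B)
    {g : End F V} (_ : Isom B g) (_ : LinearMap.det g = 1)
    {ι : Type} [Fintype ι] [DecidableEq ι]
    (_ : finrank F V = 2 * Fintype.card ι ∨ finrank F V = 2 * Fintype.card ι + 1) {P Z h : Matrix ι ι F}
    (_ : Cor B g P) (_ : P * Z * h = h * Z) (_ : h.det = 1) (_ : Z.det ≠ 0)
    (_ : finrank F V = 2 * Fintype.card ι → σ Z.det = Z.det) (_ : IsCoprime Z.charpoly (Z.charpoly.map σ).reverse)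
    (_ : Z.charpoly.eval (σ Z.det * Z.det⁻¹) ≠ 0), IsComm B g
  cor_det : ∀ {V : Type v} [AddCommGroup V] [Module F V] [FiniteDimensional F V] {B : V → V → F} (_ : HS q σ B)
    {g : End F V} (_ : Isom B g)
    {ι : Type} [Fintype ι] [DecidableEq ι] (_ : finrank F V = 2 * Fintype.card ι) {P : Matrix ι ι F}
    (_ : Cor B g P) (_ : P.det ≠ 0), P.det = LinearMap.det g * σ P.det
  comm_scalar : ∀ {V : Type v} [AddCommGroup V] [Module F V] [FiniteDimensional F V] {B : V → V → F} (_ : HS q σ B)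
    {l : F} (_ : l ^ (q + 1) = 1) (_ : l ^ finrank F V = 1), IsComm B (l • (1 : End F V))
  of_good : ∀ {V : Type v} [AddCommGroup V] [Module F V] [FiniteDimensional F V] {B : V → V → F} (_ : HS q σ B)
    (_ : 4 ≤ finrank F V) {g : End F V} (_ : Isom B g) (_ : LinearMap.det g = 1) (_ : Good B g), IsComm B g

theorem hypAsm {F : Type u} [Field F] [Fintype F] {q : ℕ} {σ : F →+* F} (H : HypRest.{u, v} F q σ)
    (hF : Fintype.card F = q ^ 2) (hσ : ∀ a, σ a = a ^ q) : HypAsm.{u, v} F q σ where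
  odd := hypOdd
  poly hm := Cfsg.Agent.H117.OrePoly.exists_poly hF σ hσ hm
  transv l hl u φ hu hφ huφ f hf hfm hfd hι hfl :=
    Cfsg.Agent.H874.OreTransv.gl_transv l hl u φ hu hφ huφ f hf hfm hfd hι hfl
  criterion := H.criterion
  cor_det := H.cor_det
  rank_one_form hB hn _ hg _ hc := Cfsg.Agent.H951.OreU.rank_one_form hB hn hg hc
  frame_transv hB _ hm hn _ _ _ _ hc hk he hee hgv :=
    Cfsg.Agent.H951.OreU.frame_transv hB hm hn hc hk he hee hgv
  comm_aniso hB _ _ hdet _ _ _ hc hcn hee hgv :=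
    Cfsg.Agent.H951.OreU.comm_aniso_of (fun _ hU _ h1 h2 => H.comm_scalar hU h1 h2) hB hdet hc hcn hee hgv
  cor_step hB _ hg _ _ _ _ h _ _ _ _ hP s hs := Cfsg.Agent.H24.Ore.cor_step hB hg h hP s hs
  of_good := H.of_good

section

variable {F : Type u} {V : Type v} [Field F] [Fintype F] [AddCommGroup V] [Module F V] [FiniteDimensional F V]
  {q : ℕ} {σ : F →+* F} {B : V → V → F}

/-- **T13**, from T4, T4b, T5, T12 -/
theorem comm_rank_one (H : HypRest.{u, v} F q σ) (hB : HS q σ B) (hn : 4 ≤ finrank F V) {g : End F V}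
    (hg : Isom B g) (hdet : LinearMap.det g = 1)
    {c : F} (hc : finrank F (LinearMap.range (g - c • (1 : End F V))) = 1) : IsComm B g :=
  comm_rank_one_of (hypAsm H hB.card hB.sig) hB hn hg hdet hc

/-- **T14**, from T4, T4b, T5, T12 -/
theorem comm_three (H : HypRest.{u, v} F q σ) (hB : HS q σ B) (hq : 3 ≤ q) (hn : finrank F V = 3) {g : End F V}
    (hg : Isom B g) (hdet : LinearMap.det g = 1) (hns : ∀ c : F, g ≠ c • (1 : End F V)) : IsComm B g :=
  comm_three_of (hypAsm H hB.card hB.sig) hB hq hn hg hdet hns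

end

end Cfsg.Agent.H984.OreFinal
end

-- part: H954/OreB
section
/-!
# S2446, task T7b: a good first step (helper954)
-/

set_option autoImplicit false

namespace Cfsg.Agent.H954.OreB

open Module Cfsg.Agent.H951 Cfsg.Agent.H98.Ore Cfsg.Agent.LieClassical.HermBasic

variable {F V : Type*} [Field F] [Fintype F] [AddCommGroup V] [Module F V]
  {q : ℕ} {σ : F →+* F} {B : V → V → F}

omit [Fintype F] in
/-- A quadratic polynomial with three roots has linear coefficient zero. -/
theorem quad (T : Finset F) (hT : 3 ≤ T.card) {x y z : F} (h : ∀ u ∈ T, y * u ^ 2 + z * u + x = 0) : z = 0 := by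
  obtain ⟨a, b, c, ha, hb, hc, hab, hac, hbc⟩ := Finset.two_lt_card_iff.1 hT
  have h1 := h a ha
  have h2 := h b hb
  have h3 := h c hc
  have h4 : y * (a + b) + z = 0 := by
    have : (a - b) * (y * (a + b) + z) = 0 := by linear_combination h1 - h2
    exact (mul_eq_zero.1 this).resolve_left (sub_ne_zero.2 hab)
  have h5 : y * (a + c) + z = 0 := by
    have : (a - c) * (y * (a + c) + z) = 0 := by linear_combination h1 - h3
    exact (mul_eq_zero.1 this).resolve_left (sub_ne_zero.2 hac)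
  have h6 : y = 0 := by
    have : (b - c) * y = 0 := by linear_combination h4 - h5
    exact (mul_eq_zero.1 this).resolve_left (sub_ne_zero.2 hbc)
  rw [h6, zero_mul, zero_add] at h4
  exact h4

/-- The elements of norm `r`. -/
noncomputable def norms [DecidableEq F] (q : ℕ) (r : F) : Finset F := Finset.univ.filter fun x => x * x ^ q = r

theorem mem_norms [DecidableEq F] {r x : F} : x ∈ norms q r ↔ x * x ^ q = r := by
  simp [norms]

theorem card_norms [DecidableEq F] (hF : Fintype.card F = q ^ 2) {r : F} (hr : r ^ q = r) (h0 : r ≠ 0) :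
    (norms q r).card = q + 1 := by
  rw [← card_norm_eq hF hr h0, norms, ← Fintype.card_subtype, Nat.card_eq_fintype_card]

omit [Fintype F] in
theorem expand (hB : Frm σ 1 B) (N : End F V) {e w v : V} (h1 : N e = 0) (h2 : ∀ u, B (N u) e = 0) (a d : F) :
    B (N (w + a • v + d • e)) (w + a • v + d • e) =
      B (N w) w + σ a * B (N w) v + a * B (N v) w + a * σ a * B (N v) v := by
  have h3 : N (w + a • v + d • e) = N (w + a • v) := by
    rw [map_add _ _ (d • e), map_smul, h1, smul_zero, add_zero]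
  rw [h3, hB.add_right, hB.smul_right, h2, mul_zero, add_zero, map_add, map_smul, hB.add_left,
    hB.smul_left, hB.add_right, hB.add_right, hB.smul_right, hB.smul_right]
  ring

omit [Fintype F] [AddCommGroup V] [Module F V] in
/-- `B (N (w + a v)) (w + a v) = 0` for three `a` of norm `r` implies `B (N w) w + r B (N v) v = 0`. -/
theorem norm_trick (N : V → V) {w v : V} {r : F}
    (T : Finset F) (hT : 3 ≤ T.card) (hr : ∀ a ∈ T, a * σ a = r)
    (h : ∀ a ∈ T, B (N w) w + σ a * B (N w) v + a * B (N v) w + a * σ a * B (N v) v = 0) :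
    B (N w) w + r * B (N v) v = 0 := by
  refine quad T hT (x := r * B (N w) v) (y := B (N v) w) fun a ha => ?_
  have h1 := h a ha
  have h2 := hr a ha
  rw [h2] at h1
  linear_combination a * h1 - B (N w) v * h2

theorem herm' (hB : HS q σ B) (u v : V) : B v u = σ (B u v) := by
  rw [hB.frm.herm u v, one_mul]

/-- A subspace consisting of isotropic vectors is totally isotropic. -/
theorem ti_of_iso (hB : HS q σ B) {W : Submodule F V} (h : ∀ v ∈ W, B v v = 0) : TI B W := by
  intro u hu v hv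
  refine eq_zero_of_forall_trace hB.card fun c => ?_
  have h1 := h (c • u + v) (W.add_mem (W.smul_mem c hu) hv)
  rw [hB.frm.add_right, hB.frm.smul_right, hB.frm.add_left, hB.frm.add_left, hB.frm.smul_left, hB.frm.smul_left,
    h u hu, h v hv, herm' hB u v] at h1
  rw [← hB.sig, map_mul]
  linear_combination h1

theorem self_fixed (hB : HS q σ B) (v : V) : (B v v) ^ q = B v v := by
  have := herm' hB v v
  rw [hB.sig] at this
  exact this.symm

theorem nd_top (hB : HS q σ B) : Nd B (⊤ : Submodule F V) := by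
  intro u _ hu
  by_contra h
  push Not at h
  exact hu (hB.nd u fun v => h v trivial)

omit [Fintype F] in
theorem finrank_span_le_one (x : V) : finrank F (F ∙ x) ≤ 1 := by
  classical
  have := finrank_span_finset_le_card (R := F) ({x} : Finset V)
  rwa [Finset.coe_singleton, Finset.card_singleton] at this

variable [FiniteDimensional F V]

/-- An anisotropic vector orthogonal to `e` (anisotropic) and `w`. -/
theorem exists_aniso (hB : HS q σ B) (hn : 4 ≤ finrank F V) {e w : V} (hee : B e e ≠ 0) :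
    ∃ v : V, B v w = 0 ∧ B v e = 0 ∧ B v v ≠ 0 := by
  classical
  by_contra hcon
  push Not at hcon
  have hnd : Nd B (F ∙ e) := by
    intro u hu hu0
    obtain ⟨a, rfl⟩ := Submodule.mem_span_singleton.1 hu
    refine ⟨e, Submodule.mem_span_singleton_self e, ?_⟩
    rw [hB.frm.smul_left]
    refine mul_ne_zero ?_ hee
    rintro rfl
    exact hu0 (zero_smul _ _)
  have he0 : e ≠ 0 := by
    rintro rfl
    exact hee (hB.frm.zero_left _)
  have h1 := hB.frm.finrank_perp_inf hnd (le_top : (F ∙ e) ≤ ⊤)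
  have h2 := hB.frm.nd_perp_inf (nd_top hB) hnd le_top
  rw [inf_top_eq] at h1 h2
  rw [finrank_span_singleton he0, finrank_top] at h1
  have h3 := hB.frm.finrank_add_perp_ge (Submodule.span F ((({e, w} : Finset V) : Set V)))
  have h4 : finrank F (Submodule.span F ((({e, w} : Finset V) : Set V))) ≤ 2 :=
    (finrank_span_finset_le_card (R := F) ({e, w} : Finset V)).trans Finset.card_le_two
  have hle : hB.frm.perp (Submodule.span F ((({e, w} : Finset V) : Set V))) ≤ hB.frm.perp (F ∙ e) := by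
    apply hB.frm.perp_anti
    rw [Submodule.span_singleton_le_iff_mem]
    exact Submodule.subset_span (by simp)
  have hti : TI B (hB.frm.perp (Submodule.span F ((({e, w} : Finset V) : Set V)))) := by
    refine ti_of_iso hB fun v hv => hcon v ?_ ?_
    · exact hv w (Submodule.subset_span (by simp))
    · exact hv e (Submodule.subset_span (by simp))
  have h5 := hB.frm.two_mul_finrank_le h2 hle hti
  omega

omit [FiniteDimensional F V] in
/-- If `e ≠ 0` is orthogonal to all vectors orthogonal to `w`, then `e` is a multiple of `w`. -/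
theorem exists_not_orth (hB : HS q σ B) {e w : V} (hew : ∀ t : F, e ≠ t • w) : ∃ f : V, B f w = 0 ∧ B f e ≠ 0 := by
  by_contra hcon
  push Not at hcon
  have hw : w ≠ 0 := by
    rintro rfl
    apply hew 0
    rw [zero_smul]
    apply hB.nd
    intro v
    rw [hB.frm.eq_zero_comm]
    exact hcon v (hB.frm.zero_right _)
  obtain ⟨f, hf⟩ : ∃ f, B w f ≠ 0 := by
    by_contra h
    push Not at h
    exact hw (hB.nd w h)
  have hf' : B f w ≠ 0 := fun h => hf (hB.frm.eq_zero_comm.1 h)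
  apply hew (σ (B f e / B f w))
  rw [← sub_eq_zero]
  apply hB.nd
  intro v
  rw [hB.frm.eq_zero_comm, hB.frm.sub_right, hB.frm.smul_right, hB.frm.sigma_sq]
  have h1 := hcon (v - (B v w / B f w) • f) (by
    rw [hB.frm.sub_left, hB.frm.smul_left, div_mul_cancel₀ _ hf', sub_self])
  rw [hB.frm.sub_left, hB.frm.smul_left] at h1
  linear_combination h1

/-- The key construction: for orthogonal `e ≠ 0` and isotropic `w` there is `v ∈ w^⊥` such that `v + ⟨e⟩` and all
`w + a v + ⟨e⟩`, `a ≠ 0`, contain isotropic vectors which are not orthogonal to `e`. -/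
theorem key (hB : HS q σ B) (hn : 4 ≤ finrank F V) {e w : V} (hew : ∀ t : F, e ≠ t • w) (hw : B w w = 0)
    (hwe : B w e = 0) :
    ∃ v : V, (∃ d : F, B (v + d • e) (v + d • e) = 0 ∧ B (v + d • e) e ≠ 0) ∧
      ∀ a : F, a ≠ 0 → ∃ d : F, B (w + a • v + d • e) (w + a • v + d • e) = 0 ∧ B (w + a • v + d • e) e ≠ 0 := by
  have hew' : B e w = 0 := hB.frm.eq_zero_comm.1 hwe
  by_cases hee : B e e = 0
  · obtain ⟨f, hf, hfe⟩ := exists_not_orth hB hew
    have hfix : (-B f f) ^ q = -B f f := by rw [neg_pow_q hB.card, self_fixed hB]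
    obtain ⟨s, hs⟩ := exists_trace_eq hB.card hfix
    have hef : B e f = σ (B f e) := herm' hB f e
    have hσ : σ (B f e) ≠ 0 := by rwa [Ne, map_eq_zero]
    -- `v = f + t e` with `σ t * B f e = σ s`
    obtain ⟨t, ht⟩ : ∃ t : F, t = s / σ (B f e) := ⟨_, rfl⟩
    have ht1 : t * B e f = s := by rw [hef, ht, div_mul_cancel₀ _ hσ]
    have ht2 : σ t * B f e = σ s := by
      rw [← ht1, map_mul, hef, hB.frm.sigma_sq]
    have hvv : B (f + t • e) (f + t • e) = 0 := by
      rw [hB.frm.add_right, hB.frm.smul_right, hB.frm.add_left, hB.frm.add_left, hB.frm.smul_left,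
        hB.frm.smul_left, hee]
      rw [← hB.sig] at hs
      linear_combination ht1 + ht2 + hs
    have hvw : B (f + t • e) w = 0 := by
      rw [hB.frm.add_left, hB.frm.smul_left, hf, hew', mul_zero, add_zero]
    have hve : B (f + t • e) e = B f e := by
      rw [hB.frm.add_left, hB.frm.smul_left, hee, mul_zero, add_zero]
    refine ⟨f + t • e, ⟨0, ?_, ?_⟩, fun a ha => ⟨0, ?_, ?_⟩⟩
    · rw [zero_smul, add_zero]; exact hvv
    · rw [zero_smul, add_zero, hve]; exact hfe
    · rw [zero_smul, add_zero, hB.frm.add_right, hB.frm.smul_right, hB.frm.add_left, hB.frm.add_left,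
        hB.frm.smul_left, hB.frm.smul_left, hw, hvv, hvw, hB.frm.eq_zero_comm.1 hvw]
      ring
    · rw [zero_smul, add_zero, hB.frm.add_left, hB.frm.smul_left, hwe, zero_add, hve]
      exact mul_ne_zero ha hfe
  · obtain ⟨v, hvw, hve, hvv⟩ := exists_aniso hB hn (w := w) hee
    have hev := hB.frm.eq_zero_comm.1 hve
    have hwv := hB.frm.eq_zero_comm.1 hvw
    have hN : ∀ a : F, a ≠ 0 → ∃ d : F, d ≠ 0 ∧ a * σ a * B v v + d * σ d * B e e = 0 := by
      intro a ha
      have h1 : (-(a * a ^ q * B v v / B e e)) ^ q = -(a * a ^ q * B v v / B e e) := by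
        rw [neg_pow_q hB.card, div_pow, mul_pow, norm_pow_q hB.card, self_fixed hB, self_fixed hB]
      have h2 : -(a * a ^ q * B v v / B e e) ≠ 0 :=
        neg_ne_zero.2 (div_ne_zero (mul_ne_zero (mul_ne_zero ha (pow_ne_zero _ ha)) hvv) hee)
      obtain ⟨d, hd, hd'⟩ := exists_norm_eq_ne hB.card h1 h2
      refine ⟨d, hd, ?_⟩
      rw [hB.sig, hB.sig, hd']
      field_simp
      ring
    refine ⟨v, ?_, fun a ha => ?_⟩
    · obtain ⟨d, hd, hd'⟩ := hN 1 one_ne_zero
      refine ⟨d, ?_, ?_⟩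
      · rw [hB.frm.add_right, hB.frm.smul_right, hB.frm.add_left, hB.frm.add_left,
          hB.frm.smul_left, hB.frm.smul_left, hve, hev]
        rw [map_one] at hd'
        linear_combination hd'
      · rw [hB.frm.add_left, hB.frm.smul_left, hve, zero_add]
        exact mul_ne_zero hd hee
    · obtain ⟨d, hd, hd'⟩ := hN a ha
      refine ⟨d, ?_, ?_⟩
      · rw [hB.frm.add_right, hB.frm.add_right, hB.frm.smul_right, hB.frm.smul_right, hB.frm.add_left, hB.frm.add_left,
          hB.frm.add_left, hB.frm.add_left, hB.frm.add_left, hB.frm.add_left,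
          hB.frm.smul_left, hB.frm.smul_left, hB.frm.smul_left, hB.frm.smul_left, hB.frm.smul_left, hB.frm.smul_left,
          hve, hev, hw, hwe, hew', hwv, hvw]
        linear_combination hd'
      · rw [hB.frm.add_left, hB.frm.add_left, hB.frm.smul_left, hB.frm.smul_left, hve, hwe]
        rw [mul_zero, add_zero, zero_add]
        exact mul_ne_zero hd hee

omit [Fintype F] [FiniteDimensional F V] in
theorem N_e {g : End F V} {c : F} {e : V} (he : g e = c • e) : (g - c • (1 : End F V)) e = 0 := by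
  rw [LinearMap.sub_apply, LinearMap.smul_apply, Module.End.one_apply, he, sub_self]

omit [FiniteDimensional F V] in
theorem g_orth (hB : HS q σ B) {g : End F V} (hg : Isom B g) {c : F} (hc : c * σ c = 1) {e : V} (he : g e = c • e)
    (u : V) : B (g u) e = c * B u e := by
  have h1 := hg u e
  rw [he, hB.frm.smul_right] at h1
  linear_combination c * h1 - B (g u) e * hc

omit [FiniteDimensional F V] in
theorem N_orth (hB : HS q σ B) {g : End F V} (hg : Isom B g) {c : F} (hc : c * σ c = 1) {e : V} (he : g e = c • e)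
    (u : V) : B ((g - c • (1 : End F V)) u) e = 0 := by
  rw [LinearMap.sub_apply, LinearMap.smul_apply, Module.End.one_apply, hB.frm.sub_left, hB.frm.smul_left,
    g_orth hB hg hc he, sub_self]

omit [FiniteDimensional F V] in
theorem N_iso (hB : HS q σ B) (g : End F V) (c : F) {y : V} (hy : B y y = 0) :
    B ((g - c • (1 : End F V)) y) y = B (g y) y := by
  rw [LinearMap.sub_apply, LinearMap.smul_apply, Module.End.one_apply, hB.frm.sub_left, hB.frm.smul_left, hy,
    mul_zero, sub_zero]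

omit [FiniteDimensional F V] in
theorem not_mul (hB : HS q σ B) {g : End F V} {c : F} {e : V} (he0 : e ≠ 0) (he : g e = c • e)
    {w : V} (hw : B w w = 0) (hw' : B (g w) w ≠ 0) (t : F) : e ≠ t • w := by
  rintro rfl
  have ht : t ≠ 0 := by
    rintro rfl
    exact he0 (zero_smul _ _)
  rw [map_smul, smul_comm] at he
  have h1 := smul_right_injective V ht he
  apply hw'
  rw [h1, hB.frm.smul_left, hw, mul_zero]

/-- An eigenvector `e` is not orthogonal to all vectors of type I. -/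
theorem lemmaY (hB : HS q σ B) (hn : 4 ≤ finrank F V) {g : End F V} (hg : Isom B g) {c : F} (hc : c * σ c = 1) {e : V}
    (he0 : e ≠ 0) (he : g e = c • e) {w : V} (hw : B w w = 0) (hw' : B (g w) w ≠ 0) :
    ∃ x, B x x = 0 ∧ B (g x) x ≠ 0 ∧ B x e ≠ 0 := by
  classical
  by_cases hwe : B w e = 0
  swap
  · exact ⟨w, hw, hw', hwe⟩
  obtain ⟨v, ⟨d, hd, hd'⟩, h⟩ := key hB hn (not_mul hB he0 he hw hw') hw hwe
  by_contra hcon
  push Not at hcon
  have hcon' : ∀ x, B x x = 0 → B x e ≠ 0 → B (g x) x = 0 := fun x hx hxe => by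
    by_contra hx'
    exact hxe (hcon x hx hx')
  have hv : B ((g - c • (1 : End F V)) v) v = 0 := by
    have h1 := hcon' _ hd hd'
    rw [← N_iso hB g c hd, map_add, map_smul, N_e he, smul_zero, add_zero, hB.frm.add_right, hB.frm.smul_right,
      N_orth hB hg hc he, mul_zero, add_zero] at h1
    exact h1
  have h1 := norm_trick (B := B) (σ := σ) (fun x => (g - c • (1 : End F V)) x) (w := w) (v := v) (r := 1)
    (norms q (1 : F)) (by
      rw [card_norms hB.card (one_pow _) one_ne_zero]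
      have := two_le hB.card
      omega) (fun a ha => by rw [hB.sig]; exact mem_norms.1 ha) fun a ha => by
      have ha0 : a ≠ 0 := by
        rintro rfl
        have := mem_norms.1 ha
        rw [zero_mul] at this
        exact zero_ne_one this
      obtain ⟨d, hd, hd'⟩ := h a ha0
      have h1 := hcon' _ hd hd'
      rw [← N_iso hB g c hd, expand hB.frm _ (N_e he) (N_orth hB hg hc he)] at h1
      exact h1
  rw [hv, mul_zero, add_zero, N_iso hB g c hw] at h1
  exact hw' h1

/-- Two orthogonal eigenvectors, odd characteristic: there is a vector of type I which is orthogonal to none of them. -/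
theorem lemmaYY (hB : HS q σ B) (hn : 4 ≤ finrank F V) {g : End F V} (hg : Isom B g) {c' : F}
    (hc' : c' * σ c' = 1) {e₁ e₂ : V} (he0 : e₂ ≠ 0) (he₂ : g e₂ = c' • e₂)
    (h21 : B e₂ e₁ = 0) (h2 : (2 : F) ≠ 0) {w : V} (hw : B w w = 0) (hw' : B (g w) w ≠ 0) (hwe : B w e₁ ≠ 0) :
    ∃ x, B x x = 0 ∧ B (g x) x ≠ 0 ∧ B x e₁ ≠ 0 ∧ B x e₂ ≠ 0 := by
  classical
  by_cases hwe2 : B w e₂ = 0
  swap
  · exact ⟨w, hw, hw', hwe, hwe2⟩
  obtain ⟨v, -, h⟩ := key hB hn (not_mul hB he0 he₂ hw hw') hw hwe2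
  by_contra hcon
  push Not at hcon
  have hcon' : ∀ x, B x x = 0 → B x e₁ ≠ 0 → B x e₂ ≠ 0 → B (g x) x = 0 := fun x hx hx1 hx2 => by
    by_contra hx'
    exact hx2 (hcon x hx hx' hx1)
  have hq : 3 ≤ q := by
    have h3 := two_le hB.card
    by_contra h4
    have h5 : q = 2 := by omega
    have h6 : ((Fintype.card F : ℕ) : F) = 0 := Nat.cast_card_eq_zero F
    rw [hB.card, h5] at h6
    have h7 : (2 : F) * 2 = 0 := by
      have : ((2 ^ 2 : ℕ) : F) = 2 * 2 := by norm_num
      rw [← this]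
      exact h6
    exact h2 (mul_self_eq_zero.1 h7)
  have main : ∀ r : F, r ^ q = r → r ≠ 0 →
      B ((g - c' • (1 : End F V)) w) w + r * B ((g - c' • (1 : End F V)) v) v = 0 := by
    intro r hr hr0
    refine norm_trick (B := B) (σ := σ) (fun x => (g - c' • (1 : End F V)) x) (w := w) (v := v) (r := r)
      ((norms q r).filter fun a => B w e₁ + a * B v e₁ ≠ 0) ?_
      (fun a ha => by rw [hB.sig]; exact mem_norms.1 (Finset.mem_filter.1 ha).1) fun a ha => ?_
    · have h3 := Finset.card_filter_add_card_filter_not (s := norms q r) (fun a => B w e₁ + a * B v e₁ ≠ 0)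
      have h4 : ((norms q r).filter fun a => ¬ (B w e₁ + a * B v e₁ ≠ 0)).card ≤ 1 := by
        rw [Finset.card_le_one]
        intro a ha b hb
        have ha' := not_not.1 (Finset.mem_filter.1 ha).2
        have hb' := not_not.1 (Finset.mem_filter.1 hb).2
        have hv : B v e₁ ≠ 0 := by
          intro h0
          rw [h0, mul_zero, add_zero] at ha'
          exact hwe ha'
        apply mul_right_cancel₀ hv
        linear_combination ha' - hb'
      rw [card_norms hB.card hr hr0] at h3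
      omega
    · obtain ⟨ha1, ha2⟩ := Finset.mem_filter.1 ha
      have ha0 : a ≠ 0 := by
        rintro rfl
        have := mem_norms.1 ha1
        rw [zero_mul] at this
        exact hr0 this.symm
      obtain ⟨d, hd, hd'⟩ := h a ha0
      have h1 := hcon' _ hd (by
        rw [hB.frm.add_left, hB.frm.add_left, hB.frm.smul_left, hB.frm.smul_left, h21, mul_zero, add_zero]
        exact ha2) hd'
      rw [← N_iso hB g c' hd, expand hB.frm _ (N_e he₂) (N_orth hB hg hc' he₂)] at h1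
      exact h1
  have h3 := main 1 (one_pow _) one_ne_zero
  have h4 := main (-1) (by rw [neg_pow_q hB.card, one_pow]) (neg_ne_zero.2 one_ne_zero)
  rw [N_iso hB g c' hw] at h3 h4
  have h5 : 2 * B (g w) w = 0 := by linear_combination h3 + h4
  exact hw' ((mul_eq_zero.1 h5).resolve_left h2)

variable {g : End F V} {w : V} {U : Submodule F V} {g₁ : End F U} {b : U → F} {c : F}

omit [Fintype F] in
/-- (2) if `g₁` is a scalar then it is an eigenvalue of `g` with a large eigenspace. -/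
theorem ker_large (h : Step B g w U g₁ b) (hc : g₁ = c • (1 : End F U)) :
    finrank F U ≤ finrank F (LinearMap.ker (g - c • (1 : End F V))) + 1 := by
  have h1 := LinearMap.finrank_range_add_finrank_ker ((g - c • (1 : End F V)).domRestrict U)
  have h2 : finrank F (LinearMap.range ((g - c • (1 : End F V)).domRestrict U)) ≤ 1 := by
    have : LinearMap.range ((g - c • (1 : End F V)).domRestrict U) ≤ F ∙ (g w) := by
      rintro _ ⟨v, rfl⟩
      rw [LinearMap.domRestrict_apply, LinearMap.sub_apply, LinearMap.smul_apply, Module.End.one_apply, h.eq, hc]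
      rw [LinearMap.smul_apply, Module.End.one_apply, Submodule.coe_smul, add_sub_cancel_left]
      exact Submodule.smul_mem _ _ (Submodule.mem_span_singleton_self _)
    exact (Submodule.finrank_mono this).trans (finrank_span_le_one _)
  have h3 : finrank F (LinearMap.ker ((g - c • (1 : End F V)).domRestrict U)) ≤
      finrank F (LinearMap.ker (g - c • (1 : End F V))) := by
    rw [← Submodule.finrank_map_subtype_eq U]
    apply Submodule.finrank_mono
    rintro _ ⟨v, hv, rfl⟩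
    exact hv
  omega

/-- (1') if `w` is not orthogonal to an eigenvector with eigenvalue `c` then `g₁ ≠ c`. -/
theorem ne_scalar (hB : HS q σ B) (hg : Isom B g) (h : Step B g w U g₁ b) (hU : finrank F U + 2 = finrank F V)
    (hr : 2 ≤ finrank F (LinearMap.range (g - c • (1 : End F V)))) (hc : c * σ c = 1) {e : V} (he : g e = c • e)
    (hwe : B w e ≠ 0) : g₁ ≠ c • (1 : End F U) := by
  intro h1
  have hc0 : c ≠ 0 := left_ne_zero_of_mul_eq_one hc
  have h2 : U ≤ LinearMap.ker (g - c • (1 : End F V)) := by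
    intro v hv
    have h3 := h.eq ⟨v, hv⟩
    rw [h1, LinearMap.smul_apply, Module.End.one_apply, Submodule.coe_smul] at h3
    have h4 : (g - c • (1 : End F V)) v = b ⟨v, hv⟩ • g w := by
      rw [LinearMap.sub_apply, LinearMap.smul_apply, Module.End.one_apply]
      rw [sub_eq_iff_eq_add, add_comm]
      exact h3
    have h5 := N_orth hB hg hc he v
    rw [h4, hB.frm.smul_left, g_orth hB hg hc he] at h5
    have h6 := (mul_eq_zero.1 h5).resolve_right (mul_ne_zero hc0 hwe)
    rw [LinearMap.mem_ker, h4, h6, zero_smul]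
  have h3 : U < LinearMap.ker (g - c • (1 : End F V)) := by
    refine lt_of_le_of_ne h2 ?_
    intro h4
    have h5 : e ∈ U := by rw [h4]; exact N_e he
    exact hwe (hB.frm.eq_zero_comm.1 ((h.mem e).1 h5).1)
  have h4 := Submodule.finrank_lt_finrank_of_lt h3
  have h5 := LinearMap.finrank_range_add_finrank_ker (g - c • (1 : End F V))
  omega

omit [FiniteDimensional F V] in
/-- (1b) if `w` is not orthogonal to an eigenvector with eigenvalue `c`, the eigenspace has dimension at least 2 and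
`g₁` is scalar then `g₁ = c`. -/
theorem eq_of_scalar (hB : HS q σ B) (hg : Isom B g) (h : Step B g w U g₁ b)
    (hk : 2 ≤ finrank F (LinearMap.ker (g - c • (1 : End F V)))) (hc : c * σ c = 1) {e : V} (he : g e = c • e)
    (hwe : B w e ≠ 0) {c' : F} (h1 : g₁ = c' • (1 : End F U)) : c' = c := by
  have hc0 : c ≠ 0 := left_ne_zero_of_mul_eq_one hc
  have hew : B e w ≠ 0 := fun h => hwe (hB.frm.eq_zero_comm.1 h)
  -- an eigenvector in `U`
  obtain ⟨f, hf, hfe⟩ : ∃ f ∈ LinearMap.ker (g - c • (1 : End F V)), f ∉ F ∙ e := by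
    by_contra hcon
    push Not at hcon
    have h2 : LinearMap.ker (g - c • (1 : End F V)) ≤ F ∙ e := hcon
    have h3 := (Submodule.finrank_mono h2).trans (finrank_span_le_one e)
    omega
  have hgf : g f = c • f := by
    rw [LinearMap.mem_ker, LinearMap.sub_apply, LinearMap.smul_apply, Module.End.one_apply, sub_eq_zero] at hf
    exact hf
  obtain ⟨u, hu⟩ : ∃ u, u = f - (B f w / B e w) • e := ⟨_, rfl⟩
  have hgu : g u = c • u := by rw [hu, map_sub, map_smul, hgf, he, smul_sub, smul_comm]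
  have hu0 : u ≠ 0 := by
    rw [hu]
    intro h0
    apply hfe
    rw [sub_eq_zero] at h0
    rw [h0]
    exact Submodule.smul_mem _ _ (Submodule.mem_span_singleton_self _)
  have huw : B u w = 0 := by
    rw [hu, hB.frm.sub_left, hB.frm.smul_left, div_mul_cancel₀ _ hew, sub_self]
  have huU : u ∈ U := by
    rw [h.mem]
    refine ⟨huw, ?_⟩
    rw [hB.frm.eq_zero_comm, g_orth hB hg hc hgu, hB.frm.eq_zero_comm.1 huw, mul_zero]
  have h3 := h.eq ⟨u, huU⟩
  rw [h1, LinearMap.smul_apply, Module.End.one_apply, Submodule.coe_smul] at h3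
  rw [hgu] at h3
  have h4 := congrArg (fun x => B x w) h3
  simp only at h4
  rw [hB.frm.smul_left, hB.frm.add_left, hB.frm.smul_left, hB.frm.smul_left, huw, mul_zero, mul_zero, zero_add] at h4
  have h5 := (mul_eq_zero.1 h4.symm).resolve_right h.ne
  rw [h5, zero_smul, add_zero] at h3
  exact (smul_left_injective F hu0 h3).symm

/-- The scalar `g₁` has norm one. -/
theorem norm_scalar (hB : HS q σ B) (hg : Isom B g) (hn : 4 ≤ finrank F V) (h : Step B g w U g₁ b)
    (h1 : g₁ = c • (1 : End F U)) : c * σ c = 1 := by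
  obtain ⟨hU, hd⟩ := Cfsg.Agent.H951.OreU.Step.hs hB hg h
  have h2 : 0 < finrank F U := by omega
  obtain ⟨u, hu⟩ := Module.finrank_pos_iff_exists_ne_zero.1 h2
  obtain ⟨v, hv⟩ : ∃ v : U, res B U u v ≠ 0 := by
    by_contra hcon
    push Not at hcon
    exact hu (hU.nd u hcon)
  have h3 := h.isom u v
  rw [h1, LinearMap.smul_apply, LinearMap.smul_apply, Module.End.one_apply, Module.End.one_apply,
    hU.frm.smul_left, hU.frm.smul_right] at h3
  apply mul_right_cancel₀ hv
  rw [one_mul, mul_assoc]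
  exact h3

/-- **T7b**: a good first step. -/
theorem exists_good_step (hB : HS q σ B) {g : End F V} (hg : Isom B g) (_hdet : LinearMap.det g = 1)
    (hn : 4 ≤ finrank F V) (hr : ∀ c : F, 2 ≤ finrank F (LinearMap.range (g - c • (1 : End F V)))) :
    ∃ (w : V) (U : Submodule F V) (g₁ : End F U) (b : U → F), Step B g w U g₁ b ∧
      ((∀ c : F, g₁ ≠ c • (1 : End F U)) ∨ (finrank F V = 4 ∧ ∃ c : F, g₁ = c • (1 : End F U) ∧ c ^ 2 ≠ 1)) := by
  by_contra hcon
  push Not at hcon
  -- every step is scalar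
  have hsc : ∀ (w : V) (U : Submodule F V) (g₁ : End F U) (b : U → F), Step B g w U g₁ b →
      ∃ c : F, g₁ = c • (1 : End F U) ∧ (finrank F V = 4 → c ^ 2 = 1) := by
    intro w U g₁ b h
    obtain ⟨⟨c, hc⟩, h2⟩ := hcon w U g₁ b h
    exact ⟨c, hc, fun h4 => h2 h4 c hc⟩
  have hns : ∀ c : F, g ≠ c • (1 : End F V) := by
    rintro c rfl
    have := hr c
    rw [sub_self, LinearMap.range_zero, finrank_bot] at this
    omega
  have hker : ∀ c : F, finrank F (LinearMap.ker (g - c • (1 : End F V))) ≥ 1 → ∃ e : V, e ≠ 0 ∧ g e = c • e := by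
    intro c hc
    obtain ⟨⟨e, he⟩, he0⟩ := Module.finrank_pos_iff_exists_ne_zero.1
      (show 0 < finrank F (LinearMap.ker (g - c • (1 : End F V))) from hc)
    refine ⟨e, fun h0 => he0 (Subtype.ext h0), ?_⟩
    rw [LinearMap.mem_ker, LinearMap.sub_apply, LinearMap.smul_apply, Module.End.one_apply, sub_eq_zero] at he
    exact he
  -- first step
  obtain ⟨w, hw, hw'⟩ := Cfsg.Agent.H951.OreU.exists_typeI hB hg hns
  obtain ⟨U, g₁, b, h⟩ := Cfsg.Agent.H951.OreU.exists_step hB hg hw hw'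
  obtain ⟨c, hc, hc4⟩ := hsc w U g₁ b h
  have hc1 := norm_scalar hB hg hn h hc
  have hd := (Cfsg.Agent.H951.OreU.Step.hs hB hg h).2
  have hk := ker_large h hc
  obtain ⟨e₁, he₁0, he₁⟩ := hker c (by omega)
  -- second vector
  obtain ⟨x, hx, hx', hxe⟩ := lemmaY hB hn hg hc1 he₁0 he₁ hw hw'
  obtain ⟨U', g₁', b', h'⟩ := Cfsg.Agent.H951.OreU.exists_step hB hg hx hx'
  obtain ⟨c', hc', hc4'⟩ := hsc x U' g₁' b' h'
  have hc1' := norm_scalar hB hg hn h' hc'
  have hd' := (Cfsg.Agent.H951.OreU.Step.hs hB hg h').2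
  have hk' := ker_large h' hc'
  have hne : c' ≠ c := by
    rintro rfl
    exact ne_scalar hB hg h' hd' (hr c') hc1 he₁ hxe hc'
  obtain ⟨e₂, he₂0, he₂⟩ := hker c' (by omega)
  have hn4 : finrank F V = 4 := by
    by_contra h5
    exact hne (eq_of_scalar hB hg h' (by omega) hc1 he₁ hxe hc')
  have hcc := hc4 hn4
  have hcc' := hc4' hn4
  have h2 : (2 : F) ≠ 0 := by
    intro h2
    apply hne
    have h3 : (c' - c) ^ 2 = 0 := by linear_combination hcc + hcc' + (1 - c * c') * h2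
    exact sub_eq_zero.1 ((pow_eq_zero_iff two_ne_zero).1 h3)
  have h21 : B e₂ e₁ = 0 := by
    have h3 := g_orth hB hg hc1 he₁ e₂
    rw [he₂, hB.frm.smul_left] at h3
    have h4 : (c' - c) * B e₂ e₁ = 0 := by linear_combination h3
    exact (mul_eq_zero.1 h4).resolve_left (sub_ne_zero.2 hne)
  obtain ⟨y, hy, hy', hy1, hy2⟩ := lemmaYY hB hn hg hc1' he₂0 he₂ h21 h2 hx hx' hxe
  obtain ⟨U'', g₁'', b'', h''⟩ := Cfsg.Agent.H951.OreU.exists_step hB hg hy hy'
  obtain ⟨c'', hc'', hc4''⟩ := hsc y U'' g₁'' b'' h''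
  have hd'' := (Cfsg.Agent.H951.OreU.Step.hs hB hg h'').2
  have h3 : c'' ≠ c := by
    rintro rfl
    exact ne_scalar hB hg h'' hd'' (hr c'') hc1 he₁ hy1 hc''
  have h4 : c'' ≠ c' := by
    rintro rfl
    exact ne_scalar hB hg h'' hd'' (hr c'') hc1' he₂ hy2 hc''
  have h5 := hc4'' hn4
  have h6 : (c'' - c) * (c'' - c') = 0 := by
    have h7 : c' + c = 0 := by
      have h8 : (c' - c) * (c' + c) = 0 := by linear_combination hcc' - hcc
      exact (mul_eq_zero.1 h8).resolve_left (sub_ne_zero.2 hne)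
    linear_combination h5 - hcc + (c - c'') * h7
  rcases mul_eq_zero.1 h6 with h6 | h6
  · exact h3 (sub_eq_zero.1 h6)
  · exact h4 (sub_eq_zero.1 h6)

end Cfsg.Agent.H954.OreB
end

-- part: H98/Ore/Main
section
/-!
# Every isometry of determinant one is a commutator
-/

set_option autoImplicit false
set_option linter.unusedSectionVars false

namespace Cfsg.Agent.H98.Ore

open Module Polynomial Cfsg.Agent.H951 Matrix

universe u v

variable {F : Type u} {V : Type v} [Field F] [Fintype F] [AddCommGroup V] [Module F V] [FiniteDimensional F V]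
  {q : ℕ} {σ : F →+* F} {B : V → V → F}

theorem hypRest : Cfsg.Agent.H984.OreFinal.HypRest.{u, v} F q σ where
  criterion hB _ hg hdet _ _ _ hι _ _ _ hP hPZ hh hZ0 hZ h1 h2 := criterion hB hg hdet hι hP hPZ hh hZ0 hZ h1 h2
  cor_det hB _ hg _ _ _ hι _ hP h0 := cor_det hB hg hι hP h0
  comm_scalar hB _ hl hln := Cfsg.Agent.H734.OreT5.comm_scalar hB hl hln
  of_good hB hn _ hg hdet h := comm_of_good hB hn hg hdet h

/-- The case of a step to a scalar `c` on a plane, `c ^ 2 ≠ 1`, in dimension 4. -/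
lemma good_four (hB : HS q σ B) {g : End F V} (hg : Isom B g) (hdet : LinearMap.det g = 1) (hn : finrank F V = 4)
    {w : V} {U : Submodule F V} {g₁ : End F U} {b : U → F} (h : Step B g w U g₁ b) {c : F}
    (hg₁ : g₁ = c • (1 : End F U)) (hc : c ^ 2 ≠ 1) : Good B g := by
  obtain ⟨hU, hUn⟩ := Cfsg.Agent.H951.OreU.Step.hs hB hg h
  obtain ⟨v, v', hv⟩ := Cfsg.Agent.H984.Ore.exists_frame hU (m := 1) (Or.inl (by omega))
  have hP₁ : Cor (res B U) g₁ (Matrix.of fun _ _ : Fin 1 => c) := by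
    refine ⟨v, v', hv, fun i j => ?_⟩
    rw [hg₁, LinearMap.smul_apply, Module.End.one_apply, hU.smul_left, hv.dual, if_pos (Subsingleton.elim _ _),
      mul_one, Matrix.of_apply]
  obtain ⟨s₀, hs₀, hs₀'⟩ := LieClassical.HermBasic.exists_trace_zero_ne hB.card
  have hs₀σ : σ s₀ = -s₀ := by
    rw [hB.sig]; exact (neg_eq_of_add_eq_zero_right hs₀').symm
  -- c ≠ 0
  have hc0 : c ≠ 0 := by
    rintro rfl
    have h1 := hv.dual 0 0
    rw [if_pos rfl] at h1
    have h2 := h.isom (v 0) (v' 0)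
    rw [hg₁, zero_smul] at h2
    rw [← h2, LinearMap.zero_apply, LinearMap.zero_apply, hU.zero_left] at h1
    exact zero_ne_one h1
  have hγ := h.ne
  set γ := B (g w) w with hγd
  have hcard : finrank F V = 2 * Fintype.card (Unit ⊕ Fin 1) := by
    rw [hn]; simp
  have hdetP : ∀ (s : F) (R : Matrix Unit (Fin 1) F),
      (Matrix.fromBlocks (Matrix.of fun _ _ : Unit => s * γ) R 0 (Matrix.of fun _ _ : Fin 1 => c)).det = s * γ * c := by
    intro s R
    rw [Matrix.det_fromBlocks_zero₂₁, Matrix.det_unique, Matrix.det_unique]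
    rfl
  obtain ⟨R₀, -, hR₀⟩ := Cfsg.Agent.H24.Ore.cor_step hB hg h hP₁ s₀ hs₀σ
  rw [← hγd] at hR₀
  have hd0 : s₀ * γ * c ≠ 0 := mul_ne_zero (mul_ne_zero hs₀ hγ) hc0
  have hfix := cor_det hB hg hcard hR₀ (by rw [hdetP]; exact hd0)
  rw [hdetP, hdet, one_mul] at hfix
  set d₀ := s₀ * γ * c with hd₀
  obtain ⟨R, -, hR⟩ := Cfsg.Agent.H24.Ore.cor_step hB hg h hP₁ (s₀ * d₀⁻¹) (by
    rw [map_mul, hs₀σ, map_inv₀, ← hfix, neg_mul])
  rw [← hγd] at hR
  have h1 : s₀ * d₀⁻¹ * γ * c = 1 := by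
    rw [show s₀ * d₀⁻¹ * γ * c = (s₀ * γ * c) * d₀⁻¹ by ring, ← hd₀, mul_inv_cancel₀ hd0]
  have h2 : s₀ * d₀⁻¹ * γ = c⁻¹ := eq_inv_of_mul_eq_one_left h1
  refine ⟨Unit ⊕ Fin 1, inferInstance, inferInstance, _, Or.inl hcard, hR, ?_, c⁻¹, X - C c, ?_, ?_⟩
  · rw [hdetP, h1]
  · rw [Matrix.charpoly_fromBlocks_zero₂₁]
    have e1 : ∀ (κ : Type) [Fintype κ] [DecidableEq κ] [Unique κ] (a : F),
        (Matrix.of fun _ _ : κ => a).charpoly = X - C a := by
      intro κ _ _ _ a
      rw [Matrix.charpoly, Matrix.det_unique, Matrix.charmatrix_apply_eq]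
      rfl
    rw [e1 Unit, e1 (Fin 1), h2]
  · rw [eval_sub, eval_X, eval_C]
    intro h3
    apply hc
    have h4 : c⁻¹ = c := sub_eq_zero.1 h3
    calc c ^ 2 = c * c := sq c
      _ = c⁻¹ * c := by rw [h4]
      _ = 1 := inv_mul_cancel₀ hc0

theorem comm_all (hB : HS q σ B) (hn : 3 ≤ finrank F V) (hex : ¬ (finrank F V = 3 ∧ q = 2)) {g : End F V}
    (hg : Isom B g) (hdet : LinearMap.det g = 1) : IsComm B g := by
  have hq2 := LieClassical.HermBasic.two_le hB.card
  by_cases hs : ∃ c : F, g = c • (1 : End F V)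
  · obtain ⟨c, rfl⟩ := hs
    apply Cfsg.Agent.H734.OreT5.comm_scalar hB
    · have hnt : Nontrivial V := Module.finrank_pos_iff.1 (by omega : 0 < finrank F V)
      obtain ⟨v, hv⟩ := exists_ne (0 : V)
      obtain ⟨y, hy⟩ : ∃ y, B v y ≠ 0 := by
        by_contra hcon
        push Not at hcon
        exact hv (hB.nd v hcon)
      have h1 := hg v y
      rw [LinearMap.smul_apply, LinearMap.smul_apply, Module.End.one_apply, Module.End.one_apply, hB.smul_left,
        hB.smul_right, ← mul_assoc] at h1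
      have h2 : c * σ c = 1 := mul_right_cancel₀ hy (by rw [h1, one_mul])
      rw [pow_succ', ← hB.sig, h2]
    · rwa [LinearMap.det_smul, map_one, mul_one] at hdet
  push Not at hs
  rcases Nat.lt_or_ge (finrank F V) 4 with h4 | h4
  · have h3 : finrank F V = 3 := by omega
    have hq3 : 3 ≤ q := by
      rcases Nat.lt_or_ge q 3 with h | h
      · exact absurd ⟨h3, by omega⟩ hex
      · exact h
    exact Cfsg.Agent.H984.OreFinal.comm_three hypRest hB hq3 h3 hg hdet hs
  by_cases h1 : ∃ c : F, finrank F (LinearMap.range (g - c • (1 : End F V))) = 1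
  · obtain ⟨c, hc⟩ := h1
    exact Cfsg.Agent.H984.OreFinal.comm_rank_one hypRest hB h4 hg hdet hc
  push Not at h1
  have hr : ∀ c : F, 2 ≤ finrank F (LinearMap.range (g - c • (1 : End F V))) := by
    intro c
    by_contra hcon
    have h5 : finrank F (LinearMap.range (g - c • (1 : End F V))) = 0 := by
      have := h1 c
      omega
    have h6 := Submodule.finrank_eq_zero.1 h5
    rw [LinearMap.range_eq_bot, sub_eq_zero] at h6
    exact hs c h6
  apply comm_of_good hB h4 hg hdet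
  obtain ⟨w, U, g₁, b, hst, h2 | ⟨h2, c, hc1, hc2⟩⟩ := Cfsg.Agent.H954.OreB.exists_good_step hB hg hdet h4 hr
  · rcases Nat.even_or_odd' (finrank F V) with ⟨m, hm | hm⟩
    · exact Cfsg.Agent.H801.Ore.good_even hB hg hdet hm hst h2
    · exact Cfsg.Agent.H984.OreFinal.good_odd hB hg hm hst h2
  · exact good_four hB hg hdet h2 hst hc1 hc2

end Cfsg.Agent.H98.Ore
end
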