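import Cfsg.Agent.H951.Form
import Cfsg.Agent.LieClassical.HermBasic
set_option linter.all false

/-!
# S2446 (commutators in `SU_n(q)`) : definitions

`B` is a nondegenerate hermitian form (linear in the first variable) on `V` over the field `F` with `q²` elements,
`σ a = a ^ q`.  Isometries are `x : End F V` with `Cfsg.Agent.H951.Isom B x`.
-/

set_option autoImplicit false

namespace Cfsg.Agent.H98.Ore

open Module Polynomial Cfsg.Agent.H951

section

variable {F V : Type*} [Field F] [AddCommGroup V] [Module F V]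

/-- `B` is a nondegenerate hermitian form over the field `F` with `q²` elements, `σ a = a ^ q`. -/
structure HS [Fintype F] (q : ℕ) (σ : F →+* F) (B : V → V → F) : Prop where
  card : Fintype.card F = q ^ 2
  sig : ∀ a, σ a = a ^ q
  frm : Frm σ 1 B
  nd : ∀ u, (∀ v, B u v = 0) → u = 0

/-- restriction of a form to a subspace -/
def res (B : V → V → F) (U : Submodule F V) : U → U → F := fun u v => B u v

/-- `g` is a commutator `h z h⁻¹ z⁻¹` of isometries of determinant one -/
def IsComm (B : V → V → F) (g : End F V) : Prop :=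
  ∃ z h : End F V, Isom B z ∧ Isom B h ∧ LinearMap.det z = 1 ∧ LinearMap.det h = 1 ∧ g * (z * h) = h * z

/-- a frame: two totally isotropic families in duality -/
structure Fr (B : V → V → F) {ι : Type*} [DecidableEq ι] (w w' : ι → V) : Prop where
  ww : ∀ i j, B (w i) (w j) = 0
  dual : ∀ i j, B (w i) (w' j) = if i = j then 1 else 0
  ww' : ∀ i j, B (w' i) (w' j) = 0

/-- `P` is a corner of `g` : the matrix `P i j = B (g (w j)) (w' i)` for some frame `w, w'` -/
def Cor (B : V → V → F) (g : End F V) {ι : Type*} [DecidableEq ι] (P : Matrix ι ι F) : Prop :=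
  ∃ w w' : ι → V, Fr B w w' ∧ ∀ i j, B (g (w j)) (w' i) = P i j

/-- one step of the reduction: `w` isotropic, `γ = B (g w) w ≠ 0`, `U = ⟨w, g w⟩^⊥`, `g v = g₁ v + b v • g w` for `v ∈ U` -/
structure Step (B : V → V → F) (g : End F V) (w : V) (U : Submodule F V) (g₁ : End F U) (b : U → F) : Prop where
  iso : B w w = 0
  ne : B (g w) w ≠ 0
  mem : ∀ v, v ∈ U ↔ B v w = 0 ∧ B v (g w) = 0
  isom : Isom (res B U) g₁
  eq : ∀ v : U, g v = (g₁ v : V) + b v • g w

/-- `g` has a corner of determinant one with a simple eigenvalue in `F` -/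
def Good (B : V → V → F) (g : End F V) : Prop :=
  ∃ (ι : Type) (_ : Fintype ι) (_ : DecidableEq ι) (P : Matrix ι ι F),
    (finrank F V = 2 * Fintype.card ι ∨ finrank F V = 2 * Fintype.card ι + 1) ∧ Cor B g P ∧ P.det = 1 ∧
    ∃ (x : F) (p : F[X]), P.charpoly = (X - C x) * p ∧ p.eval x ≠ 0

end

end Cfsg.Agent.H98.Ore
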